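import Groth.Agent.FlatB12.EssLocal
import Groth.Agent.FlatMisc.ValuationDim
import Groth.Agent.FibDim.Alg
import Groth.Agent.FibDim.AffineSpaceFibre
import Groth.Agent.UnivOpen.UnibranchGoingDown
import Groth.Agent.UnivOpen.UnibranchAlg

/-!
# Generic points of hypersurfaces over valuation rings

In a finite type domain over a valuation ring, a function which vanishes on no component of the special
fibre has a zero on the generic fibre specializing to any given zero in the special fibre.
-/

set_option autoImplicit false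
set_option linter.style.haveILetI false

universe u

open AlgebraicGeometry CategoryTheory TensorProduct IsLocalRing

namespace Groth.Agent.FlatB12

/-- Going down along a quasi-finite dominant extension of a normal domain. -/
theorem exists_le_over_of_quasiFinite {P D : Type u} [CommRing P] [IsDomain P] [IsIntegrallyClosed P]
    [CommRing D] [IsDomain D] [Algebra P D] [Algebra.FiniteType P D] [Algebra.QuasiFinite P D]
    (hinj : Function.Injective (algebraMap P D)) (Q : Ideal D) [Q.IsPrime] (p₀ : Ideal P) [p₀.IsPrime]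
    (hle : p₀ ≤ Q.under P) : ∃ R : Ideal D, R.IsPrime ∧ R ≤ Q ∧ R.under P = p₀ := by
  obtain ⟨S', hS', r, hr, hbij⟩ :=
    Algebra.QuasiFiniteAt.exists_fg_and_exists_notMem_and_awayMap_bijective (R := P) Q
  haveI : Module.Finite P S' := ⟨(Submodule.fg_top _).mpr hS'⟩
  haveI : Algebra.IsIntegral P S' := Algebra.IsIntegral.of_finite P S'
  let n := Q.comap S'.val.toRingHom
  let p := Q.under P
  have hnp : n.comap (algebraMap P S') = p := by
    ext a
    exact Iff.rfl
  let M := Algebra.algebraMapSubmonoid S' p.primeCompl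
  have hMn : Disjoint (M : Set S') n := by
    rw [Set.disjoint_left]
    rintro _ ⟨a, ha, rfl⟩ h
    exact ha h
  have hSinj : Function.Injective (algebraMap P S') := fun a b h => hinj (congrArg Subtype.val h)
  have hM0 : M ≤ nonZeroDivisors S' := by
    rintro _ ⟨a, ha, rfl⟩
    refine mem_nonZeroDivisors_of_ne_zero fun h => ha ?_
    rw [hSinj (h.trans (map_zero _).symm)]
    exact p.zero_mem
  let A₀ := Localization.AtPrime p
  let B₀ := Localization M
  haveI : IsDomain B₀ := IsLocalization.isDomain_localization hM0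
  haveI : IsDomain A₀ := IsLocalization.isDomain_localization p.primeCompl_le_nonZeroDivisors
  haveI : IsIntegrallyClosed A₀ :=
    isIntegrallyClosed_of_isLocalization A₀ p.primeCompl p.primeCompl_le_nonZeroDivisors
  letI : Algebra A₀ B₀ := localizationAlgebra p.primeCompl S'
  haveI : IsScalarTower P A₀ B₀ := IsScalarTower.of_algebraMap_eq fun a => by
    rw [IsScalarTower.algebraMap_apply P S' B₀]
    exact (IsLocalization.map_eq _ a).symm
  haveI : Algebra.IsIntegral A₀ B₀ := ⟨isIntegral_localization⟩
  have hABinj : Function.Injective (algebraMap A₀ B₀) :=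
    localizationAlgebra_injective A₀ (M := p.primeCompl) B₀ hSinj
  haveI : (n.map (algebraMap S' B₀)).IsPrime :=
    IsLocalization.isPrime_of_isPrime_disjoint M B₀ n inferInstance hMn
  have hcmn' : (n.map (algebraMap S' B₀)).comap (algebraMap S' B₀) = n :=
    IsLocalization.under_map_of_isPrime_disjoint M B₀ inferInstance hMn
  have hn₀ : (n.map (algebraMap S' B₀)).comap (algebraMap A₀ B₀) = maximalIdeal A₀ := by
    refine IsLocalRing.eq_maximalIdeal (Ideal.isMaximal_def.2 ⟨Ideal.IsPrime.ne_top', fun J hJ => ?_⟩)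
    by_contra hJt
    refine hJ.not_ge (le_trans (IsLocalRing.le_maximalIdeal hJt) ?_)
    rw [← Localization.AtPrime.map_eq_maximalIdeal, Ideal.map_le_iff_le_comap, Ideal.comap_comap,
      ← IsScalarTower.algebraMap_eq, IsScalarTower.algebraMap_eq P S' B₀, ← Ideal.comap_comap,
      hcmn', hnp]
  haveI : (p₀.map (algebraMap P A₀)).IsPrime := Ideal.isPrime_map_of_isLocalizationAtPrime p hle
  obtain ⟨q₀, hq₀p, hq₀n, hq₀⟩ := UnivOpen.exists_prime_le_of_local_normalization (A := A₀) (D := A₀) (B := B₀)
    Function.injective_id hABinj (n.map (algebraMap S' B₀)) hn₀ (p₀.map (algebraMap P A₀))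
  have hcmn : (n.map (algebraMap S' B₀)).comap (algebraMap S' B₀) = n :=
    IsLocalization.under_map_of_isPrime_disjoint M B₀ inferInstance hMn
  let q := q₀.comap (algebraMap S' B₀)
  have hqn : q ≤ n :=
    (Ideal.comap_mono hq₀n).trans hcmn.le
  have hqp : q.comap (algebraMap P S') = p₀ := by
    rw [Ideal.comap_comap, ← IsScalarTower.algebraMap_eq, IsScalarTower.algebraMap_eq P A₀ B₀, ← Ideal.comap_comap,
      hq₀]
    exact Ideal.under_map_of_isLocalizationAtPrime p hle
  haveI : q.IsPrime := Ideal.IsPrime.comap _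
  -- move to `D` along the isomorphism away from `r`
  let φ := Localization.awayMapₐ S'.val r
  let e := RingEquiv.ofBijective φ.toRingHom hbij
  have hrq : Disjoint (Submonoid.powers r : Set S') (q : Set S') := by
    rw [Ideal.disjoint_powers_iff_notMem_of_isPrime]
    exact fun h => hr (hqn h)
  have hrn : Disjoint (Submonoid.powers r : Set S') (n : Set S') := by
    rw [Ideal.disjoint_powers_iff_notMem_of_isPrime]
    exact hr
  haveI hq' : (q.map (algebraMap S' (Localization.Away r))).IsPrime :=
    IsLocalization.isPrime_of_isPrime_disjoint _ _ q inferInstance hrq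
  have hcompat : ∀ s : S', e (algebraMap S' (Localization.Away r) s) =
      algebraMap D (Localization.Away (S'.val r)) (S'.val s) := fun s => by
    show φ (algebraMap S' (Localization.Away r) s) = _
    simp only [φ, Localization.awayMapₐ, IsLocalization.Away.mapₐ_apply, IsLocalization.Away.map, IsLocalization.map_eq]
    rfl
  let R' := (q.map (algebraMap S' (Localization.Away r))).comap e.symm.toRingHom
  let R := R'.comap (algebraMap D (Localization.Away (S'.val r)))
  have hcmq : (q.map (algebraMap S' (Localization.Away r))).comap (algebraMap S' (Localization.Away r)) = q :=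
    IsLocalization.under_map_of_isPrime_disjoint (Submonoid.powers r) (Localization.Away r) inferInstance hrq
  have hRS : R.comap S'.val.toRingHom = q := by
    conv_rhs => rw [← hcmq]
    ext s
    show e.symm (algebraMap D (Localization.Away (S'.val r)) (S'.val s)) ∈ q.map (algebraMap S' (Localization.Away r)) ↔
      algebraMap S' (Localization.Away r) s ∈ q.map (algebraMap S' (Localization.Away r))
    rw [← hcompat, RingEquiv.symm_apply_apply]
  refine ⟨R, inferInstance, fun x hx => ?_, ?_⟩
  · obtain ⟨⟨s, t⟩, hs⟩ := IsLocalization.surj (Submonoid.powers r)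
      (e.symm (algebraMap D (Localization.Away (S'.val r)) x))
    have hmem : s ∈ q := by
      rw [← hcmq, Ideal.mem_comap, ← hs]
      exact Ideal.mul_mem_right _ _ hx
    have h2 := congrArg e hs
    rw [map_mul, RingEquiv.apply_symm_apply, hcompat, hcompat, ← map_mul] at h2
    obtain ⟨c, hc⟩ := (IsLocalization.eq_iff_exists (Submonoid.powers (S'.val r)) _).1 h2
    have h3 : (c : D) * (x * S'.val t.1) ∈ Q := by
      rw [hc]
      exact Ideal.mul_mem_left _ _ (hqn hmem)
    refine (Ideal.IsPrime.mem_or_mem ‹_› ((Ideal.IsPrime.mem_or_mem ‹_› h3).resolve_left ?_)).resolve_right ?_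
    · obtain ⟨k, hk⟩ := c.2
      rw [← hk]
      exact fun h => hr (Ideal.IsPrime.mem_of_pow_mem ‹_› k h)
    · exact fun h => Set.disjoint_left.1 hrn t.2 h
  · rw [← hqp, ← hRS, Ideal.comap_comap]
    rfl

/-- Over a valuation ring, all fibre-generic points of an affine integral scheme have the generic degree. -/
theorem fd_eq_of_minimal {V C : Type u} [CommRing V] [IsDomain V] [ValuationRing V] [CommRing C] [IsDomain C]
    [Algebra V C] [Algebra.FiniteType V C] (hinj : Function.Injective (algebraMap V C)) (q : PrimeSpectrum C)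
    (hmin : ∀ q' : PrimeSpectrum C, q'.asIdeal ≤ q.asIdeal → q'.asIdeal.under V = q.asIdeal.under V → q' = q) :
    DimFormula.fd V q.asIdeal = DimFormula.fd V (⊥ : Ideal C) := by
  haveI : Module.Flat V C := by
    rw [Module.Flat.flat_iff_torsion_eq_bot_of_isBezout, eq_bot_iff]
    rintro x ⟨⟨c, hc⟩, hcx⟩
    rw [Submonoid.smul_def, Algebra.smul_def, mul_eq_zero] at hcx
    exact hcx.resolve_left fun h => nonZeroDivisors.ne_zero hc (hinj (h.trans (map_zero _).symm))
  haveI := FlatMisc.ValuationFP.algebra_finitePresentation (R := V) (A := C)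
  let f := Spec.map (CommRingCat.ofHom (algebraMap V C))
  haveI : Flat f := HasRingHomProperty.Spec_iff.2 (RingHom.flat_algebraMap_iff.2 inferInstance)
  haveI : LocallyOfFinitePresentation f :=
    HasRingHomProperty.Spec_iff.2 (RingHom.finitePresentation_algebraMap.2 inferInstance)
  let ξ : Spec (CommRingCat.of C) := (⟨⊥, Ideal.isPrime_bot⟩ : PrimeSpectrum C)
  let w : Spec (CommRingCat.of C) := q
  have hξ : ξ ⤳ w := (PrimeSpectrum.le_iff_specializes (⟨⊥, Ideal.isPrime_bot⟩ : PrimeSpectrum C) q).1 bot_le
  have hwmax : FibDim.FibMax f w := fun z hz hfz =>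
    hmin z ((PrimeSpectrum.le_iff_specializes z q).2 hz) (congrArg PrimeSpectrum.asIdeal hfz)
  have hξmax : FibDim.FibMax f ξ := FibDim.fibMax_of_maximal f fun z hz =>
    PrimeSpectrum.ext (le_bot_iff.1 ((PrimeSpectrum.le_iff_specializes z (⟨⊥, Ideal.isPrime_bot⟩ : PrimeSpectrum C)).2 hz))
  have h1 := Triage.FibMaxFlat.fibreDimAt_eq_of_specializes f hξ hwmax
  rw [FibDim.fibreDimAt_eq_rd f hwmax, FibDim.fibreDimAt_eq_rd f hξmax] at h1
  have h2 : FibDim.rd f ξ = FibDim.rd f w := by exact_mod_cast h1
  have e1 : FibDim.rd f ξ = DimFormula.fd V (⊥ : Ideal C) := rd_spec_eq_fd (A := V) (⟨⊥, Ideal.isPrime_bot⟩ : PrimeSpectrum C)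
  have e2 : FibDim.rd f w = DimFormula.fd V q.asIdeal := rd_spec_eq_fd (A := V) q
  omega

theorem fd_lt_of_lt {A C : Type u} [CommRing A] [CommRing C] [Algebra A C] [Algebra.FiniteType A C]
    {q r : PrimeSpectrum C} (hle : q.asIdeal ≤ r.asIdeal) (hne : q ≠ r) (he : q.asIdeal.under A = r.asIdeal.under A) :
    DimFormula.fd A r.asIdeal < DimFormula.fd A q.asIdeal := by
  rw [← rd_spec_eq_fd, ← rd_spec_eq_fd]
  exact FibDim.rd_lt _ ((PrimeSpectrum.le_iff_specializes q r).1 hle) hne (PrimeSpectrum.ext he)

theorem exists_over_bot_mem_aux {V D : Type u} [CommRing V] [IsDomain V] [ValuationRing V] [CommRing D] [IsDomain D]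
    [Algebra V D] [Algebra.FiniteType V D] (hinj : Function.Injective (algebraMap V D)) (Q : Ideal D) [Q.IsPrime]
    (hQ : Q.under V = maximalIdeal V) (g : D) (hg : g ∈ Q)
    (hmin : ∀ q ∈ ((maximalIdeal V).map (algebraMap V D)).minimalPrimes, g ∉ q) :
    ∃ R : Ideal D, R.IsPrime ∧ R ≤ Q ∧ g ∈ R ∧ R.under V = ⊥ := by
  haveI : FaithfulSMul V D := (faithfulSMul_iff_algebraMap_injective _ _).2 hinj
  set n := DimFormula.fd V (⊥ : Ideal D) with hn
  -- relative degrees of the zeros of `g` in the special fibre are `< n`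
  have hlt : ∀ r : PrimeSpectrum D, r.asIdeal.under V = maximalIdeal V → g ∈ r.asIdeal →
      DimFormula.fd V r.asIdeal < n := by
    intro r hr hgr
    have hle : (maximalIdeal V).map (algebraMap V D) ≤ r.asIdeal := Ideal.map_le_iff_le_comap.2 hr.ge
    obtain ⟨q, hq, hqr⟩ := Ideal.exists_minimalPrimes_le hle
    haveI := hq.1.1
    have hqV : q.under V = maximalIdeal V :=
      le_antisymm ((Ideal.comap_mono hqr).trans hr.le) (Ideal.map_le_iff_le_comap.1 hq.1.2)
    have hne : (⟨q, hq.1.1⟩ : PrimeSpectrum D) ≠ r := fun h => hmin q hq (by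
      rw [show q = r.asIdeal from congrArg PrimeSpectrum.asIdeal h]; exact hgr)
    have hmax := fd_eq_of_minimal hinj ⟨q, hq.1.1⟩ fun q' h1 h2 =>
      PrimeSpectrum.ext (le_antisymm h1 (hq.2 ⟨q'.2, Ideal.map_le_iff_le_comap.2 (h2.trans hqV).ge⟩ h1))
    exact hn ▸ hmax ▸ fd_lt_of_lt hqr hne (hqV.trans hr.symm)
  have hn0 : 0 < n := lt_of_le_of_lt (Nat.zero_le _) (hlt ⟨Q, ‹_›⟩ hQ hg)
  -- `D` over `V[T]`, with `T ↦ g`
  letI : Algebra (Polynomial V) D := (Polynomial.aeval (R := V) g).toRingHom.toAlgebra
  haveI : IsScalarTower V (Polynomial V) D :=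
    IsScalarTower.of_algebraMap_eq fun a => ((Polynomial.aeval (R := V) g).commutes a).symm
  haveI : Algebra.FiniteType (Polynomial V) D := Algebra.FiniteType.of_restrictScalars_finiteType V _ D
  let y : PrimeSpectrum (Polynomial V) := PrimeSpectrum.comap (algebraMap (Polynomial V) D) ⟨Q, ‹_›⟩
  have hyV : y.asIdeal.under V = maximalIdeal V := by
    show (Q.comap (algebraMap (Polynomial V) D)).comap (algebraMap V (Polynomial V)) = _
    rw [Ideal.comap_comap, ← IsScalarTower.algebraMap_eq]
    exact hQ
  have hdim : ringKrullDim (y.asIdeal.Fiber D) ≤ ((n - 1 : ℕ) : WithBot ℕ∞) := by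
    rw [← FlatMisc.ValuationDim.dim_fiber_eq, FibDim.topologicalKrullDim_fiber]
    refine iSup_le fun z => ?_
    let r : PrimeSpectrum D := z.1
    have hrV : r.asIdeal.under V = maximalIdeal V := by
      have h1 : r.asIdeal.comap (algebraMap (Polynomial V) D) = y.asIdeal := congrArg PrimeSpectrum.asIdeal z.2
      rw [← hyV, ← h1]
      show r.asIdeal.comap (algebraMap V D) = _
      rw [IsScalarTower.algebraMap_eq V (Polynomial V) D, ← Ideal.comap_comap]
    have hrg : g ∈ r.asIdeal := by
      have h1 : r.asIdeal.comap (algebraMap (Polynomial V) D) = y.asIdeal := congrArg PrimeSpectrum.asIdeal z.2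
      have hX : algebraMap (Polynomial V) D Polynomial.X = g := Polynomial.aeval_X g
      rw [← hX, ← Ideal.mem_comap, h1]
      show algebraMap (Polynomial V) D Polynomial.X ∈ Q
      rwa [hX]
    have h2 : DimFormula.fd (Polynomial V) r.asIdeal ≤ DimFormula.fd V r.asIdeal := by
      obtain ⟨t, ht⟩ := (DimFormula.le_fd_iff (Polynomial V) r.asIdeal _).1 le_rfl
      refine (DimFormula.le_fd_iff V r.asIdeal _).2 ⟨t, fun G hG => ?_⟩
      have h3 := ht (MvPolynomial.map (algebraMap V (Polynomial V)) G) (by rwa [MvPolynomial.aeval_map_algebraMap])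
      rw [MvPolynomial.mem_map_C_iff] at h3 ⊢
      intro d
      have h4 := h3 d
      rw [MvPolynomial.coeff_map] at h4
      show algebraMap V D _ ∈ r.asIdeal
      rw [IsScalarTower.algebraMap_apply V (Polynomial V) D]
      exact h4
    have h5 : FibDim.rd (Spec.map (CommRingCat.ofHom (algebraMap (Polynomial V) D))) z.1 ≤ n - 1 := by
      rw [show FibDim.rd (Spec.map (CommRingCat.ofHom (algebraMap (Polynomial V) D))) z.1 =
        DimFormula.fd (Polynomial V) r.asIdeal from rd_spec_eq_fd r]
      have := hlt r hrV hrg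
      omega
    exact WithBot.coe_le_coe.2 (ENat.natCast_le_natCast.2 h5)
  obtain ⟨m, hm, b, g', -, -, hg', hqf⟩ := FibDim.exists_quasiFinite (A := Polynomial V) (⟨Q, ‹_›⟩ : PrimeSpectrum D) (n - 1) hdim
  -- the quasi-finite map from `V[T][x]`
  let P := MvPolynomial (Fin m) (Polynomial V)
  letI : Algebra P D := (MvPolynomial.aeval (R := Polynomial V) b).toRingHom.toAlgebra
  let D' := Localization.Away g'
  haveI : Algebra.QuasiFinite P D' := hqf
  haveI : IsScalarTower (Polynomial V) P D :=
    IsScalarTower.of_algebraMap_eq fun a => ((MvPolynomial.aeval (R := Polynomial V) b).commutes a).symm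
  haveI : IsScalarTower V P D := IsScalarTower.of_algebraMap_eq fun a => by
    rw [IsScalarTower.algebraMap_apply V (Polynomial V) P, ← IsScalarTower.algebraMap_apply (Polynomial V) P D,
      ← IsScalarTower.algebraMap_apply]
  have hg'0 : g' ≠ 0 := fun h => hg' (h ▸ Q.zero_mem)
  haveI : IsDomain D' := IsLocalization.isDomain_localization (powers_le_nonZeroDivisors_of_noZeroDivisors hg'0)
  haveI : Algebra.FiniteType V D' :=
    .trans (S := D) inferInstance (IsLocalization.finiteType_of_monoid_fg (.powers g') _)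
  haveI : Algebra.FiniteType P D' := Algebra.FiniteType.of_restrictScalars_finiteType V _ D'
  have hDinj : Function.Injective (algebraMap D D') :=
    IsLocalization.injective D' (powers_le_nonZeroDivisors_of_noZeroDivisors hg'0)
  have hVinj : Function.Injective (algebraMap V D') := by
    rw [IsScalarTower.algebraMap_eq V D D']
    exact hDinj.comp hinj
  haveI : FaithfulSMul V D' := (faithfulSMul_iff_algebraMap_injective _ _).2 hVinj
  haveI : FaithfulSMul D D' := (faithfulSMul_iff_algebraMap_injective _ _).2 hDinj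
  haveI : IsIntegrallyClosed P := by
    haveI := UnivOpen.isIntegrallyClosed_mvPolynomial (Polynomial V) (ULift.{u} (Fin m))
    exact IsIntegrallyClosed.of_equiv (MvPolynomial.renameEquiv (Polynomial V) Equiv.ulift).toRingEquiv
  have hPD : Function.Injective (algebraMap P D') := by
    rw [RingHom.injective_iff_ker_eq_bot]
    by_contra hk
    let φ := CommRingCat.ofHom (algebraMap P D')
    let π := CommRingCat.ofHom (algebraMap V P)
    haveI : LocallyOfFiniteType (Spec.map φ) := lft_spec
    haveI : LocallyOfFiniteType (Spec.map π) := lft_spec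
    haveI : LocallyQuasiFinite (Spec.map φ) :=
      HasRingHomProperty.Spec_iff.2 (RingHom.quasiFinite_algebraMap.2 inferInstance)
    let ξ : PrimeSpectrum D' := ⟨⊥, Ideal.isPrime_bot⟩
    let k : PrimeSpectrum P := PrimeSpectrum.comap (algebraMap P D') ξ
    let o : PrimeSpectrum P := ⟨⊥, Ideal.isPrime_bot⟩
    have hcomp : Spec.map φ ≫ Spec.map π = Spec.map (CommRingCat.ofHom (algebraMap V D')) := by
      rw [← Spec.map_comp]
      exact congrArg Spec.map (CommRingCat.hom_ext (IsScalarTower.algebraMap_eq V P D').symm)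
    have h1 := FibDim.rd_comp (Spec.map φ) (Spec.map π) ξ
    rw [FibDim.rd_eq_zero_of_quasiFinite (Spec.map φ) ξ, add_zero] at h1
    have e1 : FibDim.rd (Spec.map φ ≫ Spec.map π) ξ = DimFormula.fd V (⊥ : Ideal D') := by
      rw [hcomp]
      exact rd_spec_eq_fd ξ
    have e2 : FibDim.rd (Spec.map π) ((Spec.map φ) ξ) = DimFormula.fd V k.asIdeal := rd_spec_eq_fd k
    have hPinj : Function.Injective (algebraMap V P) := fun a c h => by
      refine hVinj ?_
      rw [IsScalarTower.algebraMap_apply V P D', IsScalarTower.algebraMap_apply V P D', h]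
    haveI : FaithfulSMul V P := (faithfulSMul_iff_algebraMap_injective _ _).2 hPinj
    have hk' : o ≠ k := fun h => hk (by
      rw [RingHom.ker_eq_comap_bot]
      exact (congrArg PrimeSpectrum.asIdeal h).symm)
    have hlt' := fd_lt_of_lt (A := V) (q := o) (r := k) bot_le hk' (by
      show (⊥ : Ideal P).under V = ((⊥ : Ideal D').comap (algebraMap P D')).comap (algebraMap V P)
      rw [Ideal.comap_comap, ← IsScalarTower.algebraMap_eq, ← RingHom.ker_eq_comap_bot,
        (RingHom.injective_iff_ker_eq_bot _).1 hVinj]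
      exact (RingHom.ker_eq_comap_bot _).symm.trans ((RingHom.injective_iff_ker_eq_bot _).1 hPinj))
    have e3 : DimFormula.fd V o.asIdeal = m + 1 := by
      have h2 : (DimFormula.fd V (⊥ : Ideal P) : Cardinal.{u}) = ((m + 1 : ℕ) : Cardinal.{u}) := by
        haveI : FaithfulSMul (Polynomial V) P :=
          (faithfulSMul_iff_algebraMap_injective _ _).2 (MvPolynomial.C_injective _ _)
        rw [DimFormula.fd_bot_eq_trdeg, ← trdeg_add_eq V (Polynomial V), Polynomial.trdeg_of_isDomain,
          MvPolynomial.trdeg_of_isDomain, Cardinal.mk_fin, Cardinal.lift_natCast, Nat.cast_add, Nat.cast_one,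
          add_comm]
      exact_mod_cast h2
    have e4 : DimFormula.fd V (⊥ : Ideal D') = n := by
      haveI : Algebra.IsAlgebraic D D' := IsLocalization.isAlgebraic _ (Submonoid.powers g')
      have h2 : (DimFormula.fd V (⊥ : Ideal D') : Cardinal.{u}) = (n : Cardinal.{u}) := by
        rw [hn, DimFormula.fd_bot_eq_trdeg, DimFormula.fd_bot_eq_trdeg, ← trdeg_add_eq V D (A := D'),
          trdeg_eq_zero (R := D), add_zero]
      exact_mod_cast h2
    rw [e1, e2] at h1
    omega
  -- go down to `(T)`
  have hdisj : Disjoint (Submonoid.powers g' : Set D) (Q : Set D) := by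
    rw [Ideal.disjoint_powers_iff_notMem_of_isPrime]; exact hg'
  haveI : (Q.map (algebraMap D D')).IsPrime := IsLocalization.isPrime_of_isPrime_disjoint _ _ Q inferInstance hdisj
  let T : P := MvPolynomial.C Polynomial.X
  have hTD : algebraMap P D T = g := by
    show MvPolynomial.aeval b (MvPolynomial.C Polynomial.X) = g
    rw [MvPolynomial.aeval_C]
    exact Polynomial.aeval_X g
  have hp₀ : (Ideal.span {T}).IsPrime := by
    have : Ideal.span {T} = (Ideal.span {(Polynomial.X : Polynomial V)}).map MvPolynomial.C := by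
      rw [Ideal.map_span, Set.image_singleton]
    rw [this]
    haveI : (Ideal.span {(Polynomial.X : Polynomial V)}).IsPrime :=
      (Ideal.span_singleton_prime Polynomial.X_ne_zero).2 Polynomial.prime_X
    exact FibDim.isPrime_map_C
  obtain ⟨R', hR'p, hR'Q, hR'T⟩ := exists_le_over_of_quasiFinite hPD (Q.map (algebraMap D D')) (Ideal.span {T}) (by
    rw [Ideal.span_le, Set.singleton_subset_iff]
    show algebraMap P D' T ∈ Q.map (algebraMap D D')
    rw [IsScalarTower.algebraMap_apply P D D', hTD]
    exact Ideal.mem_map_of_mem _ hg)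
  haveI := hR'p
  refine ⟨R'.comap (algebraMap D D'), inferInstance,
    (Ideal.comap_mono hR'Q).trans (IsLocalization.under_map_of_isPrime_disjoint _ D' inferInstance hdisj).le, ?_, ?_⟩
  · show algebraMap D D' g ∈ R'
    rw [← hTD, ← IsScalarTower.algebraMap_apply]
    exact hR'T.ge (Ideal.mem_span_singleton_self T)
  · rw [eq_bot_iff]
    intro v hv
    have h1 : algebraMap V P v ∈ R'.under P := by
      show algebraMap P D' (algebraMap V P v) ∈ R'
      rw [← IsScalarTower.algebraMap_apply, IsScalarTower.algebraMap_apply V D D']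
      exact hv
    rw [hR'T, Ideal.mem_span_singleton] at h1
    obtain ⟨c, hc⟩ := h1
    have h2 := congrArg (fun G => Polynomial.coeff (MvPolynomial.constantCoeff G) 0) hc
    rw [IsScalarTower.algebraMap_apply V (Polynomial V) P] at h2
    simpa [T, P, MvPolynomial.algebraMap_eq] using h2

/-- In a finite type domain over a valuation ring, if `g` vanishes at `Q` but on no component of the
special fibre through `Q`, it vanishes at a point of the generic fibre generizing `Q`. -/
theorem exists_over_bot_mem {V C : Type u} [CommRing V] [IsDomain V] [ValuationRing V] [CommRing C] [IsDomain C]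
    [Algebra V C] [Algebra.FiniteType V C] (hinj : Function.Injective (algebraMap V C)) (Q : Ideal C) [Q.IsPrime]
    (hQ : Q.under V = maximalIdeal V) (g : C) (hg : g ∈ Q)
    (hmin : ∀ q ∈ ((maximalIdeal V).map (algebraMap V C)).minimalPrimes, q ≤ Q → g ∉ q) :
    ∃ R : Ideal C, R.IsPrime ∧ R ≤ Q ∧ g ∈ R ∧ R.under V = ⊥ := by
  classical
  let I := (maximalIdeal V).map (algebraMap V C)
  letI : Field (V ⧸ maximalIdeal V) := Ideal.Quotient.field _
  haveI : Algebra.FiniteType (V ⧸ maximalIdeal V) (C ⧸ I) :=
    Algebra.FiniteType.of_restrictScalars_finiteType V _ _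
  haveI : IsNoetherianRing (C ⧸ I) := Algebra.FiniteType.isNoetherianRing (V ⧸ maximalIdeal V) _
  have hfin : I.minimalPrimes.Finite := by
    rw [Ideal.minimalPrimes_eq_comap]
    exact (minimalPrimes.finite_of_isNoetherianRing _).image _
  let F := hfin.toFinset.filter fun q => ¬ q ≤ Q
  choose h hh hhQ using fun q : {q // q ∈ F} => SetLike.not_le_iff_exists.1 (Finset.mem_filter.1 q.2).2
  let s : C := ∏ q : {q // q ∈ F}, h q
  have hsQ : s ∉ Q := fun hs => by
    obtain ⟨q, -, hq⟩ := (Ideal.IsPrime.prod_mem_iff (p := Q)).1 hs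
    exact hhQ q hq
  let D := Localization.Away s
  have hs0 : s ≠ 0 := fun h0 => hsQ (h0 ▸ Q.zero_mem)
  haveI : IsDomain D := IsLocalization.isDomain_localization (powers_le_nonZeroDivisors_of_noZeroDivisors hs0)
  haveI : Algebra.FiniteType V D := .trans (S := C) inferInstance (IsLocalization.finiteType_of_monoid_fg (.powers s) _)
  have hCD : Function.Injective (algebraMap C D) :=
    IsLocalization.injective D (powers_le_nonZeroDivisors_of_noZeroDivisors hs0)
  have hdisj : Disjoint (Submonoid.powers s : Set C) (Q : Set C) := by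
    rw [Ideal.disjoint_powers_iff_notMem_of_isPrime]; exact hsQ
  haveI : (Q.map (algebraMap C D)).IsPrime := IsLocalization.isPrime_of_isPrime_disjoint _ _ Q inferInstance hdisj
  have hcm : (Q.map (algebraMap C D)).comap (algebraMap C D) = Q :=
    IsLocalization.under_map_of_isPrime_disjoint (Submonoid.powers s) D inferInstance hdisj
  obtain ⟨R, hRp, hRQ, hgR, hRV⟩ := exists_over_bot_mem_aux (V := V) (D := D)
    (by rw [IsScalarTower.algebraMap_eq V C D]; exact hCD.comp hinj) (Q.map (algebraMap C D))
    (by
      show (Q.map (algebraMap C D)).comap (algebraMap V D) = _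
      rw [IsScalarTower.algebraMap_eq V C D, ← Ideal.comap_comap, hcm]
      exact hQ)
    (algebraMap C D g) (Ideal.mem_map_of_mem _ hg) (fun q hq hgq => by
      haveI := hq.1.1
      let q₀ := q.comap (algebraMap C D)
      have hle : I ≤ q₀ := by
        rw [Ideal.map_le_iff_le_comap, Ideal.comap_comap, ← IsScalarTower.algebraMap_eq]
        exact Ideal.map_le_iff_le_comap.1 hq.1.2
      have hq₀ : q₀ ∈ I.minimalPrimes := ⟨⟨inferInstance, hle⟩, fun J hJ hJq => by
        haveI := hJ.1
        have hJs : Disjoint (Submonoid.powers s : Set C) (J : Set C) := by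
          rw [Ideal.disjoint_powers_iff_notMem_of_isPrime]
          exact fun h => hq.1.1.ne_top
            (Ideal.eq_top_of_isUnit_mem _ (hJq h) (IsLocalization.Away.algebraMap_isUnit s))
        haveI := IsLocalization.isPrime_of_isPrime_disjoint (Submonoid.powers s) D J inferInstance hJs
        have h1 : q ≤ J.map (algebraMap C D) := hq.2 ⟨inferInstance, by
          rw [IsScalarTower.algebraMap_eq V C D, ← Ideal.map_map]
          exact Ideal.map_mono hJ.2⟩ (Ideal.map_le_iff_le_comap.2 hJq)
        exact (Ideal.comap_mono h1).trans (IsLocalization.under_map_of_isPrime_disjoint _ D inferInstance hJs).le⟩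
      by_cases hq₀Q : q₀ ≤ Q
      · exact hmin q₀ hq₀ hq₀Q hgq
      · have hmem : q₀ ∈ F := Finset.mem_filter.2 ⟨hfin.mem_toFinset.2 hq₀, hq₀Q⟩
        have : s ∈ q₀ := Ideal.prod_mem (I := q₀) (Finset.mem_univ (⟨q₀, hmem⟩ : {q // q ∈ F})) (hh ⟨q₀, hmem⟩)
        exact hq.1.1.ne_top (Ideal.eq_top_of_isUnit_mem _ this (IsLocalization.Away.algebraMap_isUnit s)))
  haveI := hRp
  refine ⟨R.comap (algebraMap C D), inferInstance, (Ideal.comap_mono hRQ).trans hcm.le, hgR, ?_⟩
  show (R.comap (algebraMap C D)).comap (algebraMap V C) = ⊥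
  rw [Ideal.comap_comap, ← IsScalarTower.algebraMap_eq]
  exact hRV

end Groth.Agent.FlatB12
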