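import Groth.Agent.FibDim.AffineSpaceFibre
import Groth.Agent.FibDim.LocDim

/-! # Fibre dimension of a flat quasi-finite cover of affine space -/

universe u
set_option autoImplicit false
set_option linter.style.haveILetI false

open AlgebraicGeometry CategoryTheory CategoryTheory.Limits

namespace Groth.Agent.FlatB12

theorem fibreDimAt_comp_affineSpace {U Y : Scheme.{u}} (n : ℕ) (g : U ⟶ 𝔸(ULift.{u} (Fin n); Y))
    [LocallyOfFiniteType g] [LocallyQuasiFinite g] (x : U) (h : (g.stalkMap x).hom.Flat) :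
    FlatMor.fibreDimAt (g ≫ (𝔸(ULift.{u} (Fin n); Y) ↘ Y)) x = ((n : ℕ∞) : WithBot ℕ∞) := by
  obtain ⟨z, -, -, hz, hze⟩ := FibDim.exists_fibMax_generization (𝔸(ULift.{u} (Fin n); Y) ↘ Y) (g x)
  obtain ⟨w, -, -, -, hwe⟩ := FibDim.exists_fibMax_generization g x
  rw [FibDim.fibreDimAt_comp_of_flat g _ x h, hze, hwe, FibDim.rd_eq_zero_of_quasiFinite g w,
    FibDim.rd_affineSpace_fibMax n hz]
  simp

end Groth.Agent.FlatB12
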