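import Mathlib.AlgebraicGeometry.Morphisms.Affine

/-!
# An equational criterion for the union of finitely many basic opens to be affine
-/

set_option autoImplicit false
set_option linter.style.haveILetI false

universe u

open AlgebraicGeometry CategoryTheory TopologicalSpace

namespace Groth.Agent.FlatB12

/-- Elements witnessing that `D(f₁) ∪ ... ∪ D(fₙ)` is affine. -/
def AffData {ι : Type*} [Fintype ι] {A : Type*} [CommRing A] (f : ι → A) : Prop :=
  ∃ (N : ℕ) (b : ι → ι → A), (∀ i j k, (f j * f k) ^ N * (b i j * f k ^ N - b i k * f j ^ N) = 0) ∧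
    ∀ j, f j ^ N * (∑ i, f i * b i j - f j ^ N) = 0

theorem AffData.map {ι : Type*} [Fintype ι] {A B : Type*} [CommRing A] [CommRing B] (φ : A →+* B) {f : ι → A}
    (h : AffData f) : AffData (fun i => φ (f i)) := by
  obtain ⟨N, b, h1, h2⟩ := h
  refine ⟨N, fun i j => φ (b i j), fun i j k => ?_, fun j => ?_⟩
  · have := congrArg φ (h1 i j k)
    simpa only [map_mul, map_pow, map_sub, map_zero] using this
  · have := congrArg φ (h2 j)
    simpa only [map_mul, map_pow, map_sub, map_sum, map_zero] using this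

variable {X : Scheme.{u}} [IsAffine X] {ι : Type*} [Fintype ι] (f : ι → Γ(X, ⊤))

/-- Restriction to an open. -/
noncomputable abbrev rtop (V : X.Opens) : Γ(X, ⊤) →+* Γ(X, V) := (X.presheaf.map (homOfLE le_top).op).hom

omit [IsAffine X] in
theorem res_rtop {U V : X.Opens} (h : V ≤ U) (a : Γ(X, ⊤)) :
    (X.presheaf.map (homOfLE h).op).hom (rtop U a) = rtop V a :=
  (congr($(X.presheaf.map_comp (homOfLE (le_top : U ≤ ⊤)).op (homOfLE h).op).hom a)).symm

omit [IsAffine X] in
theorem res_res {U V W : X.Opens} (h : V ≤ U) (h' : W ≤ V) (s : Γ(X, U)) :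
    (X.presheaf.map (homOfLE h').op).hom ((X.presheaf.map (homOfLE h).op).hom s) =
      (X.presheaf.map (homOfLE (h'.trans h)).op).hom s :=
  (congr($(X.presheaf.map_comp (homOfLE h).op (homOfLE h').op).hom s)).symm

theorem exists_num (a : Γ(X, ⊤)) (s : Γ(X, X.basicOpen a)) :
    ∃ (n : ℕ) (b : Γ(X, ⊤)), s * rtop _ a ^ n = rtop _ b := by
  letI := (rtop (X.basicOpen a)).toAlgebra
  haveI : IsLocalization.Away a Γ(X, X.basicOpen a) :=
    (isAffineOpen_top X).isLocalization_of_eq_basicOpen _ _ rfl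
  obtain ⟨⟨b, ⟨_, n, rfl⟩⟩, h⟩ := IsLocalization.surj (Submonoid.powers a) s
  refine ⟨n, b, ?_⟩
  rw [← map_pow]
  exact h

theorem exists_pow_mul_eq_zero (a x : Γ(X, ⊤)) (h : rtop (X.basicOpen a) x = 0) : ∃ n : ℕ, a ^ n * x = 0 := by
  letI := (rtop (X.basicOpen a)).toAlgebra
  haveI : IsLocalization.Away a Γ(X, X.basicOpen a) :=
    (isAffineOpen_top X).isLocalization_of_eq_basicOpen _ _ rfl
  obtain ⟨⟨_, n, rfl⟩, hn⟩ :=
    (IsLocalization.map_eq_zero_iff (Submonoid.powers a) Γ(X, X.basicOpen a) x).1 h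
  exact ⟨n, hn⟩

theorem affData_of_isAffineOpen (h : IsAffineOpen (⨆ i, X.basicOpen (f i))) : AffData f := by
  classical
  set U := ⨆ i, X.basicOpen (f i) with hU
  have hle : ∀ i, X.basicOpen (f i) ≤ U := fun i => le_iSup (fun i => X.basicOpen (f i)) i
  have hspan : Ideal.span (Set.range fun i => rtop U (f i)) = ⊤ := by
    rw [← h.self_le_iSup_basicOpen_iff]
    intro x hx
    obtain ⟨i, hi⟩ := Opens.mem_iSup.1 (hU ▸ hx)
    exact Opens.mem_iSup.2 ⟨⟨_, i, rfl⟩, by rw [Scheme.basicOpen_res]; exact ⟨hx, hi⟩⟩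
  obtain ⟨g, hg⟩ := Ideal.mem_span_range_iff_exists_fun.1 (hspan ▸ (Submodule.mem_top : (1 : Γ(X, U)) ∈ ⊤))
  choose n b hb using fun i j => exists_num (f j) ((X.presheaf.map (homOfLE (hle j)).op).hom (g i))
  let N := ∑ i, ∑ j, n i j
  have hnN : ∀ i j, n i j ≤ N := fun i j =>
    (Finset.single_le_sum (fun _ _ => Nat.zero_le _) (Finset.mem_univ j)).trans
      (Finset.single_le_sum (f := fun i => ∑ j, n i j) (fun _ _ => Nat.zero_le _) (Finset.mem_univ i))
  obtain ⟨b', hb'⟩ : ∃ b' : ι → ι → Γ(X, ⊤), ∀ i j,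
      (X.presheaf.map (homOfLE (hle j)).op).hom (g i) * rtop _ (f j) ^ N = rtop _ (b' i j) :=
    ⟨fun i j => b i j * f j ^ (N - n i j), fun i j => by
      rw [map_mul, map_pow, ← hb, mul_assoc, ← pow_add, Nat.add_sub_cancel' (hnN i j)]⟩
  have h1 : ∀ i j k, rtop (X.basicOpen (f j * f k)) (b' i j * f k ^ N - b' i k * f j ^ N) = 0 := fun i j k => by
    have hj : X.basicOpen (f j * f k) ≤ X.basicOpen (f j) := (X.basicOpen_mul _ _).le.trans inf_le_left
    have hk : X.basicOpen (f j * f k) ≤ X.basicOpen (f k) := (X.basicOpen_mul _ _).le.trans inf_le_right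
    have e1 := congrArg (X.presheaf.map (homOfLE hj).op).hom (hb' i j)
    have e2 := congrArg (X.presheaf.map (homOfLE hk).op).hom (hb' i k)
    rw [map_mul, map_pow, res_rtop, res_rtop, res_res] at e1 e2
    rw [map_sub, map_mul, map_mul, map_pow, map_pow, ← e1, ← e2]
    ring
  have h2 : ∀ j, rtop (X.basicOpen (f j)) (∑ i, f i * b' i j - f j ^ N) = 0 := fun j => by
    have e := congrArg (X.presheaf.map (homOfLE (hle j)).op).hom hg
    simp only [map_sum, map_mul, res_rtop, map_one] at e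
    rw [map_sub, map_sum, map_pow, sub_eq_zero]
    calc ∑ i, rtop (X.basicOpen (f j)) (f i * b' i j)
        = (∑ i, (X.presheaf.map (homOfLE (hle j)).op).hom (g i) * rtop (X.basicOpen (f j)) (f i)) *
            rtop (X.basicOpen (f j)) (f j) ^ N := by
          rw [Finset.sum_mul]
          refine Finset.sum_congr rfl fun i _ => ?_
          rw [map_mul, ← hb']
          ring
      _ = _ := by rw [e, one_mul]
  choose m1 hm1 using fun i j k => exists_pow_mul_eq_zero _ _ (h1 i j k)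
  choose m2 hm2 using fun j => exists_pow_mul_eq_zero _ _ (h2 j)
  let M := (∑ i, ∑ j, ∑ k, m1 i j k) + ∑ j, m2 j
  have hM1 : ∀ i j k, m1 i j k ≤ M := fun i j k =>
    le_trans ((Finset.single_le_sum (fun _ _ => Nat.zero_le _) (Finset.mem_univ k)).trans
      ((Finset.single_le_sum (f := fun j => ∑ k, m1 i j k) (fun _ _ => Nat.zero_le _) (Finset.mem_univ j)).trans
        (Finset.single_le_sum (f := fun i => ∑ j, ∑ k, m1 i j k) (fun _ _ => Nat.zero_le _) (Finset.mem_univ i))))
      (Nat.le_add_right _ _)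
  have hM2 : ∀ j, m2 j ≤ M := fun j =>
    le_trans (Finset.single_le_sum (fun _ _ => Nat.zero_le _) (Finset.mem_univ j)) (Nat.le_add_left _ _)
  refine ⟨N + M, fun i j => b' i j * f j ^ M, fun i j k => ?_, fun j => ?_⟩
  · obtain ⟨d, hd⟩ := Nat.exists_eq_add_of_le (hM1 i j k)
    calc (f j * f k) ^ (N + M) * (b' i j * f j ^ M * f k ^ (N + M) - b' i k * f k ^ M * f j ^ (N + M))
        = (f j * f k) ^ (N + M + d) * ((f j * f k) ^ m1 i j k * (b' i j * f k ^ N - b' i k * f j ^ N)) := by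
          rw [hd]; ring
      _ = 0 := by rw [hm1, mul_zero]
  · obtain ⟨d, hd⟩ := Nat.exists_eq_add_of_le (hM2 j)
    have e : ∑ i, f i * (b' i j * f j ^ M) = (∑ i, f i * b' i j) * f j ^ M := by
      rw [Finset.sum_mul]
      exact Finset.sum_congr rfl fun i _ => (mul_assoc _ _ _).symm
    calc f j ^ (N + M) * (∑ i, f i * (b' i j * f j ^ M) - f j ^ (N + M))
        = f j ^ (N + M + d) * (f j ^ m2 j * (∑ i, f i * b' i j - f j ^ N)) := by
          rw [e, hd]; ring
      _ = 0 := by rw [hm2, mul_zero]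

theorem isAffineOpen_of_affData (h : AffData f) : IsAffineOpen (⨆ i, X.basicOpen (f i)) := by
  classical
  obtain ⟨N, b, h1, h2⟩ := h
  set U := ⨆ i, X.basicOpen (f i) with hU
  have hle : ∀ i, X.basicOpen (f i) ≤ U := fun i => le_iSup (fun i => X.basicOpen (f i)) i
  have hunit : ∀ (V : X.Opens) (a : Γ(X, ⊤)), V ≤ X.basicOpen a → IsUnit (rtop V a) := fun V a hV => by
    have := (RingedSpace.isUnit_res_basicOpen X.toRingedSpace a).map (X.presheaf.map (homOfLE hV).op).hom
    rw [← res_rtop hV a]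
    exact this
  choose s hs using fun i j => ((hunit (X.basicOpen (f j)) (f j) le_rfl).pow N).dvd (a := rtop _ (b i j))
  have hcompat : ∀ i, TopCat.Presheaf.IsCompatible X.presheaf (fun j => X.basicOpen (f j)) (fun j => s i j) := by
    intro i j k
    show (X.presheaf.map (homOfLE inf_le_left).op).hom (s i j) = (X.presheaf.map (homOfLE inf_le_right).op).hom (s i k)
    have ej := congrArg (X.presheaf.map (homOfLE (inf_le_left : X.basicOpen (f j) ⊓ X.basicOpen (f k) ≤ _)).op).hom (hs i j)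
    have ek := congrArg (X.presheaf.map (homOfLE (inf_le_right : X.basicOpen (f j) ⊓ X.basicOpen (f k) ≤ _)).op).hom (hs i k)
    rw [map_mul, map_pow, res_rtop, res_rtop] at ej ek
    have e := congrArg (rtop (X.basicOpen (f j) ⊓ X.basicOpen (f k))) (h1 i j k)
    rw [map_mul, map_sub, map_mul, map_mul, map_pow, map_pow, map_pow, map_mul, map_zero, ej, ek] at e
    have hjk : IsUnit ((rtop (X.basicOpen (f j) ⊓ X.basicOpen (f k)) (f j) *
        rtop (X.basicOpen (f j) ⊓ X.basicOpen (f k)) (f k)) ^ N) :=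
      ((hunit _ _ inf_le_left).mul (hunit _ _ inf_le_right)).pow N
    rw [hjk.mul_right_eq_zero, sub_eq_zero] at e
    refine ((hunit _ _ inf_le_left).pow N).mul_left_cancel
      (((hunit _ _ inf_le_right).pow N).mul_right_cancel (e.trans ?_))
    ring
  have hglue : ∀ i, ∃ g : Γ(X, U), ∀ j, (X.presheaf.map (homOfLE (hle j)).op).hom g = s i j := fun i => by
    obtain ⟨g, hg, -⟩ := TopCat.Sheaf.existsUnique_gluing' X.sheaf (fun j => X.basicOpen (f j)) U
      (fun j => homOfLE (hle j)) le_rfl (fun j => s i j) (hcompat i)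
    exact ⟨g, hg⟩
  choose g hg using hglue
  have hone : ∑ i, g i * rtop U (f i) = 1 := by
    refine TopCat.Sheaf.eq_of_locally_eq' X.sheaf (fun j => X.basicOpen (f j)) U (fun j => homOfLE (hle j)) le_rfl _ _
      fun j => ?_
    show (X.presheaf.map (homOfLE (hle j)).op).hom _ = (X.presheaf.map (homOfLE (hle j)).op).hom 1
    have hg' : ∀ i, (X.presheaf.map (homOfLE (hle j)).op).hom (g i) = s i j := fun i => hg i j
    simp only [map_sum, map_mul, res_rtop, map_one, hg']
    refine ((hunit _ _ le_rfl).pow N).mul_left_cancel ?_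
    have e := congrArg (rtop (X.basicOpen (f j))) (h2 j)
    rw [map_mul, map_sub, map_sum, map_pow, map_zero,
      ((hunit (X.basicOpen (f j)) (f j) le_rfl).pow N).mul_right_eq_zero, sub_eq_zero] at e
    rw [mul_one, Finset.mul_sum]
    refine (Finset.sum_congr rfl fun i _ => ?_).trans e
    rw [map_mul, hs]
    ring
  refine isAffineOpen_of_isAffineOpen_basicOpen U (Set.range fun i => rtop U (f i)) ?_ ?_
  · rw [Ideal.eq_top_iff_one]
    exact Ideal.mem_span_range_iff_exists_fun.2 ⟨g, hone⟩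
  · rintro _ ⟨i, rfl⟩
    rw [Scheme.basicOpen_res, inf_eq_right.2 (hle i)]
    exact (isAffineOpen_top X).basicOpen _

theorem isAffineOpen_iff_affData : IsAffineOpen (⨆ i, X.basicOpen (f i)) ↔ AffData f :=
  ⟨affData_of_isAffineOpen f, isAffineOpen_of_affData f⟩

omit [IsAffine X] in
theorem exists_basicOpen_iSup [IsAffine X] {U : X.Opens} (hU : IsCompact (U : Set X)) :
    ∃ (n : ℕ) (f : Fin n → Γ(X, ⊤)), U = ⨆ i, X.basicOpen (f i) := by
  classical
  have hcov : (U : Set X) ⊆ ⋃ r : {r : Γ(X, ⊤) // X.basicOpen r ≤ U}, (X.basicOpen r.1 : Set X) := by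
    intro x hx
    obtain ⟨r, hr, hxr⟩ := (isAffineOpen_top X).exists_basicOpen_le (⟨x, hx⟩ : U) trivial
    exact Set.mem_iUnion.2 ⟨⟨r, hr⟩, hxr⟩
  obtain ⟨t, ht⟩ := hU.elim_finite_subcover
    (fun r : {r : Γ(X, ⊤) // X.basicOpen r ≤ U} => (X.basicOpen r.1 : Set X))
    (fun r => (X.basicOpen r.1).2) hcov
  refine ⟨t.card, fun i => (t.equivFin.symm i).1.1, le_antisymm (fun x hx => ?_) (iSup_le fun i => (t.equivFin.symm i).1.2)⟩
  obtain ⟨r, hr, hxr⟩ := Set.mem_iUnion₂.1 (ht hx)
  exact Opens.mem_iSup.2 ⟨t.equivFin ⟨r, hr⟩, by simpa using hxr⟩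

end Groth.Agent.FlatB12
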