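import Groth.Agent.FlatB12.AffineCrit
import Groth.Agent.ChevAffine.Main
import Mathlib.FieldTheory.IsAlgClosed.AlgebraicClosure
import Mathlib.RingTheory.IntegralClosure.IntegrallyClosed

/-!
# Affineness of quasi-compact opens is detected on absolutely integrally closed domains

A quasi-compact open of an affine scheme `Spec A` is affine as soon as its preimage in `Spec B` is affine for
every integrally closed domain `B` with algebraically closed fraction field over `A`.
-/

set_option autoImplicit false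
set_option linter.style.haveILetI false

universe u

open AlgebraicGeometry CategoryTheory TopologicalSpace

namespace Groth.Agent.FlatB12

variable {ι : Type} [Fintype ι]

theorem AffData.mono {A : Type*} [CommRing A] {f : ι → A} {N M : ℕ} {b : ι → ι → A}
    (h1 : ∀ i j k, (f j * f k) ^ N * (b i j * f k ^ N - b i k * f j ^ N) = 0)
    (h2 : ∀ j, f j ^ N * (∑ i, f i * b i j - f j ^ N) = 0) :
    (∀ i j k, (f j * f k) ^ (N + M) *
        (b i j * f j ^ M * f k ^ (N + M) - b i k * f k ^ M * f j ^ (N + M)) = 0) ∧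
      ∀ j, f j ^ (N + M) * (∑ i, f i * (b i j * f j ^ M) - f j ^ (N + M)) = 0 := by
  refine ⟨fun i j k => ?_, fun j => ?_⟩
  · calc _ = (f j * f k) ^ (M + M) * ((f j * f k) ^ N * (b i j * f k ^ N - b i k * f j ^ N)) := by ring
      _ = 0 := by rw [h1, mul_zero]
  · have e : ∑ i, f i * (b i j * f j ^ M) = (∑ i, f i * b i j) * f j ^ M := by
      rw [Finset.sum_mul]
      exact Finset.sum_congr rfl fun i _ => (mul_assoc _ _ _).symm
    calc _ = f j ^ (M + M) * (f j ^ N * (∑ i, f i * b i j - f j ^ N)) := by rw [e]; ring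
      _ = 0 := by rw [h2, mul_zero]

theorem AffData.prod {A B : Type*} [CommRing A] [CommRing B] {f : ι → A × B} (hA : AffData fun i => (f i).1)
    (hB : AffData fun i => (f i).2) : AffData f := by
  obtain ⟨N, b, h1, h2⟩ := hA
  obtain ⟨N', b', h1', h2'⟩ := hB
  obtain ⟨k1, k2⟩ := AffData.mono (M := N') h1 h2
  obtain ⟨k1', k2'⟩ := AffData.mono (M := N) h1' h2'
  refine ⟨N + N', fun i j => (b i j * (f j).1 ^ N', b' i j * (f j).2 ^ N), fun i j k => Prod.ext ?_ ?_,
    fun j => Prod.ext ?_ ?_⟩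
  · simpa using k1 i j k
  · simpa [Nat.add_comm N' N] using k1' i j k
  · simpa [Prod.fst_sum] using k2 j
  · simpa [Prod.snd_sum, Nat.add_comm N' N] using k2' j

theorem isAffineOpen_spec_iff {R : Type u} [CommRing R] (f : ι → R) :
    IsAffineOpen (⨆ i, (Spec (CommRingCat.of R)).basicOpen ((Scheme.ΓSpecIso (CommRingCat.of R)).inv.hom (f i))) ↔
      AffData f := by
  rw [isAffineOpen_iff_affData]
  exact ⟨fun h => by
    simpa [Iso.inv_hom_id_apply] using h.map (Scheme.ΓSpecIso (CommRingCat.of R)).hom.hom, fun h => h.map _⟩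

theorem preimage_iSup_basicOpen {X Y : Scheme.{u}} (g : X ⟶ Y) (f : ι → Γ(Y, ⊤)) :
    g ⁻¹ᵁ (⨆ i, Y.basicOpen (f i)) = ⨆ i, X.basicOpen (g.appTop.hom (f i)) := by
  rw [Scheme.Hom.preimage_iSup]
  exact iSup_congr fun i => Scheme.preimage_basicOpen_top g (f i)

/-- Chevalley: the data descends along integral extensions with nil kernel. -/
theorem affData_of_integral {A B : Type u} [CommRing A] [CommRing B] [Algebra A B] [Algebra.IsIntegral A B]
    (hker : RingHom.ker (algebraMap A B) ≤ nilradical A) (f : ι → A)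
    (h : AffData fun i => algebraMap A B (f i)) : AffData f := by
  classical
  rcases subsingleton_or_nontrivial A with hA | hA
  · exact ⟨0, fun _ _ => 0, fun _ _ _ => Subsingleton.elim _ _, fun _ => Subsingleton.elim _ _⟩
  obtain ⟨N, b, h1, h2⟩ := h
  choose p hpm hp using fun ij : ι × ι => Algebra.IsIntegral.isIntegral (R := A) (b ij.1 ij.2)
  let σ : Finset A := Finset.univ.image f ∪ Finset.univ.biUnion fun ij : ι × ι =>
    (p ij).support.image fun n => (p ij).coeff n
  let A₀ : Subalgebra ℤ A := Algebra.adjoin ℤ (σ : Set A)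
  haveI : Algebra.FiniteType ℤ A₀ := ⟨(Subalgebra.fg_top _).2 (Subalgebra.fg_adjoin_finset σ)⟩
  haveI : IsNoetherianRing A₀ := Algebra.FiniteType.isNoetherianRing ℤ A₀
  have hfA : ∀ i, f i ∈ A₀ := fun i => Algebra.subset_adjoin
    (Finset.mem_union_left _ (Finset.mem_image_of_mem _ (Finset.mem_univ i)))
  have hint : ∀ ij : ι × ι, IsIntegral A₀ (b ij.1 ij.2) := fun ij => by
    have hl : p ij ∈ Polynomial.lifts A₀.val.toRingHom := by
      rw [Polynomial.lifts_iff_coeff_lifts]
      intro n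
      by_cases hn : n ∈ (p ij).support
      · exact ⟨⟨_, Algebra.subset_adjoin (Finset.mem_union_right _ (Finset.mem_biUnion.2
          ⟨ij, Finset.mem_univ _, Finset.mem_image_of_mem _ hn⟩))⟩, rfl⟩
      · exact ⟨0, by rw [Polynomial.notMem_support_iff.1 hn, map_zero]⟩
    obtain ⟨q, hq, -, hqm⟩ := Polynomial.lifts_and_degree_eq_and_monic hl (hpm ij)
    refine ⟨q, hqm, ?_⟩
    rw [show algebraMap A₀ B = (algebraMap A B).comp A₀.val.toRingHom from rfl, ← Polynomial.eval₂_map, hq]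
    exact hp ij
  let τ : Finset B := Finset.univ.image fun ij : ι × ι => b ij.1 ij.2
  let B₀ : Subalgebra A₀ B := Algebra.adjoin A₀ (τ : Set B)
  haveI hfin : Module.Finite A₀ B₀ := Module.Finite.iff_fg.2 (fg_adjoin_of_finite (Finset.finite_toSet _) fun x hx => by
    obtain ⟨ij, -, rfl⟩ := Finset.mem_image.1 (Finset.mem_coe.1 hx)
    exact hint ij)
  haveI : IsNoetherianRing B₀ := IsNoetherianRing.of_finite A₀ B₀
  have hdata : AffData fun i => algebraMap A₀ B₀ ⟨f i, hfA i⟩ := by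
    refine ⟨N, fun i j => ⟨b i j, Algebra.subset_adjoin (Finset.mem_image.2 ⟨(i, j), Finset.mem_univ _, rfl⟩)⟩,
      fun i j k => Subtype.ext ?_, fun j => Subtype.ext ?_⟩
    · push_cast
      exact h1 i j k
    · push_cast
      exact h2 j
  -- Chevalley over the Noetherian ring `A₀`
  let φ := CommRingCat.ofHom (algebraMap A₀ B₀)
  let π := Spec.map φ
  haveI : IsFinite π := by
    rw [IsFinite.SpecMap_iff]
    exact RingHom.finite_algebraMap.mpr hfin
  haveI : Surjective π := ⟨fun (P : PrimeSpectrum A₀) => by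
    haveI : Algebra.IsIntegral A₀ B₀ := Algebra.IsIntegral.of_finite _ _
    obtain ⟨Q, -, hQp, hQ⟩ := Ideal.exists_ideal_over_prime_of_isIntegral P.asIdeal (⊥ : Ideal B₀) (fun x hx => by
      obtain ⟨k, hk⟩ := hker (show (x : A) ∈ RingHom.ker (algebraMap A B) by
        rw [RingHom.mem_ker]
        exact congrArg Subtype.val (show algebraMap A₀ B₀ x = 0 from hx))
      exact P.isPrime.mem_of_pow_mem k (by rw [show x ^ k = 0 from Subtype.ext hk]; exact P.asIdeal.zero_mem))
    exact ⟨(⟨Q, hQp⟩ : PrimeSpectrum B₀), PrimeSpectrum.ext hQ⟩⟩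
  let g : ι → Γ(Spec (CommRingCat.of A₀), ⊤) := fun i => (Scheme.ΓSpecIso (CommRingCat.of A₀)).inv.hom ⟨f i, hfA i⟩
  let U := ⨆ i, (Spec (CommRingCat.of A₀)).basicOpen (g i)
  haveI : IsAffine (π ⁻¹ᵁ U : Scheme.{u}) := by
    show IsAffineOpen (π ⁻¹ᵁ U)
    rw [preimage_iSup_basicOpen]
    have := (isAffineOpen_spec_iff (R := B₀) fun i => algebraMap A₀ B₀ ⟨f i, hfA i⟩).2 hdata
    convert this using 4 with i
    exact (congr($(Scheme.ΓSpecIso_inv_naturality φ).hom ⟨f i, hfA i⟩)).symm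
  haveI : IsFinite (π ∣_ U) := IsZariskiLocalAtTarget.restrict (P := @IsFinite.{u}) inferInstance U
  haveI : Surjective (π ∣_ U) := IsZariskiLocalAtTarget.restrict (P := @Surjective.{u}) inferInstance U
  haveI : IsNoetherian (U : Scheme.{u}) :=
    haveI : CompactSpace ↥(U : Scheme.{u}) := isCompact_iff_compactSpace.1 (NoetherianSpace.isCompact _)
    ⟨⟩
  have hU : IsAffineOpen U := ChevAffine.isAffine_of_finite_surjective (π ∣_ U)
  exact ((isAffineOpen_spec_iff (R := A₀) fun i => ⟨f i, hfA i⟩).1 hU).map A₀.val.toRingHom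

/-- It suffices to have the data modulo every prime. -/
theorem affData_of_forall_prime {A : Type u} [CommRing A] (f : ι → A)
    (h : ∀ p : Ideal A, p.IsPrime → AffData fun i => Ideal.Quotient.mk p (f i)) : AffData f := by
  by_contra hA
  let S : Set (Ideal A) := {I | ¬ AffData fun i => Ideal.Quotient.mk I (f i)}
  have hbot : (⊥ : Ideal A) ∈ S := fun hb => hA (by
    simpa using hb.map (RingEquiv.quotientBot A).toRingHom)
  obtain ⟨P, -, hP⟩ := zorn_le_nonempty₀ S (fun c hc hchain I hI => by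
    refine ⟨sSup c, fun hs => ?_, fun J hJ => le_sSup hJ⟩
    obtain ⟨N, b, h1, h2⟩ := hs
    choose b' hb' using fun i j => Ideal.Quotient.mk_surjective (b i j)
    simp only [← hb', ← map_mul, ← map_pow, ← map_sub, ← map_sum, Ideal.Quotient.eq_zero_iff_mem,
      Submodule.mem_sSup_of_directed ⟨I, hI⟩ hchain.directedOn] at h1 h2
    choose J1 hJ1 hJ1' using h1
    choose J2 hJ2 hJ2' using h2
    classical
    let T : Finset (Ideal A) := insert I ((Finset.univ.image fun x : ι × ι × ι => J1 x.1 x.2.1 x.2.2) ∪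
      Finset.univ.image J2)
    have hT : ∀ J ∈ T, J ∈ c := by
      intro J hJ
      simp only [T, Finset.mem_insert, Finset.mem_union, Finset.mem_image] at hJ
      rcases hJ with rfl | ⟨x, -, rfl⟩ | ⟨j, -, rfl⟩
      exacts [hI, hJ1 _ _ _, hJ2 _]
    obtain ⟨J, hJc, hJ⟩ : ∃ J ∈ c, ∀ K ∈ T, K ≤ J := by
      clear_value T
      induction T using Finset.induction with
      | empty => exact ⟨I, hI, fun K hK => absurd hK (Finset.notMem_empty K)⟩
      | @insert K T' _ ih =>
        obtain ⟨J, hJc, hJ⟩ := ih fun J hJ => hT J (Finset.mem_insert_of_mem hJ)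
        obtain ⟨J', hJ'c, h1', h2'⟩ := hchain.directedOn K (hT K (Finset.mem_insert_self _ _)) J hJc
        exact ⟨J', hJ'c, fun L hL => (Finset.mem_insert.1 hL).elim (fun e => e ▸ h1') fun h => (hJ L h).trans h2'⟩
    refine hc hJc ⟨N, fun i j => Ideal.Quotient.mk J (b' i j), fun i j k => ?_, fun j => ?_⟩
    · simp only [← map_mul, ← map_pow, ← map_sub, Ideal.Quotient.eq_zero_iff_mem]
      exact hJ (J1 i j k) (Finset.mem_insert_of_mem (Finset.mem_union_left _
        (Finset.mem_image.2 ⟨(i, j, k), Finset.mem_univ _, rfl⟩))) (hJ1' i j k)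
    · simp only [← map_mul, ← map_pow, ← map_sub, ← map_sum, Ideal.Quotient.eq_zero_iff_mem]
      exact hJ (J2 j) (Finset.mem_insert_of_mem (Finset.mem_union_right _
        (Finset.mem_image.2 ⟨j, Finset.mem_univ _, rfl⟩))) (hJ2' j)) ⊥ hbot
  have hne : P ≠ ⊤ := fun e => hP.prop (by
    subst e
    haveI : Subsingleton (A ⧸ (⊤ : Ideal A)) := Ideal.Quotient.subsingleton_iff.2 rfl
    exact ⟨0, fun _ _ => 0, fun _ _ _ => Subsingleton.elim _ _, fun _ => Subsingleton.elim _ _⟩)
  refine hP.prop (h P ⟨hne, fun {a b} hab => ?_⟩)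
  by_contra hab'
  push Not at hab'
  obtain ⟨ha, hb⟩ := hab'
  let J₁ := P ⊔ Ideal.span {a}
  let J₂ := P ⊔ Ideal.span {b}
  have hd : ∀ J : Ideal A, P < J → AffData fun i => Ideal.Quotient.mk J (f i) := fun J hJ => by
    by_contra hS
    exact hJ.not_ge (hP.2 hS hJ.le)
  have hJ₁ := hd J₁ (lt_of_le_of_ne le_sup_left fun e => ha
    (e ▸ Ideal.mem_sup_right (Ideal.mem_span_singleton_self a)))
  have hJ₂ := hd J₂ (lt_of_le_of_ne le_sup_left fun e => hb
    (e ▸ Ideal.mem_sup_right (Ideal.mem_span_singleton_self b)))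
  letI : Algebra (A ⧸ P) (A ⧸ J₁) := (Ideal.Quotient.factor (le_sup_left : P ≤ J₁)).toAlgebra
  letI : Algebra (A ⧸ P) (A ⧸ J₂) := (Ideal.Quotient.factor (le_sup_left : P ≤ J₂)).toAlgebra
  haveI : Module.Finite (A ⧸ P) (A ⧸ J₁) :=
    Module.Finite.of_surjective (Algebra.linearMap (A ⧸ P) (A ⧸ J₁)) (Ideal.Quotient.factor_surjective (le_sup_left : P ≤ J₁))
  haveI : Module.Finite (A ⧸ P) (A ⧸ J₂) :=
    Module.Finite.of_surjective (Algebra.linearMap (A ⧸ P) (A ⧸ J₂)) (Ideal.Quotient.factor_surjective (le_sup_left : P ≤ J₂))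
  haveI : Algebra.IsIntegral (A ⧸ P) ((A ⧸ J₁) × (A ⧸ J₂)) := Algebra.IsIntegral.of_finite _ _
  refine hP.prop (affData_of_integral (B := (A ⧸ J₁) × (A ⧸ J₂)) (fun x hx => ?_) _ (AffData.prod hJ₁ hJ₂))
  obtain ⟨x, rfl⟩ := Ideal.Quotient.mk_surjective x
  have hx1 : x ∈ J₁ := Ideal.Quotient.eq_zero_iff_mem.1 (congrArg Prod.fst hx)
  have hx2 : x ∈ J₂ := Ideal.Quotient.eq_zero_iff_mem.1 (congrArg Prod.snd hx)
  refine ⟨2, ?_⟩
  rw [← map_pow, Ideal.zero_eq_bot, Ideal.mem_bot, Ideal.Quotient.eq_zero_iff_mem, pow_two]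
  have h12 : J₁ * J₂ ≤ P := by
    show (P ⊔ Ideal.span {a}) * (P ⊔ Ideal.span {b}) ≤ P
    rw [Ideal.sup_mul, Ideal.mul_sup, Ideal.mul_sup, Ideal.span_singleton_mul_span_singleton]
    refine sup_le (sup_le Ideal.mul_le_left Ideal.mul_le_left) (sup_le ?_ ?_)
    · exact Ideal.mul_le_right
    · exact (Ideal.span_singleton_le_iff_mem _).2 hab
  exact h12 (Ideal.mul_mem_mul hx1 hx2)

/-- A quasi-compact open of an affine scheme is affine if its preimages in all integrally closed domains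
with algebraically closed fraction field are. -/
theorem isAffineOpen_of_forall_absIntClosed {Y : Scheme.{u}} [IsAffine Y] (U : Y.Opens)
    (hU : IsCompact (U : Set Y))
    (h : ∀ (B : Type u) [CommRing B] [IsDomain B] [IsIntegrallyClosed B] [IsAlgClosed (FractionRing B)]
      (g : Spec (CommRingCat.of B) ⟶ Y), IsAffineOpen (g ⁻¹ᵁ U)) : IsAffineOpen U := by
  obtain ⟨n, f, rfl⟩ := exists_basicOpen_iSup hU
  refine isAffineOpen_of_affData f (affData_of_forall_prime f fun p hp => ?_)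
  let K := FractionRing (Γ(Y, ⊤) ⧸ p)
  let L := AlgebraicClosure K
  let B := integralClosure (Γ(Y, ⊤) ⧸ p) L
  haveI : Algebra.IsAlgebraic (Γ(Y, ⊤) ⧸ p) L :=
    (IsFractionRing.comap_isAlgebraic_iff (A := Γ(Y, ⊤) ⧸ p) (K := K) (C := L)).2 inferInstance
  haveI : IsFractionRing B L := IsIntegralClosure.isFractionRing_of_algebraic (A := Γ(Y, ⊤) ⧸ p) (L := L) B
    fun x hx => (algebraMap K L).injective.comp (IsFractionRing.injective _ K) (by
      rw [Function.comp_apply, ← IsScalarTower.algebraMap_apply, hx]; simp)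
  haveI : IsIntegrallyClosed B :=
    (isIntegrallyClosed_iff_isIntegralClosure (K := L) (R := B)).2 (by
      refine IsIntegralClosure.tower_top (R := Γ(Y, ⊤) ⧸ p))
  haveI : IsAlgClosed (FractionRing B) :=
    IsAlgClosed.of_ringEquiv L _ (FractionRing.algEquiv B L).symm.toRingEquiv
  haveI : Algebra.IsIntegral (Γ(Y, ⊤) ⧸ p) B := IsIntegralClosure.isIntegral_algebra (Γ(Y, ⊤) ⧸ p) (A := B) L
  refine affData_of_integral (B := B) ?_ _ ?_
  · refine le_of_eq_of_le ((RingHom.injective_iff_ker_eq_bot _).1 fun a c hac => ?_) bot_le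
    exact (algebraMap K L).injective.comp (IsFractionRing.injective _ K) (congrArg Subtype.val hac)
  · let φ : Γ(Y, ⊤) ⟶ CommRingCat.of B :=
      CommRingCat.ofHom ((algebraMap (Γ(Y, ⊤) ⧸ p) B).comp (Ideal.Quotient.mk p))
    have h1 := h B (Spec.map φ ≫ Y.isoSpec.inv)
    rw [preimage_iSup_basicOpen, isAffineOpen_iff_affData] at h1
    have h2 := h1.map (Scheme.ΓSpecIso (CommRingCat.of B)).hom.hom
    convert h2 using 2 with i
    have e : (Spec.map φ ≫ Y.isoSpec.inv).appTop ≫ (Scheme.ΓSpecIso (CommRingCat.of B)).hom = φ := by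
      haveI : IsIso Y.isoSpec.hom.appTop := by rw [Scheme.isoSpec_hom, Scheme.toSpecΓ_appTop]; infer_instance
      have e0 : Y.isoSpec.inv.appTop = (Scheme.ΓSpecIso Γ(Y, ⊤)).inv := by
        rw [← cancel_mono Y.isoSpec.hom.appTop, ← Scheme.Hom.comp_appTop, Iso.hom_inv_id]
        simp [Scheme.isoSpec_hom, Scheme.toSpecΓ_appTop]
      rw [Scheme.Hom.comp_appTop, Category.assoc, Scheme.ΓSpecIso_naturality, e0, Iso.inv_hom_id_assoc]
    exact (congr($(e).hom (f i))).symm

end Groth.Agent.FlatB12
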