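import Groth.Agent.LimitsH94.Approx.Main
import Groth.Agent.LimitsH94.Approx.Arrow
import Groth.Agent.LimitsH94.Approx.Eventually
import Groth.Agent.LimitsH94.LimAffine
import Groth.Agent.AlgSpPts.Diag
import Groth.Agent.ChevAffine.Main
import Groth.Agent.DescLib.SepSurj
import Groth.Agent.MorLib.Thick.Affine
import Groth.Agent.BMLib.Piece
import Mathlib.AlgebraicGeometry.Morphisms.Flat
import Mathlib.AlgebraicGeometry.Morphisms.Integral

/-!
# A scheme dominated by an affine scheme under a universally closed surjection is affine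

The scheme is a limit of noetherian schemes; at a high stage the image of the affine scheme is finite over
its image, so Chevalley's theorem for noetherian schemes applies.
-/

set_option autoImplicit false
set_option backward.isDefEq.respectTransparency false
set_option backward.isDefEq.respectTransparency.types false
set_option linter.style.haveILetI false

universe u

open CategoryTheory Limits AlgebraicGeometry Opposite TopologicalSpace Polynomial
open Groth.Agent.LimitsH94 Groth.Agent.LimitsH94.Approx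

namespace Groth.Agent.FlatB12.AffineImage

/-- An element is integral with coefficients from a stage, and then from all later ones. -/
def StageIntegral {X S : Scheme.{u}} (f : X ⟶ S) (A : Appr S) {a : A.I} (W : (A.D.obj (op a)).Opens) {b : A.I}
    (hb : a ≤ b) {V : X.Opens} (hV : V ≤ (f ≫ A.pr a) ⁻¹ᵁ W) (x : Γ(X, V)) : Prop :=
  ((f ≫ A.pr b).appLE (A.tr hb ⁻¹ᵁ W) V (hV.trans (by
    rw [← Scheme.Hom.comp_preimage, Category.assoc, A.pr_tr]))).hom.IsIntegralElem x

theorem StageIntegral.mono {X S : Scheme.{u}} {f : X ⟶ S} {A : Appr S} {a : A.I} {W : (A.D.obj (op a)).Opens}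
    {b : A.I} {hb : a ≤ b} {V : X.Opens} {hV : V ≤ (f ≫ A.pr a) ⁻¹ᵁ W} {x : Γ(X, V)}
    (h : StageIntegral f A W hb hV x) {c : A.I} (hc : b ≤ c) : StageIntegral f A W (hb.trans hc) hV x := by
  obtain ⟨p, hp, hx⟩ := h
  have hle : A.tr (hb.trans hc) ⁻¹ᵁ W ≤ A.tr hc ⁻¹ᵁ (A.tr hb ⁻¹ᵁ W) := by
    rw [← Scheme.Hom.comp_preimage, A.tr_tr]
  refine ⟨p.map ((A.tr hc).appLE (A.tr hb ⁻¹ᵁ W) _ hle).hom, hp.map _, ?_⟩
  rw [eval₂_map, ← CommRingCat.hom_comp, Scheme.Hom.appLE_comp_appLE]
  simpa only [Category.assoc, A.pr_tr] using hx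

/-- A monic polynomial over the sections of a limit comes from a stage. -/
theorem exists_monic_lift {I : Type u} [SmallCategory I] [IsCofiltered I] {D : I ⥤ Scheme.{u}} {c : Cone D}
    [∀ (a b : I) (f : a ⟶ b), IsAffineHom (D.map f)] (hc : IsLimit c) {i : I} {U : (D.obj i).Opens}
    (hU : IsAffineOpen U) (p : Polynomial (LM.SecLim c U)) (hp : p.Monic) :
    ∃ (l : Over i) (q : Polynomial (LM.Sec U l)), q.Monic ∧ q.map (LM.g c U l).toRingHom = p := by
  classical
  have hG := LM.isColim (c := c) (i := i) (U := U) hc hU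
  choose j t ht using fun n : ℕ => hG.surj (p.coeff n)
  obtain ⟨l, hl⟩ := LM.exists_le_all p.support j
  have hlift : p ∈ Polynomial.lifts (LM.g c U l).toRingHom := by
    refine (Polynomial.lifts_iff_coeff_lifts p).2 fun n => ?_
    by_cases hn : n ∈ p.support
    · obtain ⟨φ⟩ := hl n hn
      exact ⟨(LM.tr c U φ).1 (t n), (AlgHom.congr_fun (LM.tr c U φ).2 (t n)).trans (ht n)⟩
    · exact ⟨0, by rw [map_zero, Polynomial.notMem_support_iff.1 hn]⟩
  rcases subsingleton_or_nontrivial (LM.SecLim c U) with h | h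
  · exact ⟨l, 1, monic_one, Subsingleton.elim _ _⟩
  obtain ⟨q, hq, -, hqm⟩ := Polynomial.lifts_and_degree_eq_and_monic hlift hp
  exact ⟨l, q, hqm, hq⟩

/-- An integral morphism is integral with coefficients from some stage. -/
theorem exists_stageIntegral {X S : Scheme.{u}} (f : X ⟶ S) [IsIntegralHom f] (A : Appr S) {a : A.I}
    {W : (A.D.obj (op a)).Opens} (hW : IsAffineOpen W) {V : X.Opens} (hV : V = (f ≫ A.pr a) ⁻¹ᵁ W)
    (x : Γ(X, V)) : ∃ (b : A.I) (hb : a ≤ b), StageIntegral f A W hb hV.le x := by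
  classical
  subst hV
  haveI := A.isAffineHom_pr a
  obtain ⟨p, hp, hx⟩ := f.isIntegral_app _ (hW.preimage (A.pr a)) x
  obtain ⟨l, q, hqm, hq⟩ := exists_monic_lift (c := Cone.mk S A.π) (i := op a) A.lim hW p hp
  obtain ⟨⟨b⟩, ⟨⟩, φ⟩ := l
  have hb : a ≤ b := leOfHom φ.unop
  obtain rfl : φ = (homOfLE hb).op := Subsingleton.elim _ _
  refine ⟨b, hb, q, hqm, ?_⟩
  rw [← hq, eval₂_map] at hx
  refine (congrArg (fun ψ : Γ(A.D.obj (op b), A.tr hb ⁻¹ᵁ W) →+* Γ(X, (f ≫ A.pr a) ⁻¹ᵁ W) =>
    Polynomial.eval₂ ψ x q) (RingHom.ext fun r => ?_)).trans hx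
  show ((f ≫ A.pr b).appLE (A.tr hb ⁻¹ᵁ W) ((f ≫ A.pr a) ⁻¹ᵁ W) _).hom r =
    (f.app (A.pr a ⁻¹ᵁ W)).hom (((A.pr b).appLE (A.tr hb ⁻¹ᵁ W) (A.pr a ⁻¹ᵁ W)
      (by rw [← Scheme.Hom.comp_preimage, A.pr_tr])).hom r)
  rw [← Scheme.Hom.appLE_eq_app, ← RingHom.comp_apply, ← CommRingCat.hom_comp, Scheme.Hom.appLE_comp_appLE]
  rfl

theorem isAffine_of_isReduced {X S : Scheme.{u}} [IsAffine X] [IsReduced S] [S.IsSeparated] (f : X ⟶ S)
    [IsIntegralHom f] [Surjective f] : IsAffine S := by
  classical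
  haveI : CompactSpace S := ⟨by
    rw [← Set.range_eq_univ.mpr f.surjective]; exact isCompact_range f.continuous⟩
  obtain ⟨A⟩ := exists_appr S
  -- a separated stage
  obtain ⟨⟨a⟩, ha⟩ := exists_stage_isSeparated (c := Cone.mk S A.π) A.lim
    (fun i => Limits.terminal.from (A.D.obj i)) (fun g => terminal.hom_ext _ _) (Limits.terminal.from S)
    (fun i => terminal.hom_ext _ _)
  haveI : (A.D.obj (op a)).IsSeparated := ⟨ha _ (𝟙 _)⟩
  obtain ⟨AX⟩ := exists_appr X
  obtain ⟨c₀, h₀, hh₀⟩ := AX.exists_stage_hom (A.ftz (op a)) (f ≫ A.pr a)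
  haveI : IsAffine (Cone.mk X AX.π).pt := ‹IsAffine X›
  obtain ⟨⟨c₁⟩, hc₁⟩ := Scheme.exists_isAffine_of_isLimit AX.D (Cone.mk X AX.π) AX.lim
  obtain ⟨c, hc0, hc1⟩ := exists_ge_ge c₀ c₁
  haveI := hc₁
  haveI : IsAffine (AX.D.obj (op c)) := isAffine_of_isAffineHom (AX.tr hc1)
  let h : AX.D.obj (op c) ⟶ A.D.obj (op a) := AX.tr hc0 ≫ h₀
  let e : X ⟶ AX.D.obj (op c) := AX.pr c
  have hhe : e ≫ h = f ≫ A.pr a := by rw [← hh₀, ← Category.assoc, AX.pr_tr]
  haveI : IsAffineHom h :=
    haveI : IsAffineHom (h ≫ Limits.terminal.from (A.D.obj (op a))) := inferInstance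
    IsAffineHom.of_comp h (Limits.terminal.from (A.D.obj (op a)))
  haveI : LocallyOfFiniteType h := lft_of_ftz (AX.ftz _) h
  let T := {W : (A.D.obj (op a)).Opens // IsAffineOpen W}
  -- the coefficients of the equations at a stage
  have key : ∀ W : T, ∃ (s : Finset Γ(AX.D.obj (op c), h ⁻¹ᵁ W.1)) (b : A.I) (hb : a ≤ b),
      (letI := (h.app W.1).hom.toAlgebra; Algebra.adjoin Γ(A.D.obj (op a), W.1) (s : Set Γ(AX.D.obj (op c), h ⁻¹ᵁ W.1)) = ⊤) ∧
      ∀ y ∈ s, StageIntegral f A W.1 hb le_rfl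
        (e.appLE (h ⁻¹ᵁ W.1) ((f ≫ A.pr a) ⁻¹ᵁ W.1) (by rw [← Scheme.Hom.comp_preimage, hhe]) y) := by
    intro W
    letI := (h.app W.1).hom.toAlgebra
    have hft : (h.app W.1).hom.FiniteType := by
      rw [← Scheme.Hom.appLE_eq_app]
      exact h.finiteType_appLE W.2 (W.2.preimage h) le_rfl
    obtain ⟨s, hs⟩ := hft.out
    choose b hb hint using fun y => exists_stageIntegral f A W.2 (V := (f ≫ A.pr a) ⁻¹ᵁ W.1) rfl
      (e.appLE (h ⁻¹ᵁ W.1) ((f ≫ A.pr a) ⁻¹ᵁ W.1) (by rw [← Scheme.Hom.comp_preimage, hhe]) y)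
    obtain ⟨m, hm⟩ := Finset.exists_le (insert a (s.image b))
    exact ⟨s, m, hm a (Finset.mem_insert_self _ _), hs, fun y hy =>
      (hint y).mono (hm _ (Finset.mem_insert_of_mem (Finset.mem_image_of_mem b hy)))⟩
  choose s bW hbW hgen hint using key
  obtain ⟨F, hF⟩ := isCompact_univ.elim_finite_subcover (fun W : T => (W.1 : Set (A.D.obj (op a))))
    (fun W => W.1.2) fun x _ => by
      obtain ⟨W, hW, hxW, -⟩ := exists_isAffineOpen_mem_and_subset (x := x) (U := (⊤ : (A.D.obj (op a)).Opens)) trivial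
      exact Set.mem_iUnion.2 ⟨⟨W, hW⟩, hxW⟩
  obtain ⟨b, hb⟩ := Finset.exists_le (insert a (F.image bW))
  have hab : a ≤ b := hb a (Finset.mem_insert_self _ _)
  let P := pullback h (A.tr hab)
  let p₂ : P ⟶ A.D.obj (op b) := pullback.snd _ _
  let eb : X ⟶ P := pullback.lift e (f ≫ A.pr b) (by rw [hhe, Category.assoc, A.pr_tr])
  haveI : IsAffineHom p₂ := MorphismProperty.pullback_snd _ _ inferInstance
  haveI : IsAffine P := isAffine_of_isAffineHom (pullback.fst h (A.tr hab))
  haveI : LocallyOfFiniteType p₂ := MorphismProperty.pullback_snd _ _ inferInstance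
  haveI : QuasiCompact eb := quasiCompact_of_compactSpace eb
  haveI : IsAffine eb.image := isAffine_of_isAffineHom eb.imageι
  let g : eb.image ⟶ A.D.obj (op b) := eb.imageι ≫ p₂
  haveI : IsFinite g := by
    refine (IsFinite.iff_isIntegralHom_and_locallyOfFiniteType g).2 ⟨?_, inferInstance⟩
    refine (HasAffineProperty.iff_of_iSup_eq_top (P := @IsIntegralHom)
      (fun W : F => ⟨A.tr hab ⁻¹ᵁ W.1.1, W.1.2.preimage _⟩) (top_le_iff.1 fun x _ => ?_)).2 fun W => ?_
    · obtain ⟨W, hW, hx⟩ := Set.mem_iUnion₂.1 (hF (Set.mem_univ (A.tr hab x)))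
      exact Opens.mem_iSup.2 ⟨⟨W, hW⟩, hx⟩
    obtain ⟨⟨W, hW⟩, hWF⟩ := W
    let W' := A.tr hab ⁻¹ᵁ W
    have hW' : IsAffineOpen W' := hW.preimage _
    refine ⟨hW'.preimage g, ?_⟩
    change ((g ∣_ W').app ⊤).hom.IsIntegral
    have hgi : (g.app W').hom.IsIntegral := by
      let V : X.Opens := (f ≫ A.pr a) ⁻¹ᵁ W
      have hbb : bW ⟨W, hW⟩ ≤ b := hb _ (Finset.mem_insert_of_mem (Finset.mem_image_of_mem bW hWF))
      have hVb : V ≤ (f ≫ A.pr b) ⁻¹ᵁ W' := by
        rw [← Scheme.Hom.comp_preimage, Category.assoc, A.pr_tr]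
      let ρ := (f ≫ A.pr b).appLE W' V hVb
      letI : Algebra Γ(A.D.obj (op b), W') Γ(X, V) := ρ.hom.toAlgebra
      have hVP : V ≤ eb ⁻¹ᵁ (p₂ ⁻¹ᵁ W') := by
        rw [← Scheme.Hom.comp_preimage, pullback.lift_snd]; exact hVb
      let Φ := eb.appLE (p₂ ⁻¹ᵁ W') V hVP
      have hVe : V ≤ e ⁻¹ᵁ (h ⁻¹ᵁ W) := by rw [← Scheme.Hom.comp_preimage, hhe]
      have hfst : p₂ ⁻¹ᵁ W' = pullback.fst h (A.tr hab) ⁻¹ᵁ (h ⁻¹ᵁ W) ⊓ p₂ ⁻¹ᵁ W' := by
        refine (inf_eq_right.2 ?_).symm
        rw [← Scheme.Hom.comp_preimage, ← Scheme.Hom.comp_preimage, pullback.condition]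
      have hpush := (isIso_pushoutSection_iff (IsPullback.of_hasPullback h (A.tr hab)) le_rfl le_rfl hfst).1
        (isIso_pushoutSection_of_isAffineOpen _ le_rfl le_rfl hfst hW hW' (hW.preimage h))
      have hΦ : ∀ z, IsIntegral Γ(A.D.obj (op b), W') (Φ z) := fun z => by
        have hle : (⊤ : Subring _) ≤ (integralClosure Γ(A.D.obj (op b), W') Γ(X, V)).toSubring.comap Φ.hom := by
          rw [← AlgSpPts.closure_eq_top_of_isPushout hpush, Subring.closure_le]
          rintro _ (⟨y, rfl⟩ | ⟨y, rfl⟩)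
          · show IsIntegral _ (Φ _)
            rw [MorLib.IdealFG.appLE_appLE_apply eb (pullback.fst h (A.tr hab)) e (pullback.lift_fst _ _ _) _ _ hVe]
            letI := (h.app W).hom.toAlgebra
            have hy : y ∈ Algebra.adjoin Γ(A.D.obj (op a), W) (s ⟨W, hW⟩ : Set Γ(AX.D.obj (op c), h ⁻¹ᵁ W)) := by
              rw [hgen ⟨W, hW⟩]; trivial
            induction hy using Algebra.adjoin_induction with
            | mem y hy => exact (hint ⟨W, hW⟩ y hy).mono hbb
            | algebraMap r =>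
              have h1 : e.appLE (h ⁻¹ᵁ W) V hVe (h.app W r) = ρ ((A.tr hab).appLE W W' le_rfl r) := by
                rw [← Scheme.Hom.appLE_eq_app,
                  MorLib.IdealFG.appLE_appLE_apply e h (f ≫ A.pr a) hhe _ _ le_rfl,
                  MorLib.IdealFG.appLE_appLE_apply (f ≫ A.pr b) (A.tr hab) (f ≫ A.pr a)
                    (by rw [Category.assoc, A.pr_tr]) _ _ le_rfl]
              rw [show (algebraMap Γ(A.D.obj (op a), W) Γ(AX.D.obj (op c), h ⁻¹ᵁ W)) r = h.app W r from rfl, h1]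
              exact isIntegral_algebraMap
            | add x y _ _ hx hy => rw [map_add]; exact hx.add hy
            | mul x y _ _ hx hy => rw [map_mul]; exact hx.mul hy
          · show IsIntegral _ (Φ _)
            rw [MorLib.IdealFG.appLE_appLE_apply eb (pullback.snd h (A.tr hab)) (f ≫ A.pr b)
              (pullback.lift_snd _ _ _) _ _ hVb]
            exact isIntegral_algebraMap
        exact hle (Subring.mem_top z)
      intro q
      obtain ⟨z, rfl⟩ := eb.ker.subschemeι_app_surjective ⟨_, hW'.preimage p₂⟩ q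
      obtain ⟨pz, hpz, hz⟩ := hΦ z
      refine ⟨pz, hpz, ?_⟩
      refine eb.toImage_app_injective ⟨_, hW'.preimage p₂⟩ ?_
      have hcomp : eb.toImage ⁻¹ᵁ (eb.imageι ⁻¹ᵁ (p₂ ⁻¹ᵁ W')) = V := by
        rw [← Scheme.Hom.comp_preimage, eb.toImage_imageι, ← Scheme.Hom.comp_preimage, pullback.lift_snd]
        show (f ≫ A.pr b) ⁻¹ᵁ (A.tr hab ⁻¹ᵁ W) = (f ≫ A.pr a) ⁻¹ᵁ W
        rw [← Scheme.Hom.comp_preimage, Category.assoc, A.pr_tr]
      refine (ConcreteCategory.bijective_of_isIso (X.presheaf.map (eqToHom hcomp.symm).op)).1 ?_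
      rw [map_zero, map_zero]
      rw [show ∀ q, X.presheaf.map (eqToHom hcomp.symm).op (eb.toImage.app (eb.imageι ⁻¹ᵁ (p₂ ⁻¹ᵁ W')) q) =
        eb.toImage.appLE _ V hcomp.ge q from fun q => rfl, hom_eval₂]
      have h1 : (eb.toImage.appLE (eb.imageι ⁻¹ᵁ (p₂ ⁻¹ᵁ W')) V hcomp.ge).hom.comp (g.app W').hom = ρ.hom := by
        refine RingHom.ext fun r => ?_
        show eb.toImage.appLE _ V hcomp.ge (g.app W' r) = _
        rw [← Scheme.Hom.appLE_eq_app]
        exact MorLib.IdealFG.appLE_appLE_apply eb.toImage g (f ≫ A.pr b)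
          (by rw [← Category.assoc, eb.toImage_imageι, pullback.lift_snd]) _ _ hVb r
      have h2 : (eb.toImage.appLE (eb.imageι ⁻¹ᵁ (p₂ ⁻¹ᵁ W')) V hcomp.ge).hom (eb.imageι.app (p₂ ⁻¹ᵁ W') z) =
          Φ z := by
        rw [← Scheme.Hom.appLE_eq_app]
        exact MorLib.IdealFG.appLE_appLE_apply eb.toImage eb.imageι eb eb.toImage_imageι _ _ hVP z
      rw [h1]
      exact (congrArg (fun w => eval₂ ρ.hom w pz) h2).trans hz
    rw [morphismRestrict_app, CommRingCat.hom_comp]
    refine RingHom.IsIntegral.trans _ _ ?_ (RingHom.isIntegral_of_surjective _ ?_)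
    · have key : ∀ W'' : (A.D.obj (op b)).Opens, W'' = W' → (g.app W'').hom.IsIntegral := fun _ e => e ▸ hgi
      exact key _ W'.ι_image_top
    · exact (ConcreteCategory.bijective_of_isIso _).2
  -- the image at the stage is affine
  haveI : QuasiCompact g := inferInstance
  haveI : IsFinite g.toImage :=
    haveI : IsFinite (g.toImage ≫ g.imageι) := by rw [g.toImage_imageι]; infer_instance
    IsFinite.of_comp g.toImage g.imageι
  haveI : Surjective g.toImage := ⟨fun y => by
    have h1 : DenseRange g.toImage := g.toImage.denseRange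
    have h2 : IsClosed (Set.range g.toImage) := g.toImage.isClosedMap.isClosed_range
    have h3 := h1.closure_range
    rw [h2.closure_eq] at h3
    exact h3.ge (Set.mem_univ y)⟩
  haveI : IsLocallyNoetherian (A.D.obj (op b)) := (A.ftz _).isLocallyNoetherian
  haveI : IsLocallyNoetherian g.image := LocallyOfFiniteType.isLocallyNoetherian g.imageι
  haveI : CompactSpace g.image := QuasiCompact.compactSpace_of_compactSpace g.imageι
  haveI : IsNoetherian g.image := ⟨⟩
  haveI : IsAffine g.image := ChevAffine.isAffine_of_finite_surjective g.toImage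
  have hfker : f.ker = ⊥ := by
    rw [← Scheme.IdealSheafData.support_eq_top_iff, ← SetLike.coe_injective.eq_iff, Scheme.Hom.support_ker,
      Set.range_eq_univ.mpr f.surjective, closure_univ]
    rfl
  have hle : g.imageι.ker ≤ (A.pr b).ker := by
    have e1 : (A.pr b).ker = (f ≫ A.pr b).ker := by
      rw [Scheme.Hom.ker_comp f, hfker, Scheme.IdealSheafData.map_bot]
    have e2 : f ≫ A.pr b = eb.toImage ≫ g := by
      rw [← Category.assoc, eb.toImage_imageι, pullback.lift_snd]
    rw [e1, e2]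
    exact (Scheme.IdealSheafData.ker_subschemeι _).le.trans (Scheme.Hom.le_ker_comp _ _)
  let l := IsClosedImmersion.lift g.imageι (A.pr b) hle
  haveI : IsAffineHom (A.pr b) := A.isAffineHom_pr b
  haveI : IsAffineHom (l ≫ g.imageι) := by rw [IsClosedImmersion.lift_fac]; infer_instance
  haveI : IsAffineHom l := IsAffineHom.of_comp l g.imageι
  exact isAffine_of_isAffineHom l

/-- The target of a universally closed surjection from an affine scheme is affine. -/
theorem isAffine_of_surjective {X S : Scheme.{u}} (f : X ⟶ S) [IsAffine X] [Surjective f]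
    [UniversallyClosed f] : IsAffine S := by
  haveI : S.IsSeparated := ⟨by
    haveI : IsSeparated (f ≫ Limits.terminal.from S) := inferInstance
    exact DescLib.isSeparated_of_comp_surjective f (Limits.terminal.from S)⟩
  let I : S.IdealSheafData := Scheme.IdealSheafData.vanishingIdeal ⊤
  have hsurj : Function.Surjective I.subschemeι := by
    rw [← Set.range_eq_univ, Scheme.IdealSheafData.range_subschemeι,
      Scheme.IdealSheafData.coe_support_vanishingIdeal]
    rfl
  haveI : Surjective I.subschemeι := ⟨hsurj⟩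
  let f' : pullback f I.subschemeι ⟶ I.subscheme := pullback.snd f I.subschemeι
  haveI : IsAffine (pullback f I.subschemeι) := isAffine_of_isAffineHom (pullback.fst f I.subschemeι)
  haveI : UniversallyClosed f' := MorphismProperty.pullback_snd _ _ inferInstance
  haveI : Surjective f' := MorphismProperty.pullback_snd _ _ inferInstance
  haveI : I.subscheme.IsSeparated := ⟨by
    rw [terminal.hom_ext (Limits.terminal.from I.subscheme) (I.subschemeι ≫ Limits.terminal.from S)]
    infer_instance⟩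
  haveI : IsAffineHom f' :=
    haveI : IsAffineHom (f' ≫ Limits.terminal.from I.subscheme) := inferInstance
    IsAffineHom.of_comp f' (Limits.terminal.from I.subscheme)
  haveI : IsIntegralHom f' := IsIntegralHom.iff_universallyClosed_and_isAffineHom.2 ⟨inferInstance, inferInstance⟩
  haveI : IsAffine I.subscheme := isAffine_of_isReduced f'
  exact MorLib.Thick.isAffine_of_thickening I.subschemeι hsurj

end Groth.Agent.FlatB12.AffineImage
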