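import Groth.Agent.FlatB12.AicSpread
import Mathlib.AlgebraicGeometry.Normalization
import Mathlib.AlgebraicGeometry.Morphisms.Integral
import Mathlib.AlgebraicGeometry.ResidueField
import Mathlib.AlgebraicGeometry.Morphisms.Flat
import Mathlib.AlgebraicGeometry.Morphisms.FinitePresentation

/-!
# An absolutely integrally closed integral cover of a scheme

The integral closure of `O_Y` in the product of the algebraic closures of all residue fields.
-/

set_option autoImplicit false
set_option linter.style.haveILetI false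

universe u

open AlgebraicGeometry CategoryTheory Limits Scheme.AffineZariskiSite

namespace Groth.Agent.FlatB12.AicCover

noncomputable section

variable (Y : Scheme.{u})

/-- The product of the algebraic closures of the residue fields at points of `U`. -/
abbrev Pr (U : Y.Opens) : Type u := ∀ y : U, AlgebraicClosure (Y.residueField y.1)

/-- Evaluation of sections at all points. -/
def ev (U : Y.Opens) : Γ(Y, U) →+* Pr Y U :=
  RingHom.pi fun y => (algebraMap (Y.residueField y.1) (AlgebraicClosure (Y.residueField y.1))).comp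
    (Y.evaluation U y.1 y.2).hom

/-- Restriction. -/
def res {U V : Y.Opens} (h : U ≤ V) : Pr Y V →+* Pr Y U :=
  RingHom.pi fun y => Pi.evalRingHom (fun z : V => AlgebraicClosure (Y.residueField z.1)) ⟨y.1, h y.2⟩

theorem evaluation_map {U V : Y.Opens} (h : U ≤ V) (y : Y) (hy : y ∈ U) (a : Γ(Y, V)) :
    Y.evaluation U y hy (Y.presheaf.map (homOfLE h).op a) = Y.evaluation V y (h hy) a := by
  simp only [Scheme.evaluation, CommRingCat.comp_apply]
  rw [TopCat.Presheaf.germ_res_apply']

theorem res_comp_ev {U V : Y.Opens} (h : U ≤ V) :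
    (res Y h).comp (ev Y V) = (ev Y U).comp (Y.presheaf.map (homOfLE h).op).hom := by
  ext a : 1
  funext y
  exact congrArg (algebraMap (Y.residueField y.1) (AlgebraicClosure (Y.residueField y.1)))
    (evaluation_map Y h y.1 y.2 a).symm

theorem res_isIntegral {U V : Y.Opens} (h : U ≤ V) (x : Pr Y V) (hx : (ev Y V).IsIntegralElem x) :
    (ev Y U).IsIntegralElem (res Y h x) := by
  obtain ⟨p, hp, hpx⟩ := hx
  refine ⟨p.map (Y.presheaf.map (homOfLE h).op).hom, hp.map _, ?_⟩
  rw [Polynomial.eval₂_map, ← res_comp_ev Y h, ← Polynomial.hom_eval₂, hpx, map_zero]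

/-- The presheaf of integral closures. -/
def diagram : Y.Opensᵒᵖ ⥤ CommRingCat.{u} where
  obj U :=
    letI := (ev Y U.unop).toAlgebra
    .of (integralClosure Γ(Y, U.unop) (Pr Y U.unop))
  map {V U} i :=
    CommRingCat.ofHom ((res Y i.unop.le).restrict _ _ fun x hx => res_isIntegral Y i.unop.le x hx)
  map_id U := rfl
  map_comp i j := rfl

/-- The structure map. -/
def diagramMap : Y.presheaf ⟶ diagram Y where
  app U :=
    letI := (ev Y U.unop).toAlgebra
    CommRingCat.ofHom (algebraMap Γ(Y, U.unop) (integralClosure Γ(Y, U.unop) (Pr Y U.unop)))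
  naturality {U V} i := by
    ext a
    exact Subtype.ext (RingHom.congr_fun (res_comp_ev Y i.unop.le) a).symm

open Polynomial in
/-- An integral element over a basic open, multiplied by a power of `r`, extends by zero to an integral element. -/
theorem exists_extend {U : Y.Opens} (hU : IsAffineOpen U) (r : Γ(Y, U)) (z : Pr Y (Y.basicOpen r))
    (hz : (ev Y (Y.basicOpen r)).IsIntegralElem z) :
    ∃ (n : ℕ) (w : Pr Y U), (ev Y U).IsIntegralElem w ∧ res Y (Y.basicOpen_le r) w =
      z * res Y (Y.basicOpen_le r) (ev Y U (r ^ n)) := by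
  classical
  rcases subsingleton_or_nontrivial Γ(Y, Y.basicOpen r) with hs | hs
  · refine ⟨0, 0, ⟨X, monic_X, by simp⟩, ?_⟩
    have h1 : (1 : Pr Y (Y.basicOpen r)) = 0 := by
      rw [← map_one (ev Y (Y.basicOpen r)), Subsingleton.elim (1 : Γ(Y, Y.basicOpen r)) 0, map_zero]
    rw [map_zero, pow_zero, map_one, map_one, mul_one]
    exact (by rw [← one_mul z, h1, zero_mul] : z = 0).symm
  obtain ⟨p, hp, hpz⟩ := hz
  letI := (Y.presheaf.map (homOfLE (Y.basicOpen_le r)).op).hom.toAlgebra
  haveI : IsLocalization.Away r Γ(Y, Y.basicOpen r) := hU.isLocalization_basicOpen r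
  obtain ⟨⟨s, n, rfl⟩, q, hq, -, hqp⟩ := exists_scaleRoots_lift (R := Γ(Y, U)) (Submonoid.powers r) hp
  refine ⟨n, fun y => if h : y.1 ∈ Y.basicOpen r then (z * res Y (Y.basicOpen_le r) (ev Y U (r ^ n))) ⟨y.1, h⟩
    else 0, ⟨X * q, monic_X.mul hq, funext fun y => ?_⟩, funext fun y => ?_⟩
  · let φ : Pr Y U →+* _ := Pi.evalRingHom (fun z : U => AlgebraicClosure (Y.residueField z.1)) y
    show φ ((X * q).eval₂ (ev Y U) _) = 0
    rw [hom_eval₂, eval₂_mul, eval₂_X]
    by_cases h : y.1 ∈ Y.basicOpen r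
    · refine mul_eq_zero_of_right _ ?_
      let χ : Pr Y (Y.basicOpen r) →+* _ :=
        Pi.evalRingHom (fun z : Y.basicOpen r => AlgebraicClosure (Y.residueField z.1)) ⟨y.1, h⟩
      have h1 : φ.comp (ev Y U) = (χ.comp (ev Y (Y.basicOpen r))).comp
          (algebraMap Γ(Y, U) Γ(Y, Y.basicOpen r)) := by
        rw [RingHom.comp_assoc, RingHom.algebraMap_toAlgebra, ← res_comp_ev Y (Y.basicOpen_le r),
          ← RingHom.comp_assoc]
        rfl
      rw [show φ _ = _ from dif_pos h, h1, ← eval₂_map, hqp]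
      show eval₂ _ (χ (z * res Y (Y.basicOpen_le r) (ev Y U (r ^ n)))) _ = 0
      rw [map_mul, mul_comm (χ z),
        show χ (res Y (Y.basicOpen_le r) (ev Y U (r ^ n))) =
          (χ.comp (ev Y (Y.basicOpen r))) (algebraMap Γ(Y, U) Γ(Y, Y.basicOpen r) (r ^ n)) from
          congrArg χ (RingHom.congr_fun (res_comp_ev Y (Y.basicOpen_le r)) (r ^ n)),
        scaleRoots_eval₂_mul, ← hom_eval₂, hpz, map_zero, mul_zero]
    · exact mul_eq_zero_of_left (dif_neg h) _
  · exact dif_pos y.2

theorem coequifibered : ((toOpensFunctor Y).op.whiskerLeft (diagramMap Y)).Coequifibered := by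
  refine coequifibered_iff_forall_isLocalizationAway.mpr fun U r => ?_
  letI := (ev Y U.1).toAlgebra
  letI := (ev Y (Y.basicOpen r)).toAlgebra
  letI : Algebra (integralClosure Γ(Y, U.1) (Pr Y U.1))
      (integralClosure Γ(Y, Y.basicOpen r) (Pr Y (Y.basicOpen r))) :=
    ((diagram Y).map (homOfLE (Y.basicOpen_le r)).op).hom.toAlgebra
  change IsLocalization.Away ((algebraMap Γ(Y, U.1) (integralClosure Γ(Y, U.1) (Pr Y U.1))) r)
    (integralClosure Γ(Y, Y.basicOpen r) (Pr Y (Y.basicOpen r)))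
  have hmap : ∀ (x : integralClosure Γ(Y, U.1) (Pr Y U.1)),
      ((algebraMap _ (integralClosure Γ(Y, Y.basicOpen r) (Pr Y (Y.basicOpen r))) x : _) : Pr Y (Y.basicOpen r)) =
        res Y (Y.basicOpen_le r) x.1 := fun x => rfl
  refine IsLocalization.Away.mk _ ?_ (fun z => ?_) (fun a b hab => ⟨1, ?_⟩)
  · have h1 : IsUnit (Y.presheaf.map (homOfLE (Y.basicOpen_le r)).op r) :=
      Y.toLocallyRingedSpace.toRingedSpace.isUnit_res_basicOpen r
    have h2 := h1.map (algebraMap Γ(Y, Y.basicOpen r) (integralClosure Γ(Y, Y.basicOpen r) (Pr Y (Y.basicOpen r))))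
    convert h2 using 1
    exact Subtype.ext (RingHom.congr_fun (res_comp_ev Y (Y.basicOpen_le r)) r)
  · obtain ⟨n, w, hw, hwz⟩ := exists_extend Y U.2 r z.1 z.2
    refine ⟨n, ⟨w, hw⟩, Subtype.ext ?_⟩
    rw [MulMemClass.coe_mul, SubmonoidClass.coe_pow, hmap, hmap, ← map_pow]
    exact (hwz.trans (by rw [map_pow, map_pow, map_pow]; rfl)).symm
  · refine Subtype.ext (funext fun y => ?_)
    rw [pow_one, MulMemClass.coe_mul, MulMemClass.coe_mul, Pi.mul_apply, Pi.mul_apply]
    by_cases h : y.1 ∈ Y.basicOpen r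
    · exact congrArg _ (congrFun (congrArg Subtype.val hab) ⟨y.1, h⟩)
    · have h1 : ev Y U.1 r y = 0 := by
        show algebraMap _ _ (Y.evaluation U.1 y.1 y.2 r) = _
        rw [(Y.evaluation_eq_zero_iff_notMem_basicOpen y.1 y.2 r).2 h, map_zero]
      show ev Y U.1 r y * _ = ev Y U.1 r y * _
      rw [h1, zero_mul, zero_mul]

/-- The gluing data. -/
def glueData := relativeGluingData (coequifibered Y)

instance : ((glueData Y).functor ⋙ Scheme.forget).IsLocallyDirected :=
  Scheme.Cover.RelativeGluingData.instIsLocallyDirectedI₀CompFunctorForgetOfIsThin ..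

/-- The cover. -/
def total : Scheme.{u} := (glueData Y).glued

/-- The charts. -/
def chart : (total Y).OpenCover := (glueData Y).cover

/-- The projection. -/
def proj : total Y ⟶ Y := (glueData Y).toBase

theorem chart_proj (U : Y.affineOpens) :
    (chart Y).f U ≫ proj Y = Spec.map ((diagramMap Y).app (.op U.1)) ≫ U.2.fromSpec :=
  colimit.ι_desc _ _

theorem comp_chart_proj (U : Y.affineOpens) {X : CommRingCat.{u}} (χ : (diagram Y).obj (.op U.1) ⟶ X) :
    Spec.map χ ≫ (chart Y).f U ≫ proj Y = Spec.map ((diagramMap Y).app (.op U.1) ≫ χ) ≫ U.2.fromSpec :=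
  (congrArg (fun m : Spec ((diagram Y).obj (.op U.1)) ⟶ Y => Spec.map χ ≫ m) (chart_proj Y U)).trans
    (Spec.map_comp_assoc ((diagramMap Y).app (.op U.1)) χ U.2.fromSpec).symm

set_option backward.isDefEq.respectTransparency.types false in
theorem proj_preimage (U : Y.affineOpens) : proj Y ⁻¹ᵁ U = ((chart Y).f U).opensRange := by
  simpa using! (glueData Y).toBase_preimage_eq_opensRange_ι U

set_option backward.isDefEq.respectTransparency false in
theorem isIntegralHom_proj : IsIntegralHom (proj Y) := by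
  rw [IsZariskiLocalAtTarget.iff_of_iSup_eq_top (P := @IsIntegralHom.{u}) _ (iSup_affineOpens_eq_top _)]
  intro U
  let e := IsOpenImmersion.isoOfRangeEq (proj Y ⁻¹ᵁ U).ι ((chart Y).f U)
    (by simpa using congr($(proj_preimage Y U).1))
  rw [← MorphismProperty.cancel_left_of_respectsIso @IsIntegralHom e.inv,
    ← MorphismProperty.cancel_right_of_respectsIso @IsIntegralHom _ U.2.isoSpec.hom]
  have : ((diagramMap Y).app (.op U.1)).hom.IsIntegral := by
    letI := (ev Y U.1).toAlgebra
    change (algebraMap Γ(Y, U.1) (integralClosure Γ(Y, U.1) (Pr Y U.1))).IsIntegral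
    exact algebraMap_isIntegral_iff.mpr inferInstance
  convert! IsIntegralHom.SpecMap_iff.mpr this
  rw [← cancel_mono U.2.fromSpec]
  simp [IsAffineOpen.isoSpec_hom, e, chart_proj]

theorem apply_eq_of_evaluation {U : Y.Opens} (hU : IsAffineOpen U) {y : Y} (hy : y ∈ U) {K : CommRingCat.{u}}
    (β : Y.residueField y ⟶ K) (o : Spec K) :
    (Spec.map (Y.presheaf.germ U y hy ≫ Y.residue y ≫ β) ≫ hU.fromSpec) o = y := by
  rw [Spec.map_comp, Spec.map_comp, Category.assoc, Category.assoc]
  have : Spec.map (Y.presheaf.germ U y hy) ≫ hU.fromSpec = Y.fromSpecStalk y :=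
    hU.fromSpecStalk_eq_fromSpecStalk hy
  rw [this, ← Scheme.fromSpecResidueField, Scheme.Hom.comp_apply, Scheme.fromSpecResidueField_apply]

theorem surjective_proj : Surjective (proj Y) := by
  refine ⟨fun y => ?_⟩
  obtain ⟨_, ⟨U, hU, rfl⟩, hy, -⟩ := Y.isBasis_affineOpens.exists_subset_of_mem_open (Set.mem_univ y) isOpen_univ
  letI := (ev Y U).toAlgebra
  let Ω := AlgebraicClosure (Y.residueField y)
  let χ : CommRingCat.of (integralClosure Γ(Y, U) (Pr Y U)) ⟶ CommRingCat.of Ω :=
    CommRingCat.ofHom ((Pi.evalRingHom (fun z : U => AlgebraicClosure (Y.residueField z.1)) ⟨y, hy⟩).comp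
      (integralClosure Γ(Y, U) (Pr Y U)).val.toRingHom)
  let o : Spec (CommRingCat.of Ω) := (⊥ : PrimeSpectrum Ω)
  let U' : Y.affineOpens := ⟨U, hU⟩
  refine ⟨(chart Y).f U' (Spec.map χ o), ?_⟩
  show (Spec.map χ ≫ (chart Y).f U' ≫ proj Y) o = y
  refine Eq.trans (congrArg (fun m : Spec _ ⟶ Y => m o) (comp_chart_proj Y U' χ)) ?_
  rw [
    show (diagramMap Y).app (.op U) ≫ χ = Y.presheaf.germ U y hy ≫ Y.residue y ≫
      CommRingCat.ofHom (algebraMap (Y.residueField y) Ω) from rfl]
  exact apply_eq_of_evaluation Y hU hy _ _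

/-- Locally, the projection factors through any flat surjection of finite presentation. -/
theorem exists_lift {S' : Scheme.{u}} (g : S' ⟶ Y) [Flat g] [LocallyOfFinitePresentation g] [Surjective g]
    (t : total Y) : ∃ (V : (total Y).Opens) (r : ↑V ⟶ S'), t ∈ V ∧ r ≫ g = V.ι ≫ proj Y := by
  obtain ⟨U, Q, rfl⟩ := (chart Y).exists_eq t
  letI := (ev Y U.1).toAlgebra
  let B := integralClosure Γ(Y, U.1) (Pr Y U.1)
  let Q' : PrimeSpectrum B := Q
  haveI : IsDomain (Localization.AtPrime Q'.asIdeal) := isDomain_localization_integralClosure _ _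
  let p : PrimeSpectrum Γ(Y, U.1) := PrimeSpectrum.comap (algebraMap Γ(Y, U.1) B) Q'
  obtain ⟨x, hx⟩ := g.surjective (U.2.fromSpec p)
  have hxU : g x ∈ U.1 := by
    rw [hx, ← SetLike.mem_coe, ← U.2.range_fromSpec]
    exact Set.mem_range_self _
  obtain ⟨_, ⟨W, hW, rfl⟩, hxW, hWU⟩ :=
    S'.isBasis_affineOpens.exists_subset_of_mem_open (show x ∈ g ⁻¹ᵁ U.1 from hxU) (g ⁻¹ᵁ U.1).2
  letI := (g.appLE U.1 W hWU).hom.toAlgebra
  haveI : Module.Flat Γ(Y, U.1) Γ(S', W) :=
    HasRingHomProperty.appLE (P := @Flat) g inferInstance ⟨U.1, U.2⟩ ⟨W, hW⟩ hWU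
  haveI : Algebra.FinitePresentation Γ(Y, U.1) Γ(S', W) :=
    HasRingHomProperty.appLE (P := @LocallyOfFinitePresentation) g inferInstance ⟨U.1, U.2⟩ ⟨W, hW⟩ hWU
  have hxr : x ∈ Set.range hW.fromSpec := by rw [hW.range_fromSpec]; exact hxW
  obtain ⟨P, hP⟩ := hxr
  have hPp : PrimeSpectrum.comap (algebraMap Γ(Y, U.1) Γ(S', W)) P = p := by
    refine U.2.fromSpec.isOpenEmbedding.injective ?_
    rw [← hx, ← hP, ← Scheme.Hom.comp_apply, ← IsAffineOpen.SpecMap_appLE_fromSpec g U.2 hW hWU]
    rfl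
  obtain ⟨r, hr, ⟨φ⟩⟩ := exists_section_away (A := Γ(Y, U.1)) (B := B) (C := Γ(S', W)) Q'.asIdeal
    (monicRoots_integralClosure _) P (congrArg PrimeSpectrum.asIdeal hPp).symm
  let i : Spec (CommRingCat.of (Localization.Away r)) ⟶ Spec (CommRingCat.of B) :=
    Spec.map (CommRingCat.ofHom (algebraMap B (Localization.Away r)))
  haveI : IsOpenImmersion i := IsOpenImmersion.of_isLocalization r
  let j : Spec (CommRingCat.of (Localization.Away r)) ⟶ total Y := i ≫ (chart Y).f U
  haveI : IsOpenImmersion j := MorphismProperty.comp_mem @IsOpenImmersion i _ inferInstance ((chart Y).map_prop U)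
  refine ⟨j.opensRange, j.isoOpensRange.inv ≫ Spec.map (CommRingCat.ofHom φ.toRingHom) ≫ hW.fromSpec, ?_, ?_⟩
  · have : (Q' : PrimeSpectrum B) ∈ Set.range (PrimeSpectrum.comap (algebraMap B (Localization.Away r))) := by
      rw [PrimeSpectrum.localization_away_comap_range _ r]
      exact hr
    obtain ⟨o, ho⟩ := this
    exact ⟨o, show (chart Y).f U (i o) = _ from congrArg _ ho⟩
  · have h1 : Spec.map (CommRingCat.ofHom φ.toRingHom) ≫ hW.fromSpec ≫ g = j ≫ proj Y := by
      rw [← IsAffineOpen.SpecMap_appLE_fromSpec g U.2 hW hWU]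
      refine Eq.trans ?_ (Category.assoc i ((chart Y).f U) (proj Y)).symm
      refine Eq.trans ?_ (comp_chart_proj Y U _).symm
      rw [← Spec.map_comp_assoc]
      congr 2
      exact CommRingCat.hom_ext φ.comp_algebraMap
    rw [Category.assoc, Category.assoc, h1, Iso.inv_comp_eq, ← Category.assoc, Scheme.Hom.isoOpensRange_hom_ι]

end

end Groth.Agent.FlatB12.AicCover
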