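import Mathlib.FieldTheory.IsAlgClosed.Basic
import Mathlib.RingTheory.IntegralClosure.IntegrallyClosed
import Mathlib.RingTheory.Localization.AtPrime.Basic
import Mathlib.RingTheory.LocalRing.ResidueField.Basic
import Mathlib.RingTheory.Polynomial.ScaleRoots

/-!
# Integral closures in products of algebraically closed fields

The integral closure `B` of a ring `A` in a product of algebraically closed fields has local rings which are
domains in which every monic polynomial of positive degree has a root.
-/

set_option autoImplicit false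
set_option linter.style.haveILetI false

universe u

open Polynomial

namespace Groth.Agent.FlatB12

/-- Every monic polynomial of positive degree has a root. -/
def MonicRoots (R : Type*) [CommRing R] : Prop :=
  ∀ p : R[X], p.Monic → 0 < p.natDegree → ∃ r, p.eval r = 0

theorem exists_scaleRoots_lift {R S : Type*} [CommRing R] [CommRing S] [Algebra R S] (M : Submonoid R)
    [IsLocalization M S] [Nontrivial S] {p : S[X]} (hp : p.Monic) :
    ∃ (s : M) (q : R[X]), q.Monic ∧ q.natDegree = p.natDegree ∧
      q.map (algebraMap R S) = p.scaleRoots (algebraMap R S s) := by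
  classical
  obtain ⟨s, hs⟩ := IsLocalization.exist_integer_multiples_of_finset M ((Finset.range p.natDegree).image p.coeff)
  have hl : p.scaleRoots (algebraMap R S s) ∈ Polynomial.lifts (algebraMap R S) := by
    rw [Polynomial.lifts_iff_coeff_lifts]
    intro i
    rw [Polynomial.coeff_scaleRoots]
    rcases lt_trichotomy i p.natDegree with h | h | h
    · obtain ⟨a, ha⟩ := hs (p.coeff i) (Finset.mem_image_of_mem _ (Finset.mem_range.2 h))
      refine ⟨a * (s : R) ^ (p.natDegree - i - 1), ?_⟩
      obtain ⟨k, hk⟩ : ∃ k, p.natDegree - i = k + 1 := ⟨p.natDegree - i - 1, by omega⟩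
      rw [map_mul, map_pow, ha, Algebra.smul_def, hk, Nat.add_sub_cancel, pow_succ]
      ring
    · exact ⟨1, by rw [map_one, h, hp.coeff_natDegree, Nat.sub_self, pow_zero, mul_one]⟩
    · exact ⟨0, by rw [map_zero, Polynomial.coeff_eq_zero_of_natDegree_lt h, zero_mul]⟩
  obtain ⟨q, hq, hd, hm⟩ := Polynomial.lifts_and_natDegree_eq_and_monic hl ((Polynomial.monic_scaleRoots_iff _).2 hp)
  exact ⟨s, q, hm, by rw [hd, Polynomial.natDegree_scaleRoots], hq⟩

theorem MonicRoots.localization {R S : Type*} [CommRing R] [CommRing S] [Algebra R S] (M : Submonoid R)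
    [IsLocalization M S] [Nontrivial S] (h : MonicRoots R) : MonicRoots S := by
  intro p hp hd
  obtain ⟨s, q, hqm, hqd, hq⟩ := exists_scaleRoots_lift (R := R) M hp
  obtain ⟨r, hr⟩ := h q hqm (hqd ▸ hd)
  obtain ⟨u, hu⟩ := IsLocalization.map_units S s
  have h1 : (p.scaleRoots (algebraMap R S s)).eval (algebraMap R S r) = 0 := by
    rw [← hq, Polynomial.eval_map, Polynomial.eval₂_at_apply, hr, map_zero]
  refine ⟨↑u⁻¹ * algebraMap R S r, ?_⟩
  have h2 := Polynomial.scaleRoots_eval₂_mul (p := p) (RingHom.id S) (↑u⁻¹ * algebraMap R S r) (algebraMap R S s)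
  rw [RingHom.id_apply, ← hu, ← mul_assoc, Units.mul_inv, one_mul, hu, Polynomial.eval₂_id, Polynomial.eval₂_id,
    h1] at h2
  exact ((u.isUnit.pow p.natDegree).mul_right_eq_zero).1 (by rw [hu]; exact h2.symm)

theorem MonicRoots.of_surjective {R S : Type*} [CommRing R] [CommRing S] [Nontrivial S] (φ : R →+* S)
    (hφ : Function.Surjective φ) (h : MonicRoots R) : MonicRoots S := by
  intro p hp hd
  have hl : p ∈ Polynomial.lifts φ := by
    rw [Polynomial.lifts_iff_coeff_lifts]
    exact fun n => hφ _
  obtain ⟨q, hq, hqd, hqm⟩ := Polynomial.lifts_and_natDegree_eq_and_monic hl hp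
  obtain ⟨r, hr⟩ := h q hqm (hqd.symm ▸ hd)
  exact ⟨φ r, by rw [← hq, Polynomial.eval_map, Polynomial.eval₂_at_apply, hr, map_zero]⟩

theorem MonicRoots.exists_eq_of_aeval {R K : Type*} [CommRing R] [IsDomain R] [CommRing K] [IsDomain K] [Algebra R K]
    (h : MonicRoots R) {x : K} : ∀ (n : ℕ) (p : R[X]), p.natDegree = n → p.Monic → aeval x p = 0 →
      ∃ r, algebraMap R K r = x := by
  intro n
  induction n with
  | zero =>
    intro p hd hp hx
    rw [hp.natDegree_eq_zero.1 hd, map_one] at hx
    exact absurd hx one_ne_zero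
  | succ n ih =>
    intro p hd hp hx
    obtain ⟨r, hr⟩ := h p hp (by omega)
    obtain ⟨q, rfl⟩ := Polynomial.dvd_iff_isRoot.2 (show p.IsRoot r from hr)
    have hq : q.Monic := (Polynomial.monic_X_sub_C r).of_mul_monic_left hp
    rw [map_mul, mul_eq_zero, map_sub, Polynomial.aeval_X, Polynomial.aeval_C, sub_eq_zero] at hx
    rcases hx with hx | hx
    · exact ⟨r, hx.symm⟩
    · refine ih q ?_ hq hx
      rw [(Polynomial.monic_X_sub_C r).natDegree_mul hq, Polynomial.natDegree_X_sub_C] at hd
      omega

theorem MonicRoots.isIntegrallyClosed {R : Type*} [CommRing R] [IsDomain R] (h : MonicRoots R) : IsIntegrallyClosed R :=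
  (isIntegrallyClosed_iff (FractionRing R)).2 fun {x} hx => by
    obtain ⟨p, hp, hpx⟩ := hx
    exact h.exists_eq_of_aeval (x := x) p.natDegree p rfl hp hpx

theorem MonicRoots.isAlgClosed {K : Type*} [Field K] (h : MonicRoots K) : IsAlgClosed K :=
  IsAlgClosed.of_exists_root K fun p hp hirr => h p hp hirr.natDegree_pos

theorem MonicRoots.isAlgClosed_fractionRing {R : Type*} [CommRing R] [IsDomain R] (h : MonicRoots R) :
    IsAlgClosed (FractionRing R) :=
  (h.localization (S := FractionRing R) (nonZeroDivisors R)).isAlgClosed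

theorem MonicRoots.isAlgClosed_residueField {R : Type*} [CommRing R] [IsLocalRing R] (h : MonicRoots R) :
    IsAlgClosed (IsLocalRing.ResidueField R) :=
  (h.of_surjective (IsLocalRing.residue R) IsLocalRing.residue_surjective).isAlgClosed

section Product

variable {A : Type*} [CommRing A] {ι : Type*} (Ω : ι → Type*) [∀ i, Field (Ω i)] [∀ i, IsAlgClosed (Ω i)]
  [Algebra A (∀ i, Ω i)]

theorem monicRoots_integralClosure : MonicRoots (integralClosure A (∀ i, Ω i)) := by
  intro p hp hd
  let φ : ∀ i, integralClosure A (∀ i, Ω i) →+* Ω i := fun i =>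
    (Pi.evalRingHom Ω i).comp (integralClosure A (∀ i, Ω i)).val.toRingHom
  have hr : ∀ i, ∃ r : Ω i, (p.map (φ i)).eval r = 0 := fun i => by
    refine IsAlgClosed.exists_root _ ?_
    rw [hp.degree_map, Polynomial.degree_eq_natDegree (fun h : p = 0 => by simp [h] at hd)]
    exact_mod_cast hd.ne'
  choose r hr using hr
  have h0 : aeval r p = 0 := funext fun i => by
    have := hr i
    rw [Polynomial.eval_map] at this
    rw [Pi.zero_apply, ← this, Polynomial.aeval_def]
    show Pi.evalRingHom Ω i (p.eval₂ _ r) = _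
    rw [Polynomial.hom_eval₂]
    rfl
  have hint : IsIntegral A r := isIntegral_trans (R := A) r ⟨p, hp, h0⟩
  exact ⟨⟨r, hint⟩, Subtype.val_injective
    ((Polynomial.hom_eval₂ p (RingHom.id _) (integralClosure A (∀ i, Ω i)).val.toRingHom ⟨r, hint⟩).trans h0)⟩

omit [∀ i, IsAlgClosed (Ω i)] in
theorem isDomain_localization_integralClosure (Q : Ideal (integralClosure A (∀ i, Ω i))) [Q.IsPrime] :
    IsDomain (Localization.AtPrime Q) := by
  classical
  haveI : NoZeroDivisors (Localization.AtPrime Q) := ⟨fun {x y} hxy => by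
    obtain ⟨⟨a, s⟩, hs⟩ := IsLocalization.surj Q.primeCompl x
    obtain ⟨⟨b, t⟩, ht⟩ := IsLocalization.surj Q.primeCompl y
    have h1 : algebraMap (integralClosure A (∀ i, Ω i)) (Localization.AtPrime Q) (a * b) = 0 := by
      rw [map_mul, ← hs, ← ht, mul_mul_mul_comm, hxy, zero_mul]
    obtain ⟨⟨c, hc⟩, hc0⟩ := (IsLocalization.map_eq_zero_iff Q.primeCompl _ _).1 h1
    let e₀ : ∀ i, Ω i := fun i => if a.1 i = 0 then 1 else 0
    have he : IsIntegral A e₀ := ⟨X ^ 2 - X, Polynomial.monic_X_pow_sub (Polynomial.degree_X_le.trans_lt (by norm_num)), by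
      funext i
      by_cases h : a.1 i = 0 <;> simp [e₀, h]⟩
    let e : integralClosure A (∀ i, Ω i) := ⟨e₀, he⟩
    have hea : e * a = 0 := Subtype.ext (funext fun i => by by_cases h : a.1 i = 0 <;> simp [e, e₀, h])
    by_cases heQ : e ∈ Q
    · right
      refine ((IsLocalization.map_units (Localization.AtPrime Q) t).mul_left_eq_zero).1 (ht.trans ?_)
      have h1e : (1 - e) * (c * b) = 0 := Subtype.ext (funext fun i => by
        by_cases h : a.1 i = 0
        · simp [e, e₀, h]
        · have := congrFun (congrArg Subtype.val hc0) i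
          simp only [MulMemClass.coe_mul, Pi.mul_apply, ZeroMemClass.coe_zero, Pi.zero_apply, mul_eq_zero] at this
          rcases this with h' | h' | h'
          · simp [e, e₀, h, h']
          · exact absurd h' h
          · simp [e, e₀, h, h'])
      refine (IsLocalization.map_eq_zero_iff Q.primeCompl _ b).2 ⟨⟨(1 - e) * c, ?_⟩, by rw [mul_assoc]; exact h1e⟩
      exact fun h => (Ideal.IsPrime.mem_or_mem ‹Q.IsPrime› h).elim
        (fun h' => (Ideal.ne_top_iff_one Q).1 Ideal.IsPrime.ne_top' (by simpa using Q.add_mem h' heQ)) hc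
    · left
      refine ((IsLocalization.map_units (Localization.AtPrime Q) s).mul_left_eq_zero).1 (hs.trans ?_)
      exact (IsLocalization.map_eq_zero_iff Q.primeCompl _ a).2 ⟨⟨e, heQ⟩, hea⟩⟩
  exact NoZeroDivisors.to_isDomain (Localization.AtPrime Q)

end Product

end Groth.Agent.FlatB12
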