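import Groth.Agent.MorLib.WeightPositive
import Groth.Agent.SGA1Q.SigmaFinite
import Mathlib.AlgebraicGeometry.ZariskisMainTheorem
import Mathlib.RingTheory.Polynomial.Vieta
import Mathlib.RingTheory.IntegralClosure.IntegrallyClosed

/-!
# The maximal locus of a weighting over an absolutely integrally closed domain is affine
-/

set_option autoImplicit false
set_option linter.style.haveILetI false

universe u

open AlgebraicGeometry CategoryTheory Limits TopologicalSpace

namespace Groth.Agent.FlatB12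

/-- Integral elements of a domain over an absolutely integrally closed domain lie in the base. -/
theorem exists_algebraMap_eq_of_isIntegral {B D : Type u} [CommRing B] [IsDomain B] [IsIntegrallyClosed B]
    [IsAlgClosed (FractionRing B)] [CommRing D] [IsDomain D] [Algebra B D] {x : D} (hx : IsIntegral B x) :
    ∃ b, algebraMap B D b = x := by
  classical
  obtain ⟨p, hpm, hp⟩ := hx
  let K := FractionRing B
  have hs := IsAlgClosed.splits (p.map (algebraMap B K))
  have hroots : ∀ r ∈ (p.map (algebraMap B K)).roots, ∃ b, algebraMap B K b = r := fun r hr =>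
    IsIntegrallyClosed.isIntegral_iff.1 ⟨p, hpm, by
      have := (Polynomial.mem_roots'.1 hr).2
      rwa [Polynomial.IsRoot, Polynomial.eval_map] at this⟩
  choose! φ hφ using hroots
  have hprod : p = (((p.map (algebraMap B K)).roots.map φ).map fun b => Polynomial.X - Polynomial.C b).prod := by
    apply Polynomial.map_injective (algebraMap B K) (IsFractionRing.injective B K)
    conv_lhs => rw [hs.eq_prod_roots_of_monic (hpm.map _)]
    rw [Polynomial.map_multiset_prod, Multiset.map_map, Multiset.map_map]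
    refine congrArg Multiset.prod (Multiset.map_congr rfl fun r hr => ?_)
    simp [hφ r hr]
  have h0 : Polynomial.eval₂ (algebraMap B D) x p = 0 := hp
  rw [hprod, Polynomial.eval₂_multiset_prod, Multiset.prod_eq_zero_iff, Multiset.mem_map] at h0
  obtain ⟨q, hq, hq0⟩ := h0
  obtain ⟨b, -, rfl⟩ := Multiset.mem_map.1 hq
  rw [Polynomial.eval₂_sub, Polynomial.eval₂_X, Polynomial.eval₂_C, sub_eq_zero] at hq0
  exact ⟨b, hq0.symm⟩

/-- A quasi-finite dominant affine integral scheme over an absolutely integrally closed domain is open in it. -/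
theorem isOpenImmersion_of_quasiFinite {B D : Type u} [CommRing B] [IsDomain B] [IsIntegrallyClosed B]
    [IsAlgClosed (FractionRing B)] [CommRing D] [IsDomain D] [Algebra B D] [Algebra.FiniteType B D]
    [Algebra.QuasiFinite B D] (hinj : Function.Injective (algebraMap B D)) :
    IsOpenImmersion (Spec.map (CommRingCat.ofHom (algebraMap B D))) := by
  have key : ∀ q : PrimeSpectrum D, ∃ b : B, algebraMap B D b ∉ q.asIdeal ∧
      Function.Bijective (Localization.awayMap (algebraMap B D) b) := by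
    intro q
    obtain ⟨S', hS', r, hr, hbij⟩ :=
      Algebra.QuasiFiniteAt.exists_fg_and_exists_notMem_and_awayMap_bijective (R := B) q.asIdeal
    haveI : Module.Finite B S' := ⟨(Submodule.fg_top _).mpr hS'⟩
    have hsurj : Function.Surjective (algebraMap B S') := fun s => by
      obtain ⟨b, hb⟩ := exists_algebraMap_eq_of_isIntegral (B := B) ((Algebra.IsIntegral.isIntegral (R := B) s).map S'.val)
      exact ⟨b, Subtype.ext hb⟩
    obtain ⟨b, rfl⟩ := hsurj r
    refine ⟨b, hr, ?_⟩
    have hc : ∀ a : B, Localization.awayMap (algebraMap B D) b (algebraMap B (Localization.Away b) a) =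
        algebraMap D (Localization.Away (algebraMap B D b)) (algebraMap B D a) := fun a => by
      simp [Localization.awayMap, IsLocalization.Away.map]
    refine ⟨(injective_iff_map_eq_zero _).2 fun x hx => ?_, fun y => ?_⟩
    · obtain ⟨⟨a, ⟨_, n, rfl⟩⟩, he⟩ := IsLocalization.surj (Submonoid.powers b) x
      have h1 := congrArg (Localization.awayMap (algebraMap B D) b) he
      rw [map_mul, hx, zero_mul, hc] at h1
      obtain ⟨⟨_, m, rfl⟩, hm⟩ :=
        (IsLocalization.map_eq_zero_iff (Submonoid.powers (algebraMap B D b)) _ _).1 h1.symm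
      have h2 : algebraMap B (Localization.Away b) a = 0 :=
        (IsLocalization.map_eq_zero_iff (Submonoid.powers b) _ _).2
          ⟨⟨b ^ m, m, rfl⟩, hinj (by rw [map_mul, map_pow, map_zero]; exact hm)⟩
      rw [h2] at he
      exact ((IsLocalization.map_units (Localization.Away b) (⟨b ^ n, n, rfl⟩ : Submonoid.powers b)).mul_left_eq_zero).1 he
    · obtain ⟨⟨d, ⟨_, k, rfl⟩⟩, hy⟩ := IsLocalization.surj (Submonoid.powers (algebraMap B D b)) y
      -- `d` times a power of `b` comes from `B`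
      obtain ⟨z, hz⟩ := hbij.2 (algebraMap D (Localization.Away (S'.val.toRingHom (algebraMap B S' b))) d)
      obtain ⟨⟨t, ⟨_, n, rfl⟩⟩, he⟩ := IsLocalization.surj (Submonoid.powers (algebraMap B S' b)) z
      obtain ⟨a, rfl⟩ := hsurj t
      have hc' : ∀ t : S', Localization.awayMap S'.val.toRingHom (algebraMap B S' b) (algebraMap S' (Localization.Away (algebraMap B S' b)) t) =
          algebraMap D (Localization.Away (S'.val.toRingHom (algebraMap B S' b))) (S'.val.toRingHom t) := fun t => by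
        simp only [Localization.awayMap, IsLocalization.Away.map, IsLocalization.map_eq]
      have h1 := congrArg (Localization.awayMap S'.val.toRingHom (algebraMap B S' b)) he
      rw [map_mul, hz, hc', hc', ← map_mul] at h1
      have hr0 : S'.val.toRingHom (algebraMap B S' b) ≠ 0 := fun e => hr (by
        show (algebraMap B S' b : D) ∈ q.asIdeal
        rw [show (algebraMap B S' b : D) = 0 from e]; exact q.asIdeal.zero_mem)
      have h2 : d * algebraMap B D b ^ n = algebraMap B D a := by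
        have h3 := IsLocalization.injective (Localization.Away (S'.val.toRingHom (algebraMap B S' b)))
          (powers_le_nonZeroDivisors_of_noZeroDivisors hr0) h1
        simpa using h3
      obtain ⟨u, hu⟩ := IsLocalization.map_units (Localization.Away b) (⟨b ^ (k + n), k + n, rfl⟩ : Submonoid.powers b)
      refine ⟨algebraMap B _ a * ↑u⁻¹, ?_⟩
      have h4 : Localization.awayMap (algebraMap B D) b (↑u : Localization.Away b) *
          Localization.awayMap (algebraMap B D) b (↑u⁻¹ : Localization.Away b) = 1 := by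
        rw [← map_mul, Units.mul_inv, map_one]
      have h5 : y * Localization.awayMap (algebraMap B D) b (↑u : Localization.Away b) =
          algebraMap D (Localization.Away (algebraMap B D b)) (algebraMap B D a) := by
        rw [hu, hc]
        show y * algebraMap D (Localization.Away (algebraMap B D b)) (algebraMap B D (b ^ (k + n))) = _
        rw [map_pow, pow_add, map_mul, ← mul_assoc, hy, ← map_mul]
        exact congrArg _ h2
      rw [map_mul, hc, ← h5, mul_assoc, h4, mul_one]
  choose b hb hbij using key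
  let g := Spec.map (CommRingCat.ofHom (algebraMap B D))
  let V : (Spec (CommRingCat.of B)).Opens := ⨆ q, PrimeSpectrum.basicOpen (b q)
  have hV : g ⁻¹ᵁ V = ⊤ := by
    refine top_unique fun (q : PrimeSpectrum D) _ => ?_
    exact Opens.mem_iSup.2 ⟨q, hb q⟩
  haveI : IsOpenImmersion (g ∣_ V) := by
    refine (IsZariskiLocalAtTarget.iff_of_iSup_eq_top (P := @IsOpenImmersion.{u})
      (fun q => V.ι ⁻¹ᵁ (PrimeSpectrum.basicOpen (b q) : (Spec (CommRingCat.of B)).Opens)) ?_).2 fun q => ?_
    · refine top_unique fun z _ => ?_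
      obtain ⟨q, hq⟩ := Opens.mem_iSup.1 z.2
      exact Opens.mem_iSup.2 ⟨q, hq⟩
    · have he : V.ι ''ᵁ (V.ι ⁻¹ᵁ (PrimeSpectrum.basicOpen (b q) : (Spec (CommRingCat.of B)).Opens)) =
          (PrimeSpectrum.basicOpen (b q) : (Spec (CommRingCat.of B)).Opens) := by
        rw [Scheme.Hom.image_preimage_eq_opensRange_inf, Scheme.Opens.opensRange_ι]
        exact inf_eq_right.2 (le_iSup (fun q => (PrimeSpectrum.basicOpen (b q) : (Spec (CommRingCat.of B)).Opens)) q)
      refine (MorphismProperty.arrow_mk_iso_iff @IsOpenImmersion.{u}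
        (morphismRestrictRestrict g V _ ≪≫ morphismRestrictEq g he ≪≫
          SpecMapRestrictBasicOpenIso (CommRingCat.ofHom (algebraMap B D)) (b q))).2 ?_
      haveI : IsIso (CommRingCat.ofHom (Localization.awayMap (algebraMap B D) (b q))) :=
        (ConcreteCategory.isIso_iff_bijective _).2 (hbij q)
      exact IsOpenImmersion.of_isIso _
  haveI : IsIso (g ⁻¹ᵁ V).ι := by
    rw [hV, ← Scheme.topIso_hom]
    infer_instance
  have : g = inv (g ⁻¹ᵁ V).ι ≫ (g ∣_ V) ≫ V.ι := by rw [morphismRestrict_ι, IsIso.inv_hom_id_assoc]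
  show IsOpenImmersion g
  rw [this]
  infer_instance

variable {B : Type u} [CommRing B] [IsDomain B] [IsIntegrallyClosed B] [IsAlgClosed (FractionRing B)]

/-- Over an absolutely integrally closed domain, the locus where a positive weighting attains its bound is
affine: it is the intersection of the images of the components of the source. -/
theorem isAffineOpen_max_of_absIntClosed {X : Scheme.{u}} [IsAffine X] (f : X ⟶ Spec (CommRingCat.of B))
    [LocallyQuasiFinite f] [LocallyOfFiniteType f] {w : X → ℤ} (hw : MoreMor.IsWeighting f w) (hpos : ∀ x, 0 < w x)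
    (d : ℤ) (hmax : ∀ y, MoreMor.fibreIntegral f w y ≤ d) (U : (Spec (CommRingCat.of B)).Opens)
    (hU : ∀ y, y ∈ U ↔ MoreMor.fibreIntegral f w y = d) : IsAffineOpen U := by
  classical
  haveI : IsAffineHom f := isAffineHom_of_isAffine f
  rcases eq_or_ne U ⊥ with rfl | hne
  · exact isAffineOpen_bot _
  obtain ⟨y₀, hy₀⟩ : (U : Set (Spec (CommRingCat.of B))).Nonempty := U.ne_bot_iff_nonempty.1 hne
  let η : Spec (CommRingCat.of B) := (⟨⊥, Ideal.isPrime_bot⟩ : PrimeSpectrum B)
  have hη : ∀ y : Spec (CommRingCat.of B), η ⤳ y := fun y =>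
    (PrimeSpectrum.le_iff_specializes (⟨⊥, Ideal.isPrime_bot⟩ : PrimeSpectrum B) y).1 bot_le
  have hηU : η ∈ U := (hη y₀).mem_open U.2 hy₀
  have hfin : ∀ y, (f ⁻¹' {y}).Finite := fun y => Scheme.Hom.finite_preimage_singleton f y
  obtain ⟨hYd, hfinite⟩ := MorLib.WT.finite_over_max hfin hw hpos d hmax
  obtain rfl : U = ⟨{y | MoreMor.fibreIntegral f w y = d}, hYd⟩ := Opens.ext (Set.ext hU)
  set U : (Spec (CommRingCat.of B)).Opens := ⟨{y | MoreMor.fibreIntegral f w y = d}, hYd⟩ with hUdef
  have hopen : IsOpenMap f := MorLib.WT.isOpenMap_of_positive hw hpos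
  -- work in `Spec C`
  let C := Γ(X, ⊤)
  let φ : CommRingCat.of B ⟶ C := (Scheme.ΓSpecIso (CommRingCat.of B)).inv ≫ f.appTop
  have hφ : Spec.map φ = X.isoSpec.inv ≫ f := by
    rw [Spec.map_comp, Iso.eq_inv_comp, Scheme.isoSpec_hom, ← Scheme.toSpecΓ_naturality_assoc, toSpecΓ_SpecMap_ΓSpecIso_inv,
      Category.comp_id]
  letI : Algebra B C := φ.hom.toAlgebra
  haveI : LocallyOfFiniteType (Spec.map φ) := by rw [hφ]; infer_instance
  haveI : LocallyQuasiFinite (Spec.map φ) := by rw [hφ]; infer_instance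
  haveI : Algebra.FiniteType B C :=
    RingHom.finiteType_algebraMap.1 (HasRingHomProperty.Spec_iff.1 (inferInstance : LocallyOfFiniteType (Spec.map φ)))
  haveI : Algebra.QuasiFinite B C :=
    RingHom.quasiFinite_algebraMap.1 (HasRingHomProperty.Spec_iff.1 (inferInstance : LocallyQuasiFinite (Spec.map φ)))
  -- the components
  let S := {ζ : X // f ζ = η}
  haveI : Finite S := (hfin η).to_subtype
  let P : S → PrimeSpectrum C := fun ζ => X.isoSpec.hom ζ.1
  let g : (ζ : S) → Spec (CommRingCat.of (C ⧸ (P ζ).asIdeal)) ⟶ X := fun ζ =>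
    Spec.map (CommRingCat.ofHom (Ideal.Quotient.mk (P ζ).asIdeal)) ≫ X.isoSpec.inv
  have hgf : ∀ ζ, g ζ ≫ f = Spec.map (CommRingCat.ofHom (algebraMap B (C ⧸ (P ζ).asIdeal))) := fun ζ => by
    rw [Category.assoc, ← hφ, ← Spec.map_comp]
    rfl
  haveI hg : ∀ ζ, IsOpenImmersion (g ζ ≫ f) := fun ζ => by
    rw [hgf]
    haveI : Algebra.QuasiFinite B (C ⧸ (P ζ).asIdeal) := inferInstance
    refine isOpenImmersion_of_quasiFinite ((injective_iff_map_eq_zero _).2 fun a ha => ?_)
    have h1 : φ.hom a ∈ (P ζ).asIdeal := Ideal.Quotient.eq_zero_iff_mem.1 ha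
    have h2 : (Spec.map φ) (P ζ) = η := by
      rw [hφ, Scheme.Hom.comp_apply]
      show f (X.isoSpec.inv (X.isoSpec.hom ζ.1)) = η
      rw [← Scheme.Hom.comp_apply X.isoSpec.hom, Iso.hom_inv_id]
      exact ζ.2
    have h3 : a ∈ (PrimeSpectrum.comap φ.hom (P ζ)).asIdeal := h1
    rw [show PrimeSpectrum.comap φ.hom (P ζ) = η from h2] at h3
    exact h3
  have hgcl : ∀ ζ, Set.range (g ζ) = closure {ζ.1} := fun ζ => by
    have h1 : Set.range (Spec.map (CommRingCat.ofHom (Ideal.Quotient.mk (P ζ).asIdeal))) = closure {P ζ} := by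
      rw [show Set.range (Spec.map (CommRingCat.ofHom (Ideal.Quotient.mk (P ζ).asIdeal))) =
        Set.range (PrimeSpectrum.comap (Ideal.Quotient.mk (P ζ).asIdeal)) from rfl,
        range_comap_of_surjective _ _ Ideal.Quotient.mk_surjective, Ideal.mk_ker,
        PrimeSpectrum.closure_singleton]
    rw [Scheme.Hom.comp_base, TopCat.coe_comp, Set.range_comp, h1]
    show (Scheme.homeoOfIso X.isoSpec.symm) '' closure {P ζ} = _
    rw [(Scheme.homeoOfIso X.isoSpec.symm).image_closure]
    congr 1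
    refine Set.image_singleton.trans (Set.singleton_eq_singleton_iff.2 ?_)
    show X.isoSpec.inv (X.isoSpec.hom ζ.1) = ζ.1
    rw [← Scheme.Hom.comp_apply, Iso.hom_inv_id]
    rfl
  let V : S → (Spec (CommRingCat.of B)).Opens := fun ζ => (g ζ ≫ f).opensRange
  have hV : ∀ ζ, IsAffineOpen (V ζ) := fun ζ => isAffineOpen_opensRange _
  haveI := Fintype.ofFinite S
  let W := Finset.univ.inf V
  have hWle : ∀ ζ, W ≤ V ζ := fun ζ => Finset.inf_le (Finset.mem_univ ζ)
  have hWa : IsAffineOpen W :=
    Finset.inf_induction (p := fun O : (Spec (CommRingCat.of B)).Opens => IsAffineOpen O) (isAffineOpen_top _)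
      (fun _ h₁ _ h₂ => h₁.inf h₂) fun ζ _ => hV ζ
  -- `U ≤ W`
  have h1 : U ≤ W := Finset.le_inf fun ζ _ y hy => by
    let ζ' : ↥(f ⁻¹ᵁ U : Scheme.{u}) := ⟨ζ.1, by show f ζ.1 ∈ U; rw [ζ.2]; exact hηU⟩
    have hs : (f ∣_ U) ζ' ⤳ (⟨y, hy⟩ : (U : Scheme.{u})) := by
      rw [← U.ι.isOpenEmbedding.isInducing.specializes_iff, ← Scheme.Hom.comp_apply, morphismRestrict_ι,
        Scheme.Hom.comp_apply]
      show f ζ.1 ⤳ y
      rw [ζ.2]
      exact hη y
    obtain ⟨z, hz, hfz⟩ := (f ∣_ U).isClosedMap.specializingMap hs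
    obtain ⟨a, ha⟩ : (f ⁻¹ᵁ U).ι z ∈ Set.range (g ζ) := by
      rw [hgcl, ← specializes_iff_mem_closure]
      exact hz.map (f ⁻¹ᵁ U).ι.continuous
    refine ⟨a, ?_⟩
    rw [Scheme.Hom.comp_apply, ha, ← Scheme.Hom.comp_apply, ← morphismRestrict_ι, Scheme.Hom.comp_apply, hfz]
    rfl
  -- `f` is finite over `W`
  haveI : IsFinite (f ∣_ W) := by
    let sq : (ζ : S) → ((g ζ ≫ f) ⁻¹ᵁ W : Scheme.{u}) ⟶ (f ⁻¹ᵁ W : Scheme.{u}) := fun ζ => g ζ ∣_ (f ⁻¹ᵁ W)
    haveI : ∀ ζ, IsIso (sq ζ ≫ (f ∣_ W)) := fun ζ => by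
      show IsIso ((g ζ ∣_ (f ⁻¹ᵁ W)) ≫ f ∣_ W)
      rw [← morphismRestrict_comp]
      have : (g ζ ≫ f) ''ᵁ ((g ζ ≫ f) ⁻¹ᵁ W) = W := by
        rw [Scheme.Hom.image_preimage_eq_opensRange_inf]
        exact inf_eq_right.2 (hWle ζ)
      haveI hOI : IsOpenImmersion ((g ζ ≫ f) ∣_ W) := IsZariskiLocalAtTarget.restrict (P := @IsOpenImmersion.{u}) inferInstance W
      haveI hSJ : Surjective ((g ζ ≫ f) ∣_ W) := ⟨fun y => by
        obtain ⟨a, ha⟩ := hWle ζ y.2
        refine ⟨⟨a, by show (g ζ ≫ f) a ∈ W; rw [ha]; exact y.2⟩, Subtype.ext ?_⟩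
        show (((g ζ ≫ f) ∣_ W) ≫ W.ι) _ = y.1
        rw [morphismRestrict_ι]
        exact ha⟩
      exact (isIso_iff_isOpenImmersion_and_surjective _).2 ⟨hOI, hSJ⟩
    let p := Sigma.desc sq
    haveI : Surjective p := ⟨fun z => by
      obtain ⟨x, hx⟩ := z
      obtain ⟨ζ, hζ⟩ : ∃ ζ : S, ζ.1 ⤳ x := by
        by_contra hc
        push Not at hc
        have hO : IsOpen (⋃ ζ : S, closure {ζ.1})ᶜ := (isClosed_iUnion_of_finite fun _ => isClosed_closure).isOpen_compl
        have hxO : x ∈ (⋃ ζ : S, closure {ζ.1})ᶜ := by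
          simp only [Set.mem_compl_iff, Set.mem_iUnion, not_exists]
          exact fun ζ h => hc ζ (specializes_iff_mem_closure.2 h)
        obtain ⟨z, hz, hfz⟩ := (hη (f x)).mem_open (hopen _ hO) ⟨x, hxO, rfl⟩
        exact hz (Set.mem_iUnion.2 ⟨⟨z, hfz⟩, subset_closure rfl⟩)
      obtain ⟨a, ha⟩ : x ∈ Set.range (g ζ) := by
        rw [hgcl, ← specializes_iff_mem_closure]; exact hζ
      refine ⟨Sigma.ι (fun ζ : S => ((g ζ ≫ f) ⁻¹ᵁ W : Scheme.{u})) ζ ⟨a, ?_⟩, Subtype.ext ?_⟩
      · have hx' : f x ∈ W := hx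
        show f (g ζ a) ∈ W
        rw [ha]; exact hx'
      · rw [← Scheme.Hom.comp_apply, Sigma.ι_desc]
        show ((g ζ ∣_ (f ⁻¹ᵁ W)) ≫ (f ⁻¹ᵁ W).ι) _ = x
        rw [morphismRestrict_ι]
        exact ha⟩
    haveI : IsFinite (p ≫ (f ∣_ W)) := by
      have : p ≫ (f ∣_ W) = Sigma.desc fun ζ => sq ζ ≫ (f ∣_ W) := Sigma.hom_ext _ _ fun ζ => by simp [p]
      rw [this]
      exact SGA1Q.isFinite_sigmaDesc _ fun _ => inferInstance
    haveI : UniversallyClosed (f ∣_ W) := UniversallyClosed.of_comp_surjective p _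
    haveI : IsSeparated (f ∣_ W) := IsZariskiLocalAtTarget.restrict (P := @IsSeparated.{u}) inferInstance W
    haveI : LocallyOfFiniteType (f ∣_ W) := IsZariskiLocalAtTarget.restrict (P := @LocallyOfFiniteType.{u}) inferInstance W
    haveI : LocallyQuasiFinite (f ∣_ W) := IsZariskiLocalAtTarget.restrict (P := @LocallyQuasiFinite.{u}) inferInstance W
    haveI : IsProper (f ∣_ W) := ⟨⟩
    exact IsFinite.of_isProper_of_locallyQuasiFinite _
  -- `W ≤ U`
  have h2 : W ≤ U := by
    intro y hy
    let π := pullback.snd f W.ι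
    haveI : IsFinite π := by
      rw [← MorphismProperty.cancel_left_of_respectsIso (@IsFinite.{u}) (pullbackRestrictIsoRestrict f W).inv]
      exact ‹IsFinite (f ∣_ W)›
    haveI : IsIso (⊤ : (pullback f W.ι).Opens).ι := (pullback f W.ι).topIso.isIso_hom
    have hlc : IsLocallyConstant (MorLib.WT.fiOn π ⊤ (w ∘ ⇑(pullback.fst f W.ι))) :=
      hw (W : Scheme.{u}) W.ι ⊤ inferInstance
    haveI : PreconnectedSpace ↥(W : Scheme.{u}) := Subtype.preconnectedSpace
      ((IrreducibleSpace.isIrreducible_univ _).2.open_subset W.2 (Set.subset_univ _) |>.isPreconnected)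
    have hval : ∀ z : ↥(W : Scheme.{u}), MorLib.WT.fiOn π ⊤ (w ∘ ⇑(pullback.fst f W.ι)) z = MoreMor.fibreIntegral f w z.1 :=
      fun z => by
        rw [MorLib.WT.fiOn_top]
        exact MorLib.GF.fibreIntegral_baseChange (IsPullback.of_hasPullback f W.ι) w z (hfin _)
    have := hlc.apply_eq_of_preconnectedSpace ⟨y, hy⟩ ⟨η, (hη y).mem_open W.2 hy⟩
    rw [hval, hval] at this
    exact this.trans hηU
  rwa [le_antisymm h1 h2]

end Groth.Agent.FlatB12
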