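import Groth.Agent.FlatB12.ClosedBetween
import Groth.Agent.FlatB12.WeightAIC
import Groth.Agent.Triage.FibMaxFlat

/-!
# Flat algebras of finite presentation over local absolutely integrally closed domains have sections
-/

set_option autoImplicit false
set_option linter.style.haveILetI false

universe u

open AlgebraicGeometry CategoryTheory TensorProduct IsLocalRing

namespace Groth.Agent.FlatB12

theorem fd_congr {R C : Type u} [CommRing R] [CommRing C] [Algebra R C] {q r : PrimeSpectrum C} (h : q = r) :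
    DimFormula.fd R q.asIdeal = DimFormula.fd R r.asIdeal := by
  subst h; rfl

theorem fd_comap_away {R D : Type u} [CommRing R] [CommRing D] [Algebra R D] [Algebra.FiniteType R D] (g : D)
    (Q : PrimeSpectrum (Localization.Away g)) :
    haveI : Algebra.FiniteType R (Localization.Away g) :=
      .trans (S := D) inferInstance (IsLocalization.finiteType_of_monoid_fg (.powers g) _)
    DimFormula.fd R (Q.asIdeal.comap (algebraMap D (Localization.Away g))) = DimFormula.fd R Q.asIdeal := by
  haveI : Algebra.FiniteType R (Localization.Away g) :=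
    .trans (S := D) inferInstance (IsLocalization.finiteType_of_monoid_fg (.powers g) _)
  let j := CommRingCat.ofHom (algebraMap D (Localization.Away g))
  let ρ := CommRingCat.ofHom (algebraMap R D)
  haveI : IsOpenImmersion (Spec.map j) := IsOpenImmersion.of_isLocalization g
  have hj : Spec.map j ≫ Spec.map ρ = Spec.map (CommRingCat.ofHom (algebraMap R (Localization.Away g))) := by
    rw [← Spec.map_comp]
    exact congrArg Spec.map (CommRingCat.hom_ext (IsScalarTower.algebraMap_eq R D (Localization.Away g)).symm)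
  have h1 := FibDim.rd_comp (Spec.map j) (Spec.map ρ) Q
  rw [FibDim.rd_eq_zero_of_quasiFinite (Spec.map j) Q, add_zero, hj] at h1
  exact ((rd_spec_eq_fd (A := R) Q).symm.trans (h1.trans
    (rd_spec_eq_fd (A := R) (PrimeSpectrum.comap (algebraMap D (Localization.Away g)) Q)))).symm

/-- Going down from a normal base along a chart whose special fibre has no larger dimension than the generic
one: a closed point of the special fibre lifts to a section. -/
theorem exists_algHom_of_chart {R D : Type u} [CommRing R] [IsDomain R] [IsLocalRing R] [IsIntegrallyClosed R]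
    [IsAlgClosed (FractionRing R)] [IsAlgClosed (ResidueField R)] [CommRing D] [IsDomain D] [Algebra R D]
    [Algebra.FiniteType R D] (hinj : Function.Injective (algebraMap R D)) (x : Ideal D) [x.IsMaximal]
    (hx : x.under R = maximalIdeal R)
    (hfd : ∀ r : PrimeSpectrum D, r.asIdeal.under R = maximalIdeal R →
      DimFormula.fd R r.asIdeal ≤ DimFormula.fd R (⊥ : Ideal D)) :
    Nonempty (D →ₐ[R] R) := by
  classical
  haveI : FaithfulSMul R D := (faithfulSMul_iff_algebraMap_injective _ _).2 hinj
  set n := DimFormula.fd R (⊥ : Ideal D) with hn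
  let y : PrimeSpectrum R := PrimeSpectrum.comap (algebraMap R D) ⟨x, inferInstance⟩
  have hdim : ringKrullDim (y.asIdeal.Fiber D) ≤ (n : WithBot ℕ∞) := by
    rw [← FlatMisc.ValuationDim.dim_fiber_eq, FibDim.topologicalKrullDim_fiber]
    refine iSup_le fun z => ?_
    let r : PrimeSpectrum D := z.1
    have hr : r.asIdeal.under R = maximalIdeal R := by
      rw [← hx]
      exact congrArg PrimeSpectrum.asIdeal z.2
    have h5 : FibDim.rd (Spec.map (CommRingCat.ofHom (algebraMap R D))) z.1 ≤ n := by
      rw [show FibDim.rd (Spec.map (CommRingCat.ofHom (algebraMap R D))) z.1 = DimFormula.fd R r.asIdeal from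
        rd_spec_eq_fd r]
      exact hfd r hr
    exact WithBot.coe_le_coe.2 (ENat.natCast_le_natCast.2 h5)
  obtain ⟨m, hm, b, g, -, -, hg, hqf⟩ := FibDim.exists_quasiFinite (A := R) (⟨x, inferInstance⟩ : PrimeSpectrum D) n hdim
  let P := MvPolynomial (Fin m) R
  letI : Algebra P D := (MvPolynomial.aeval (R := R) b).toRingHom.toAlgebra
  haveI : IsScalarTower R P D :=
    IsScalarTower.of_algebraMap_eq fun a => ((MvPolynomial.aeval (R := R) b).commutes a).symm
  let D' := Localization.Away g
  haveI : Algebra.QuasiFinite P D' := hqf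
  haveI : IsScalarTower R P D' := IsScalarTower.of_algebraMap_eq fun a => by
    rw [IsScalarTower.algebraMap_apply R D D', IsScalarTower.algebraMap_apply R P D,
      ← IsScalarTower.algebraMap_apply P D D']
  have hg0 : g ≠ 0 := fun e => hg (e ▸ x.zero_mem)
  haveI : IsDomain D' := IsLocalization.isDomain_localization (powers_le_nonZeroDivisors_of_noZeroDivisors hg0)
  haveI : Algebra.FiniteType R D' :=
    .trans (S := D) inferInstance (IsLocalization.finiteType_of_monoid_fg (.powers g) _)
  haveI : Algebra.FiniteType P D' := Algebra.FiniteType.of_restrictScalars_finiteType R _ D'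
  have hDinj : Function.Injective (algebraMap D D') :=
    IsLocalization.injective D' (powers_le_nonZeroDivisors_of_noZeroDivisors hg0)
  have hRinj : Function.Injective (algebraMap R D') := by
    rw [IsScalarTower.algebraMap_eq R D D']
    exact hDinj.comp hinj
  haveI : FaithfulSMul R D' := (faithfulSMul_iff_algebraMap_injective _ _).2 hRinj
  haveI : FaithfulSMul D D' := (faithfulSMul_iff_algebraMap_injective _ _).2 hDinj
  haveI : IsIntegrallyClosed P := by
    haveI := UnivOpen.isIntegrallyClosed_mvPolynomial R (ULift.{u} (Fin m))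
    exact IsIntegrallyClosed.of_equiv (MvPolynomial.renameEquiv R Equiv.ulift).toRingEquiv
  have hfdD' : DimFormula.fd R (⊥ : Ideal D') = n := by
    rw [hn, ← fd_comap_away (R := R) g ⟨⊥, Ideal.isPrime_bot⟩]
    congr 1
    rw [← RingHom.ker_eq_comap_bot, (RingHom.injective_iff_ker_eq_bot _).1 hDinj]
  let φ' := CommRingCat.ofHom (algebraMap P D')
  let π := CommRingCat.ofHom (algebraMap R P)
  haveI : LocallyOfFiniteType (Spec.map φ') := lft_spec
  haveI : LocallyOfFiniteType (Spec.map π) := lft_spec
  haveI : LocallyQuasiFinite (Spec.map φ') :=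
    HasRingHomProperty.Spec_iff.2 (RingHom.quasiFinite_algebraMap.2 inferInstance)
  have hPD : Function.Injective (algebraMap P D') := by
    rw [RingHom.injective_iff_ker_eq_bot]
    by_contra hk
    let k : PrimeSpectrum P := PrimeSpectrum.comap (algebraMap P D') ⟨⊥, Ideal.isPrime_bot⟩
    let o : PrimeSpectrum P := ⟨⊥, Ideal.isPrime_bot⟩
    have hk' : o ≠ k := fun he => hk (by
      rw [RingHom.ker_eq_comap_bot]
      exact (congrArg PrimeSpectrum.asIdeal he).symm)
    have hRP : Function.Injective (algebraMap R P) := MvPolynomial.C_injective _ _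
    haveI : FaithfulSMul R P := (faithfulSMul_iff_algebraMap_injective _ _).2 hRP
    have hlt' := fd_lt_of_lt (A := R) (q := o) (r := k) bot_le hk' (by
      show (⊥ : Ideal P).under R = ((⊥ : Ideal D').comap (algebraMap P D')).comap (algebraMap R P)
      rw [Ideal.comap_comap, ← IsScalarTower.algebraMap_eq, ← RingHom.ker_eq_comap_bot,
        (RingHom.injective_iff_ker_eq_bot _).1 hRinj]
      exact (RingHom.ker_eq_comap_bot _).symm.trans ((RingHom.injective_iff_ker_eq_bot _).1 hRP))
    have e3 : DimFormula.fd R o.asIdeal = m := by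
      have h2 : (DimFormula.fd R (⊥ : Ideal P) : Cardinal.{u}) = (m : Cardinal.{u}) := by
        rw [DimFormula.fd_bot_eq_trdeg, MvPolynomial.trdeg_of_isDomain]
        simp
      exact_mod_cast h2
    have e4 : n = DimFormula.fd R k.asIdeal := by
      have h1 := FibDim.rd_comp (Spec.map φ') (Spec.map π) (⟨⊥, Ideal.isPrime_bot⟩ : PrimeSpectrum D')
      rw [FibDim.rd_eq_zero_of_quasiFinite (Spec.map φ') (⟨⊥, Ideal.isPrime_bot⟩ : PrimeSpectrum D'), add_zero] at h1
      have hcomp : Spec.map φ' ≫ Spec.map π = Spec.map (CommRingCat.ofHom (algebraMap R D')) := by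
        rw [← Spec.map_comp]
        exact congrArg Spec.map (CommRingCat.hom_ext (IsScalarTower.algebraMap_eq R P D').symm)
      rw [hcomp] at h1
      exact hfdD'.symm.trans ((rd_spec_eq_fd (A := R) (⟨⊥, Ideal.isPrime_bot⟩ : PrimeSpectrum D')).symm.trans
        (h1.trans (rd_spec_eq_fd (A := R) k)))
    omega
  -- the rational point below `x`
  haveI : x.LiesOver (maximalIdeal R) := ⟨hx.symm⟩
  letI : Field (D ⧸ x) := Ideal.Quotient.field x
  letI : Algebra (ResidueField R) (D ⧸ x) :=
    (Ideal.Quotient.algebraOfLiesOver x (maximalIdeal R) : Algebra (R ⧸ maximalIdeal R) (D ⧸ x))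
  haveI : IsScalarTower R (ResidueField R) (D ⧸ x) := IsScalarTower.of_algebraMap_eq fun r => rfl
  haveI : Algebra.FiniteType R (D ⧸ x) := inferInstance
  haveI : Algebra.FiniteType (ResidueField R) (D ⧸ x) := Algebra.FiniteType.of_restrictScalars_finiteType R _ _
  haveI : Module.Finite (ResidueField R) (D ⧸ x) := finite_of_finite_type_of_isJacobsonRing _ _
  have hrat : ∀ i, ∃ a : R, b i - algebraMap R D a ∈ x := fun i => by
    obtain ⟨c, hc⟩ := (IsAlgClosed.algebraMap_bijective_of_isIntegral (k := ResidueField R) (K := D ⧸ x)).2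
      (Ideal.Quotient.mk x (b i))
    obtain ⟨a, rfl⟩ := IsLocalRing.residue_surjective c
    exact ⟨a, Ideal.Quotient.eq.1 hc.symm⟩
  choose a ha using hrat
  let p₀ : Ideal P := RingHom.ker (MvPolynomial.eval a)
  haveI : p₀.IsPrime := RingHom.ker_isPrime _
  have hred : (Ideal.Quotient.mk x).comp (algebraMap P D) =
      ((Ideal.Quotient.mk x).comp (algebraMap R D)).comp (MvPolynomial.eval a) := by
    refine MvPolynomial.ringHom_ext (fun r => ?_) fun i => ?_
    · simp only [RingHom.comp_apply, MvPolynomial.eval_C]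
      rw [← MvPolynomial.algebraMap_eq, ← IsScalarTower.algebraMap_apply]
    · simp only [RingHom.comp_apply, MvPolynomial.eval_X]
      rw [show algebraMap P D (MvPolynomial.X i) = b i from MvPolynomial.aeval_X b i]
      exact Ideal.Quotient.eq.2 (ha i)
  have hdisj : Disjoint (Submonoid.powers g : Set D) (x : Set D) := by
    rw [Ideal.disjoint_powers_iff_notMem_of_isPrime]; exact hg
  haveI : (x.map (algebraMap D D')).IsPrime := IsLocalization.isPrime_of_isPrime_disjoint _ _ x inferInstance hdisj
  obtain ⟨R', hR'p, hR'x, hR'P⟩ := exists_le_over_of_quasiFinite hPD (x.map (algebraMap D D')) p₀ (fun f hf => by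
    rw [Ideal.mem_comap, IsScalarTower.algebraMap_apply P D D']
    refine Ideal.mem_map_of_mem _ (Ideal.Quotient.eq_zero_iff_mem.1 ?_)
    have h1 := RingHom.congr_fun hred f
    rw [RingHom.comp_apply] at h1
    rw [h1, RingHom.comp_apply, RingHom.mem_ker.1 hf, map_zero])
  haveI := hR'p
  -- the quotient is quasi-finite over `R`
  let E := D' ⧸ R'
  haveI : R'.LiesOver p₀ := ⟨hR'P.symm⟩
  haveI : Module.Finite R (P ⧸ p₀) := Module.Finite.of_surjective (Algebra.linearMap R (P ⧸ p₀)) fun z => by
    obtain ⟨f, rfl⟩ := Ideal.Quotient.mk_surjective z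
    refine ⟨MvPolynomial.eval a f, Ideal.Quotient.eq.2 ?_⟩
    rw [RingHom.mem_ker, map_sub, MvPolynomial.algebraMap_eq, MvPolynomial.eval_C, sub_self]
  haveI : Algebra.QuasiFinite P E := Algebra.QuasiFinite.trans P D' E
  haveI : Algebra.QuasiFinite (P ⧸ p₀) E := Algebra.QuasiFinite.of_restrictScalars P (P ⧸ p₀) E
  haveI : IsScalarTower R P E := inferInstance
  haveI : IsScalarTower R (P ⧸ p₀) E := ⟨fun r z e => by
    obtain ⟨f, rfl⟩ := Ideal.Quotient.mk_surjective z
    show (r • f) • e = r • (f • e)
    exact smul_assoc r f e⟩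
  haveI : Algebra.QuasiFinite R E := Algebra.QuasiFinite.trans R (P ⧸ p₀) E
  have hRE : Function.Injective (algebraMap R E) := (injective_iff_map_eq_zero _).2 fun r hr => by
    have h1 : algebraMap R P r ∈ R'.under P := by
      show algebraMap P D' (algebraMap R P r) ∈ R'
      rw [← IsScalarTower.algebraMap_apply]
      exact Ideal.Quotient.eq_zero_iff_mem.1 hr
    rw [hR'P, RingHom.mem_ker, MvPolynomial.algebraMap_eq, MvPolynomial.eval_C] at h1
    exact h1
  haveI : IsOpenImmersion (Spec.map (CommRingCat.ofHom (algebraMap R E))) := isOpenImmersion_of_quasiFinite hRE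
  let f := Spec.map (CommRingCat.ofHom (algebraMap R E))
  -- its image contains the closed point
  have hclosed : (⟨maximalIdeal R, inferInstance⟩ : PrimeSpectrum R) ∈ Set.range f := by
    let X' : PrimeSpectrum E := ⟨(x.map (algebraMap D D')).map (Ideal.Quotient.mk R'),
      Ideal.map_isPrime_of_surjective Ideal.Quotient.mk_surjective (by rw [Ideal.mk_ker]; exact hR'x)⟩
    refine ⟨X', PrimeSpectrum.ext ?_⟩
    show ((x.map (algebraMap D D')).map (Ideal.Quotient.mk R')).comap (algebraMap R E) = maximalIdeal R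
    rw [show algebraMap R E = (Ideal.Quotient.mk R').comp (algebraMap R D') from rfl, ← Ideal.comap_comap,
      Ideal.comap_map_of_surjective _ Ideal.Quotient.mk_surjective,
      sup_eq_left.2 (by rw [← RingHom.ker_eq_comap_bot, Ideal.mk_ker]; exact hR'x),
      IsScalarTower.algebraMap_eq R D D', ← Ideal.comap_comap,
      show (x.map (algebraMap D D')).comap (algebraMap D D') = x from
        IsLocalization.under_map_of_isPrime_disjoint _ D' inferInstance hdisj]
    exact hx
  haveI : Surjective f := ⟨fun z => by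
    have hs : z ⤳ (⟨maximalIdeal R, inferInstance⟩ : PrimeSpectrum R) :=
      (PrimeSpectrum.le_iff_specializes (z : PrimeSpectrum R) _).1 (IsLocalRing.le_maximalIdeal z.2.ne_top)
    exact hs.mem_open f.isOpenEmbedding.isOpen_range hclosed⟩
  haveI : IsIso f := (isIso_iff_isOpenImmersion_and_surjective f).2 ⟨inferInstance, inferInstance⟩
  haveI : IsIso (Spec.map (CommRingCat.ofHom (algebraMap R E))).appTop := by
    refine ⟨(inv f).appTop, ?_, ?_⟩
    · rw [← Scheme.Hom.comp_appTop, IsIso.inv_hom_id, Scheme.Hom.id_appTop]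
    · rw [← Scheme.Hom.comp_appTop, IsIso.hom_inv_id, Scheme.Hom.id_appTop]
  haveI : IsIso (CommRingCat.ofHom (algebraMap R E)) := by
    rw [← Iso.inv_hom_id_assoc (Scheme.ΓSpecIso (CommRingCat.of R)) (CommRingCat.ofHom (algebraMap R E)),
      ← Scheme.ΓSpecIso_naturality]
    infer_instance
  let e : R ≃ₐ[R] E := AlgEquiv.ofBijective (Algebra.ofId R E) (ConcreteCategory.bijective_of_isIso (CommRingCat.ofHom (algebraMap R E)))
  exact ⟨e.symm.toAlgHom.comp ((Ideal.Quotient.mkₐ R R').comp (IsScalarTower.toAlgHom R D D'))⟩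

/-- A faithfully flat algebra of finite presentation over a local absolutely integrally closed domain has a section. -/
theorem exists_algHom_of_flat {R C : Type u} [CommRing R] [IsDomain R] [IsLocalRing R] [IsIntegrallyClosed R]
    [IsAlgClosed (FractionRing R)] [IsAlgClosed (ResidueField R)] [CommRing C] [Algebra R C]
    [Algebra.FinitePresentation R C] [Module.Flat R C] (Q : PrimeSpectrum C)
    (hQ : Q.asIdeal.under R = maximalIdeal R) : Nonempty (C →ₐ[R] R) := by
  classical
  let I := (maximalIdeal R).map (algebraMap R C)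
  obtain ⟨q, hq, hqQ⟩ := Ideal.exists_minimalPrimes_le
    (show I ≤ Q.asIdeal from Ideal.map_le_iff_le_comap.2 hQ.ge)
  haveI := hq.1.1
  have hqR : q.under R = maximalIdeal R :=
    le_antisymm ((Ideal.comap_mono hqQ).trans hQ.le) (Ideal.map_le_iff_le_comap.1 hq.1.2)
  -- a minimal prime below it
  obtain ⟨P, hP, hPq⟩ := Ideal.exists_minimalPrimes_le (bot_le (a := q))
  haveI := hP.1.1
  have hPR : P.under R = ⊥ := by
    obtain ⟨P', hP'q, hP'p, hP'R⟩ := Ideal.exists_ideal_le_liesOver_of_le (p := (⊥ : Ideal R)) (q := P.under R) P bot_le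
    rw [← le_antisymm hP'q (hP.2 ⟨hP'p, bot_le⟩ hP'q)]
    exact hP'R.over.symm
  -- its degree bounds that of the component `q`
  have hfd : DimFormula.fd R q ≤ DimFormula.fd R P := by
    obtain ⟨t, ht⟩ := (DimFormula.le_fd_iff R q _).1 le_rfl
    exact (DimFormula.le_fd_iff R P _).2 ⟨t, Triage.FibMaxFlat.indepMod_of_le (P := ⟨q, hq.1.1⟩)
      (W := ⟨P, hP.1.1⟩) hPq ht fun W' h _ => PrimeSpectrum.ext (le_antisymm h (hP.2 ⟨W'.2, bot_le⟩ h))⟩
  -- away from the other components
  letI : Field (R ⧸ maximalIdeal R) := Ideal.Quotient.field _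
  haveI : Algebra.FiniteType (R ⧸ maximalIdeal R) (C ⧸ I) :=
    Algebra.FiniteType.of_restrictScalars_finiteType R _ _
  haveI : IsNoetherianRing (C ⧸ I) := Algebra.FiniteType.isNoetherianRing (R ⧸ maximalIdeal R) _
  haveI : IsJacobsonRing (C ⧸ I) := isJacobsonRing_of_finiteType (A := R ⧸ maximalIdeal R)
  have hfin : I.minimalPrimes.Finite := by
    rw [Ideal.minimalPrimes_eq_comap]
    exact (minimalPrimes.finite_of_isNoetherianRing _).image _
  have hne : ∀ q' : {q' // q' ∈ hfin.toFinset.erase q}, ∃ z ∈ q'.1, z ∉ q := fun q' => by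
    refine SetLike.not_le_iff_exists.1 fun hle => ?_
    obtain ⟨h1, h2⟩ := Finset.mem_erase.1 q'.2
    exact h1 (le_antisymm hle (hq.2 (hfin.mem_toFinset.1 h2).1 hle))
  choose z hz hzq using hne
  let s := ∏ q', z q'
  have hsq : s ∉ q := fun hs => by
    obtain ⟨q', -, h⟩ := (Ideal.IsPrime.prod_mem_iff (p := q)).1 hs
    exact hzq q' h
  let D := C ⧸ P
  let mk := Ideal.Quotient.mk P
  let D' := Localization.Away (mk s)
  have hsP : mk s ≠ 0 := fun e => hsq (hPq (Ideal.Quotient.eq_zero_iff_mem.1 e))
  haveI : IsDomain D' := IsLocalization.isDomain_localization (powers_le_nonZeroDivisors_of_noZeroDivisors hsP)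
  haveI : Algebra.FiniteType R D' :=
    .trans (S := D) inferInstance (IsLocalization.finiteType_of_monoid_fg (.powers (mk s)) _)
  have hD'inj : Function.Injective (algebraMap D D') :=
    IsLocalization.injective D' (powers_le_nonZeroDivisors_of_noZeroDivisors hsP)
  have hinj : Function.Injective (algebraMap R D') := (injective_iff_map_eq_zero _).2 fun r hr => by
    rw [IsScalarTower.algebraMap_apply R D D'] at hr
    have h1 : algebraMap R C r ∈ P := Ideal.Quotient.eq_zero_iff_mem.1 (hD'inj (hr.trans (map_zero _).symm))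
    exact (Ideal.mem_bot).1 (hPR.le h1)
  let mkₐ := Ideal.Quotient.mkₐ R P
  have hfd' : ∀ r : PrimeSpectrum D', DimFormula.fd R r.asIdeal =
      DimFormula.fd R ((r.asIdeal.comap (algebraMap D D')).comap mk) := fun r =>
    (fd_comap_away (R := R) (mk s) r).symm.trans
      (DimFormula.fd_comap_of_surjective R mkₐ Ideal.Quotient.mk_surjective _).symm
  have hbound : ∀ r : PrimeSpectrum D', r.asIdeal.under R = maximalIdeal R →
      DimFormula.fd R r.asIdeal ≤ DimFormula.fd R (⊥ : Ideal D') := fun r hr => by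
    rw [hfd' r, hfd' ⟨⊥, Ideal.isPrime_bot⟩]
    have e : ((⊥ : Ideal D').comap (algebraMap D D')).comap mk = P := by
      rw [← RingHom.ker_eq_comap_bot, (RingHom.injective_iff_ker_eq_bot _).1 hD'inj, ← RingHom.ker_eq_comap_bot,
        Ideal.mk_ker]
    simp only [e]
    let r₀ : PrimeSpectrum C := ⟨(r.asIdeal.comap (algebraMap D D')).comap mk, inferInstance⟩
    have hr₀ : r₀.asIdeal.under R = maximalIdeal R := by
      rw [← hr]
      show ((r.asIdeal.comap _).comap mk).comap (algebraMap R C) = r.asIdeal.comap (algebraMap R D')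
      rw [Ideal.comap_comap, Ideal.comap_comap]
      rfl
    have hsr : s ∉ r₀.asIdeal := fun hs => r.2.ne_top
      (Ideal.eq_top_of_isUnit_mem _ hs (IsLocalization.Away.algebraMap_isUnit (mk s)))
    obtain ⟨q', hq', hq'r⟩ := Ideal.exists_minimalPrimes_le
      (show I ≤ r₀.asIdeal from Ideal.map_le_iff_le_comap.2 hr₀.ge)
    obtain rfl : q' = q := by
      by_contra hne'
      exact hsr (hq'r (Ideal.prod_mem (I := q')
        (Finset.mem_univ (⟨q', Finset.mem_erase.2 ⟨hne', hfin.mem_toFinset.2 hq'⟩⟩ : {q'' // q'' ∈ hfin.toFinset.erase q}))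
        (hz ⟨q', _⟩)))
    refine le_trans ?_ hfd
    show DimFormula.fd R r₀.asIdeal ≤ DimFormula.fd R (⟨q', hq.1.1⟩ : PrimeSpectrum C).asIdeal
    by_cases he : (⟨q', hq.1.1⟩ : PrimeSpectrum C) = r₀
    · exact le_of_eq (fd_congr he.symm)
    · exact (fd_lt_of_lt (A := R) (q := ⟨q', hq.1.1⟩) (r := r₀) hq'r he (hqR.trans hr₀.symm)).le
  -- a closed point
  let q₁ := q.map (Ideal.Quotient.mk I)
  have hq₁ : q₁.comap (Ideal.Quotient.mk I) = q := by
    rw [Ideal.comap_map_of_surjective _ Ideal.Quotient.mk_surjective, sup_eq_left, ← RingHom.ker_eq_comap_bot,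
      Ideal.mk_ker]
    exact hq.1.2
  haveI : q₁.IsPrime := Ideal.map_isPrime_of_surjective Ideal.Quotient.mk_surjective (by rw [Ideal.mk_ker]; exact hq.1.2)
  obtain ⟨M, ⟨hMq, hMmax⟩, hsM⟩ : ∃ M ∈ {J : Ideal (C ⧸ I) | q₁ ≤ J ∧ J.IsMaximal}, Ideal.Quotient.mk I s ∉ M := by
    by_contra hall
    push Not at hall
    refine hsq (hq₁ ▸ ?_)
    show Ideal.Quotient.mk I s ∈ q₁
    rw [← (IsJacobsonRing.out inferInstance (Ideal.IsPrime.isRadical ‹q₁.IsPrime›) : q₁.jacobson = q₁)]
    exact Submodule.mem_sInf.2 fun J hJ => hall J hJ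
  haveI := hMmax
  let x₀ := M.comap (Ideal.Quotient.mk I)
  haveI : x₀.IsMaximal := Ideal.comap_isMaximal_of_surjective _ Ideal.Quotient.mk_surjective
  have hqx : q ≤ x₀ := hq₁ ▸ Ideal.comap_mono hMq
  have hx₀R : x₀.under R = maximalIdeal R := by
    refine ((IsLocalRing.maximalIdeal.isMaximal R).eq_of_le (Ideal.IsPrime.comap _).ne_top ?_).symm
    exact hqR.symm.trans_le (Ideal.comap_mono hqx)
  let x₁ := x₀.map mk
  haveI hx₁ : x₁.IsMaximal := (Ideal.map_eq_top_or_isMaximal_of_surjective _ Ideal.Quotient.mk_surjective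
    ‹x₀.IsMaximal›).resolve_left fun htop => by
      have := congrArg (Ideal.comap mk) htop
      rw [Ideal.comap_map_of_surjective _ Ideal.Quotient.mk_surjective, ← RingHom.ker_eq_comap_bot, Ideal.mk_ker,
        sup_eq_left.2 (hPq.trans hqx), Ideal.comap_top] at this
      exact ‹x₀.IsMaximal›.ne_top this
  have hx₁c : x₁.comap mk = x₀ := by
    rw [Ideal.comap_map_of_surjective _ Ideal.Quotient.mk_surjective, ← RingHom.ker_eq_comap_bot, Ideal.mk_ker,
      sup_eq_left.2 (hPq.trans hqx)]
  have hdisj : Disjoint (Submonoid.powers (mk s) : Set D) (x₁ : Set D) := by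
    rw [Ideal.disjoint_powers_iff_notMem_of_isPrime]
    exact fun h => hsM ((hx₁c.le h : s ∈ x₀))
  let x₂ := x₁.map (algebraMap D D')
  haveI hx₂p : x₂.IsPrime := IsLocalization.isPrime_of_isPrime_disjoint _ _ x₁ inferInstance hdisj
  have hx₂c : x₂.comap (algebraMap D D') = x₁ := IsLocalization.under_map_of_isPrime_disjoint _ D' inferInstance hdisj
  haveI : x₂.IsMaximal := by
    refine Ideal.isMaximal_def.2 ⟨Ideal.IsPrime.ne_top', fun J hJ => ?_⟩
    by_contra hJt
    obtain ⟨J', hJ', hJJ'⟩ := Ideal.exists_le_maximal J hJt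
    have h1 : x₁ = J'.comap (algebraMap D D') :=
      hx₁.eq_of_le (Ideal.IsPrime.comap _).ne_top (hx₂c ▸ Ideal.comap_mono (hJ.le.trans hJJ'))
    exact (hJ.trans_le hJJ').ne (by
      show x₁.map (algebraMap D D') = J'
      rw [h1, IsLocalization.map_comap (Submonoid.powers (mk s)) D'])
  obtain ⟨σ⟩ := exists_algHom_of_chart (R := R) (D := D') hinj x₂ (by
    show x₂.comap (algebraMap R D') = _
    rw [IsScalarTower.algebraMap_eq R D D', ← Ideal.comap_comap, hx₂c, show algebraMap R D = mk.comp (algebraMap R C) from rfl,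
      ← Ideal.comap_comap, hx₁c]
    exact hx₀R) hbound
  exact ⟨σ.comp ((IsScalarTower.toAlgHom R D D').comp mkₐ)⟩

end Groth.Agent.FlatB12
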