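import Groth.Agent.FlatB12.AicSection
import Groth.Agent.FlatB12.AicRing
import Mathlib.AlgebraicGeometry.Pullbacks
import Mathlib.AlgebraicGeometry.PullbackCarrier
import Mathlib.RingTheory.FinitePresentation

/-!
# Spreading out sections over absolutely integrally closed rings
-/

set_option autoImplicit false
set_option linter.style.haveILetI false

universe u

open AlgebraicGeometry CategoryTheory TensorProduct IsLocalRing

namespace Groth.Agent.FlatB12

/-- Two primes over the same prime come from a prime of the tensor product. -/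
theorem exists_prime_tensor {A R C : Type u} [CommRing A] [CommRing R] [CommRing C] [Algebra A R] [Algebra A C]
    (p : PrimeSpectrum R) (q : PrimeSpectrum C) (h : p.asIdeal.under A = q.asIdeal.under A) :
    ∃ z : PrimeSpectrum (R ⊗[A] C), z.asIdeal.comap (algebraMap R (R ⊗[A] C)) = p.asIdeal := by
  obtain ⟨z, hz, -⟩ := Scheme.Pullback.exists_preimage_pullback
    (f := Spec.map (CommRingCat.ofHom (algebraMap A R))) (g := Spec.map (CommRingCat.ofHom (algebraMap A C)))
    p q (PrimeSpectrum.ext h)
  refine ⟨(pullbackSpecIso A R C).hom z, ?_⟩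
  rw [← pullbackSpecIso_hom_fst A R C] at hz
  exact congrArg PrimeSpectrum.asIdeal hz

/-- A map from an algebra of finite presentation to a local ring extends to a neighbourhood. -/
theorem exists_algHom_away {A B C : Type u} [CommRing A] [CommRing B] [CommRing C] [Algebra A B] [Algebra A C]
    [Algebra.FinitePresentation A C] (Q : Ideal B) [Q.IsPrime] (φ : C →ₐ[A] Localization.AtPrime Q) :
    ∃ r : B, r ∉ Q ∧ Nonempty (C →ₐ[A] Localization.Away r) := by
  classical
  obtain ⟨n, f, hf, hker⟩ := Algebra.FinitePresentation.out (R := A) (A := C)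
  obtain ⟨⟨s, hs⟩, hv⟩ := IsLocalization.exist_integer_multiples_of_finite Q.primeCompl
    (fun i : Fin n => φ (f (MvPolynomial.X i)))
  choose b hb using fun i => hv i
  let Bs := Localization.Away s
  let v : Fin n → Bs := fun i => IsLocalization.mk' Bs (b i) (⟨s, Submonoid.mem_powers s⟩ : Submonoid.powers s)
  have hsu : IsUnit (algebraMap B (Localization.AtPrime Q) s) :=
    IsLocalization.map_units (M := Q.primeCompl) (Localization.AtPrime Q) ⟨s, hs⟩
  let L₀ : Bs →+* Localization.AtPrime Q := IsLocalization.Away.lift s hsu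
  let L : Bs →ₐ[A] Localization.AtPrime Q :=
    { L₀ with
      commutes' := fun a => by
        show L₀ (algebraMap A Bs a) = _
        rw [IsScalarTower.algebraMap_apply A B Bs, IsLocalization.Away.lift_eq, ← IsScalarTower.algebraMap_apply] }
  have hLv : L.comp (MvPolynomial.aeval v) = φ.comp f := MvPolynomial.algHom_ext fun i => by
    rw [AlgHom.comp_apply, AlgHom.comp_apply, MvPolynomial.aeval_X]
    show L₀ (v i) = _
    refine hsu.mul_left_cancel ?_
    have h1 : L₀ (algebraMap B Bs s * v i) = algebraMap B _ (b i) := by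
      rw [show algebraMap B Bs s * v i = algebraMap B Bs (b i) from
        IsLocalization.mk'_spec' Bs (b i) (⟨s, Submonoid.mem_powers s⟩ : Submonoid.powers s)]
      exact IsLocalization.Away.lift_eq s hsu (b i)
    rw [map_mul, IsLocalization.Away.lift_eq] at h1
    exact h1.trans ((hb i).trans (Algebra.smul_def _ _))
  obtain ⟨G, hG⟩ := hker
  have hc : ∀ g : {g // g ∈ G}, ∃ c, c ∉ Q ∧ ∃ m e, MvPolynomial.aeval v g.1 = IsLocalization.mk' Bs m
      (e : Submonoid.powers s) ∧ c * m = 0 := fun g => by
    obtain ⟨⟨m, e⟩, he⟩ := IsLocalization.mk'_surjective (Submonoid.powers s) (MvPolynomial.aeval v g.1)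
    have h0 : L (MvPolynomial.aeval v g.1) = 0 := by
      rw [← AlgHom.comp_apply, hLv, AlgHom.comp_apply]
      have : f g.1 = 0 := RingHom.mem_ker.1 (hG ▸ Ideal.subset_span g.2)
      rw [this, map_zero]
    have h1 : algebraMap B (Localization.AtPrime Q) m = 0 := by
      have h2 : algebraMap B Bs m = algebraMap B Bs e * MvPolynomial.aeval v g.1 := by
        rw [← he, IsLocalization.mk'_spec']
      have h3 := congrArg L h2
      rw [map_mul L, h0, mul_zero] at h3
      exact (IsLocalization.Away.lift_eq s hsu m).symm.trans h3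
    obtain ⟨⟨c, hcQ⟩, hc0⟩ := (IsLocalization.map_eq_zero_iff Q.primeCompl _ _).1 h1
    exact ⟨c, hcQ, m, e, he.symm, hc0⟩
  choose c hcQ m e hm hc0 using hc
  let r := s * ∏ g, c g
  have hr : r ∉ Q := fun h => (Ideal.IsPrime.mem_or_mem ‹Q.IsPrime› h).elim hs fun h' => by
    obtain ⟨g, -, hg⟩ := (Ideal.IsPrime.prod_mem_iff (p := Q)).1 h'
    exact hcQ g hg
  let Br := Localization.Away r
  have hru : IsUnit (algebraMap B Br r) := IsLocalization.Away.algebraMap_isUnit r
  rw [map_mul, IsUnit.mul_iff, map_prod, IsUnit.prod_univ_iff] at hru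
  let M₀ : Bs →+* Br := IsLocalization.Away.lift s hru.1
  let M : Bs →ₐ[A] Br :=
    { M₀ with
      commutes' := fun a => by
        show M₀ (algebraMap A Bs a) = _
        rw [IsScalarTower.algebraMap_apply A B Bs, IsLocalization.Away.lift_eq, ← IsScalarTower.algebraMap_apply] }
  let ψ := M.comp (MvPolynomial.aeval v)
  have hψ : ∀ g ∈ RingHom.ker f, ψ g = 0 := by
    show RingHom.ker f.toRingHom ≤ RingHom.ker ψ
    rw [← hG, Ideal.span_le]
    intro g hg
    show M₀ (MvPolynomial.aeval v g) = 0
    rw [hm ⟨g, hg⟩, IsLocalization.mk'_eq_mul_mk'_one, map_mul, IsLocalization.Away.lift_eq]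
    have h4 : algebraMap B Br (m ⟨g, hg⟩) = 0 := by
      refine (hru.2 ⟨g, hg⟩).mul_right_eq_zero.1 ?_
      rw [← map_mul, hc0, map_zero]
    rw [h4, zero_mul]
  exact ⟨r, hr, ⟨(Ideal.Quotient.liftₐ _ ψ hψ).comp (Ideal.quotientKerAlgEquivOfSurjective hf).symm.toAlgHom⟩⟩

/-- Near every prime of an absolutely integrally closed algebra, a flat algebra of finite presentation with a
prime over the same point has a section. -/
theorem exists_section_away {A B C : Type u} [CommRing A] [CommRing B] [CommRing C] [Algebra A B] [Algebra A C]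
    [Algebra.FinitePresentation A C] [Module.Flat A C] (Q : Ideal B) [Q.IsPrime] [IsDomain (Localization.AtPrime Q)]
    (hB : MonicRoots B) (P : PrimeSpectrum C) (hPQ : Q.under A = P.asIdeal.under A) :
    ∃ r : B, r ∉ Q ∧ Nonempty (C →ₐ[A] Localization.Away r) := by
  let R := Localization.AtPrime Q
  have hR : MonicRoots R := hB.localization Q.primeCompl
  haveI := hR.isIntegrallyClosed
  haveI := hR.isAlgClosed_fractionRing
  haveI := hR.isAlgClosed_residueField
  obtain ⟨z, hz⟩ := exists_prime_tensor (A := A) (R := R) (⟨maximalIdeal R, inferInstance⟩ : PrimeSpectrum R) P (by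
    show (maximalIdeal R).under A = _
    rw [← hPQ, ← Ideal.under_under (B := B), Localization.AtPrime.under_maximalIdeal])
  obtain ⟨σ⟩ := exists_algHom_of_flat (R := R) (C := R ⊗[A] C) z hz
  exact exists_algHom_away Q ((σ.restrictScalars A).comp Algebra.TensorProduct.includeRight)

end Groth.Agent.FlatB12
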