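import Groth.Agent.SpecLib.Basic
import Mathlib.AlgebraicGeometry.Morphisms.FinitePresentation
import Mathlib.AlgebraicGeometry.Morphisms.Immersion
import Mathlib.AlgebraicGeometry.ResidueField
import Mathlib.AlgebraicGeometry.Stalk

/-!
# Sections of completely decomposed morphisms along a stratification
-/

set_option autoImplicit false
set_option linter.style.haveILetI false

universe u

open AlgebraicGeometry CategoryTheory Limits

namespace Groth.Agent.FlatB12

/-- A map to the residue field at a prime lifts to a quotient of a localization by a finitely generated ideal. -/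
theorem exists_algHom_quot_away {A C K : Type u} [CommRing A] [CommRing C] [Field K] [Algebra A C]
    [Algebra.FinitePresentation A C] [Algebra A K]
    (hK : ∀ k : K, ∃ a s : A, algebraMap A K s ≠ 0 ∧ algebraMap A K s * k = algebraMap A K a) (φ : C →ₐ[A] K) :
    ∃ (s : A) (J : Ideal (Localization.Away s)), J.FG ∧ Nonempty (C →ₐ[A] (Localization.Away s ⧸ J)) ∧
      Nonempty ((Localization.Away s ⧸ J) →ₐ[A] K) := by
  classical
  obtain ⟨n, π, hπ, hker⟩ := Algebra.FinitePresentation.out (R := A) (A := C)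
  choose a d hd had using fun i : Fin n => hK (φ (π (MvPolynomial.X i)))
  let s := ∏ i, d i
  have hs : IsUnit (algebraMap A K s) := by
    rw [isUnit_iff_ne_zero, map_prod]
    exact Finset.prod_ne_zero_iff.2 fun i _ => hd i
  let As := Localization.Away s
  have hsu : IsUnit (algebraMap A As s) := IsLocalization.Away.algebraMap_isUnit s
  rw [map_prod, IsUnit.prod_univ_iff] at hsu
  let L : As →ₐ[A] K :=
    { (IsLocalization.Away.lift (S := As) s hs : As →+* K) with
      commutes' := fun r => IsLocalization.Away.lift_eq s hs r }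
  let v : Fin n → As := fun i => ↑(hsu i).unit⁻¹ * algebraMap A As (a i)
  let ψ : MvPolynomial (Fin n) A →ₐ[A] As := MvPolynomial.aeval v
  have hLv : L.comp ψ = φ.comp π := MvPolynomial.algHom_ext fun i => by
    rw [AlgHom.comp_apply, AlgHom.comp_apply, MvPolynomial.aeval_X]
    refine mul_left_cancel₀ (hd i) ?_
    rw [had i, ← L.commutes (d i), ← map_mul, ← mul_assoc, IsUnit.mul_val_inv, one_mul, L.commutes]
  obtain ⟨G, hG⟩ := hker
  let J : Ideal As := Ideal.span (ψ '' (G : Set (MvPolynomial (Fin n) A)))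
  have hJ : ∀ z ∈ J, L z = 0 := by
    show J ≤ RingHom.ker L.toRingHom
    rw [Ideal.span_le]
    rintro _ ⟨g, hg, rfl⟩
    show L (ψ g) = 0
    have h0 : π g = 0 := RingHom.mem_ker.1 (hG ▸ Ideal.subset_span hg)
    rw [← AlgHom.comp_apply, hLv, AlgHom.comp_apply, h0, map_zero]
  let ψ' := (Ideal.Quotient.mkₐ A J).comp ψ
  have hψ' : ∀ g ∈ RingHom.ker π, ψ' g = 0 := by
    show RingHom.ker π.toRingHom ≤ RingHom.ker ψ'.toRingHom
    rw [← hG, Ideal.span_le]
    exact fun g hg => Ideal.Quotient.eq_zero_iff_mem.2 (Ideal.subset_span ⟨g, hg, rfl⟩)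
  refine ⟨s, J, ?_, ⟨(Ideal.Quotient.liftₐ _ ψ' hψ').comp (Ideal.quotientKerAlgEquivOfSurjective hπ).symm.toAlgHom⟩,
    ⟨Ideal.Quotient.liftₐ J L hJ⟩⟩
  exact ⟨G.image ψ, by rw [Finset.coe_image]⟩

variable {X Y : Scheme.{u}} (f : X ⟶ Y) [LocallyOfFinitePresentation f] [CompactSpace Y] [QuasiSeparatedSpace Y]

/-- A trivial residue extension spreads out to a section over an immersion of finite presentation. -/
theorem exists_section_stratum (x : X) (hx : Function.Bijective (f.residueFieldMap x)) :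
    ∃ (Z : Scheme.{u}) (z : Z ⟶ Y), IsImmersion z ∧ LocallyOfFinitePresentation z ∧ QuasiCompact z ∧ QuasiSeparated z ∧
      f x ∈ Set.range z ∧ SpecLib.CO (Set.range z) ∧ ∃ s : Z ⟶ pullback f z, s ≫ pullback.snd f z = 𝟙 Z := by
  obtain ⟨_, ⟨U, hU, rfl⟩, hxU, -⟩ := Y.isBasis_affineOpens.exists_subset_of_mem_open (Set.mem_univ (f x)) isOpen_univ
  obtain ⟨_, ⟨W, hW, rfl⟩, hxW, hWU⟩ :=
    X.isBasis_affineOpens.exists_subset_of_mem_open (show x ∈ f ⁻¹ᵁ U from hxU) (f ⁻¹ᵁ U).2
  letI := (f.appLE U W hWU).hom.toAlgebra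
  haveI : Algebra.FinitePresentation Γ(Y, U) Γ(X, W) :=
    HasRingHomProperty.appLE (P := @LocallyOfFinitePresentation) f inferInstance ⟨U, hU⟩ ⟨W, hW⟩ hWU
  let K := Y.residueField (f x)
  letI : Algebra Γ(Y, U) K := (Y.evaluation U (f x) hxU).hom.toAlgebra
  let e : K ≅ X.residueField x := @asIso _ _ _ _ (f.residueFieldMap x) ((ConcreteCategory.isIso_iff_bijective _).2 hx)
  let φ : Γ(X, W) →ₐ[Γ(Y, U)] K :=
    { (X.evaluation W x hxW ≫ e.inv).hom with
      commutes' := fun r => by
        show e.inv (X.evaluation W x hxW (f.appLE U W hWU r)) = Y.evaluation U (f x) hxU r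
        have h1 : X.evaluation W x hxW (f.appLE U W hWU r) = X.evaluation (f ⁻¹ᵁ U) x hxU (f.app U r) := by
          simp only [Scheme.evaluation, CommRingCat.comp_apply, Scheme.Hom.appLE]
          rw [TopCat.Presheaf.germ_res_apply']
        rw [h1, ← Scheme.evaluation_naturality_apply]
        show e.inv (e.hom _) = _
        rw [Iso.hom_inv_id_apply] }
  have hK : ∀ k : K, ∃ a s : Γ(Y, U), algebraMap Γ(Y, U) K s ≠ 0 ∧ algebraMap Γ(Y, U) K s * k = algebraMap Γ(Y, U) K a := by
    intro k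
    obtain ⟨t, rfl⟩ := Y.residue_surjective (f x) k
    letI : Algebra Γ(Y, U) (Y.presheaf.stalk (f x)) := (Y.presheaf.germ U (f x) hxU).hom.toAlgebra
    haveI := hU.isLocalization_stalk ⟨f x, hxU⟩
    obtain ⟨⟨a, s⟩, hs⟩ := IsLocalization.surj (hU.primeIdealOf ⟨f x, hxU⟩).asIdeal.primeCompl t
    refine ⟨a, s, ?_, ?_⟩
    · exact ((IsLocalization.map_units (M := (hU.primeIdealOf ⟨f x, hxU⟩).asIdeal.primeCompl)
        (Y.presheaf.stalk (f x)) s).map (Y.residue (f x)).hom).ne_zero
    · rw [mul_comm]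
      exact (map_mul (Y.residue (f x)).hom _ _).symm.trans (congrArg (Y.residue (f x)).hom hs)
  obtain ⟨s, J, hJ, ⟨σ⟩, ⟨χ⟩⟩ := exists_algHom_quot_away hK φ
  let D := Localization.Away s ⧸ J
  let a : Spec (CommRingCat.of D) ⟶ Spec (CommRingCat.of (Localization.Away s)) :=
    Spec.map (CommRingCat.ofHom (Ideal.Quotient.mk J))
  let b : Spec (CommRingCat.of (Localization.Away s)) ⟶ Spec Γ(Y, U) :=
    Spec.map (CommRingCat.ofHom (algebraMap Γ(Y, U) (Localization.Away s)))
  haveI : IsClosedImmersion a := IsClosedImmersion.spec_of_surjective _ Ideal.Quotient.mk_surjective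
  haveI : IsOpenImmersion b := IsOpenImmersion.of_isLocalization s
  haveI : LocallyOfFinitePresentation a := (HasRingHomProperty.Spec_iff (P := @LocallyOfFinitePresentation)).2
    (RingHom.FinitePresentation.of_surjective _ Ideal.Quotient.mk_surjective (by rw [CommRingCat.hom_ofHom, Ideal.mk_ker]; exact hJ))
  let z : Spec (CommRingCat.of D) ⟶ Y := a ≫ b ≫ hU.fromSpec
  haveI : QuasiCompact z := quasiCompact_of_compactSpace z
  haveI : IsOpenImmersion hU.fromSpec := IsAffineOpen.isOpenImmersion_fromSpec hU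
  haveI : IsImmersion z := inferInstanceAs (IsImmersion (a ≫ b ≫ hU.fromSpec))
  haveI : LocallyOfFinitePresentation z := inferInstanceAs (LocallyOfFinitePresentation (a ≫ b ≫ hU.fromSpec))
  have hz : z = Spec.map (CommRingCat.ofHom (algebraMap Γ(Y, U) D)) ≫ hU.fromSpec := by
    show _ ≫ _ ≫ _ = _
    rw [← Category.assoc, ← Spec.map_comp]
    rfl
  refine ⟨_, z, inferInstance, inferInstance, inferInstance, inferInstance, ?_, ?_, ?_⟩
  · refine ⟨Spec.map (CommRingCat.ofHom χ.toRingHom) (⊥ : PrimeSpectrum K), ?_⟩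
    have h2 : Spec.map (CommRingCat.ofHom χ.toRingHom) ≫ z = Y.fromSpecResidueField (f x) := by
      rw [hz, ← Spec.map_comp_assoc,
        show CommRingCat.ofHom (algebraMap Γ(Y, U) D) ≫ CommRingCat.ofHom χ.toRingHom = Y.evaluation U (f x) hxU from
          CommRingCat.hom_ext χ.comp_algebraMap, Scheme.evaluation, Spec.map_comp, Category.assoc]
      have : Spec.map (Y.presheaf.germ U (f x) hxU) ≫ hU.fromSpec = Y.fromSpecStalk (f x) :=
        hU.fromSpecStalk_eq_fromSpecStalk hxU
      rw [this]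
      rfl
    show (Spec.map (CommRingCat.ofHom χ.toRingHom) ≫ z) _ = _
    rw [h2]
    exact Y.fromSpecResidueField_apply (f x) _
  · rw [← Set.image_univ]
    exact (SpecLib.cons_clopen (z.isConstructible_image Topology.IsConstructible.univ)).2
  · refine ⟨pullback.lift (Spec.map (CommRingCat.ofHom σ.toRingHom) ≫ hW.fromSpec) (𝟙 _) ?_, pullback.lift_snd _ _ _⟩
    rw [Category.id_comp, hz, Category.assoc, ← IsAffineOpen.SpecMap_appLE_fromSpec f hU hW hWU, ← Spec.map_comp_assoc]
    congr 2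
    exact CommRingCat.hom_ext σ.comp_algebraMap

/-- Completely decomposed morphisms have sections over finitely many strata. -/
theorem exists_section_strata (hcd : ∀ y : Y, ∃ x : X, f x = y ∧ Function.Bijective (f.residueFieldMap x)) :
    ∃ (n : ℕ) (Z : Fin n → Scheme.{u}) (z : ∀ i, Z i ⟶ Y), (∀ y : Y, ∃ i, y ∈ Set.range ⇑(z i)) ∧
      ∀ i, IsImmersion (z i) ∧ LocallyOfFinitePresentation (z i) ∧ QuasiCompact (z i) ∧ QuasiSeparated (z i) ∧
        ∃ s : Z i ⟶ pullback f (z i), s ≫ pullback.snd f (z i) = 𝟙 (Z i) := by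
  classical
  choose x hxy hx using hcd
  choose Z z h1 h2 h3 h4 hmem hCO hsec using fun y => exists_section_stratum f (x y) (hx y)
  obtain ⟨t, ht⟩ := @IsCompact.elim_finite_subcover Y (constructibleTopology Y) _ _
    (@CompactSpace.isCompact_univ Y (constructibleTopology Y) SpecLib.compactSpace_cons)
    (fun y => Set.range (z y)) hCO fun y _ => Set.mem_iUnion.2 ⟨y, by simpa [hxy y] using hmem y⟩
  let e := t.equivFin.symm
  refine ⟨t.card, fun i => Z (e i).1, fun i => z (e i).1, fun y => ?_,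
    fun i => ⟨h1 _, h2 _, h3 _, h4 _, hsec _⟩⟩
  obtain ⟨y', hy', hy⟩ := Set.mem_iUnion₂.1 (ht (Set.mem_univ y))
  exact ⟨e.symm ⟨y', hy'⟩, show y ∈ Set.range (z (e (e.symm ⟨y', hy'⟩)).1) by rw [Equiv.apply_symm_apply]; exact hy⟩

end Groth.Agent.FlatB12
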