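import Groth.Agent.FlatB12.ValPoint

/-!
# Closed points of the generic fibre over a valuation ring specializing to a given closed point

In a finite type domain `D` over a valuation ring `V` which is not a field, any prime `Q` over the maximal
ideal which is closed in the special fibre is the specialization of closed points of the generic fibre
lying in any given nonempty open.
-/

set_option autoImplicit false
set_option linter.style.haveILetI false

universe u

open AlgebraicGeometry CategoryTheory TensorProduct IsLocalRing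

namespace Groth.Agent.FlatB12

theorem fd_ker_eval {V σ : Type u} [CommRing V] [IsDomain V] [Finite σ] (a : σ → V) :
    haveI : (RingHom.ker (MvPolynomial.eval a)).IsPrime := RingHom.ker_isPrime _
    DimFormula.fd V (RingHom.ker (MvPolynomial.eval a)) = 0 := by
  haveI : (RingHom.ker (MvPolynomial.eval a)).IsPrime := RingHom.ker_isPrime _
  by_contra h
  obtain ⟨t, ht⟩ := (DimFormula.le_fd_iff V (RingHom.ker (MvPolynomial.eval a)) 1).1 (Nat.one_le_iff_ne_zero.2 h)
  have h1 := ht (MvPolynomial.X 0 - MvPolynomial.C (MvPolynomial.eval a (t 0))) (by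
    rw [map_sub, MvPolynomial.aeval_X, MvPolynomial.aeval_C, RingHom.mem_ker, map_sub]
    simp [MvPolynomial.algebraMap_eq])
  rw [MvPolynomial.mem_map_C_iff] at h1
  have h2 := h1 (Finsupp.single 0 1)
  rw [MvPolynomial.coeff_sub, MvPolynomial.coeff_X, MvPolynomial.coeff_C,
    if_neg (Finsupp.single_ne_zero.2 one_ne_zero).symm, sub_zero, Ideal.mem_comap, RingHom.mem_ker] at h2
  simp at h2

theorem exists_closed_generic_le {V D : Type u} [CommRing V] [IsDomain V] [ValuationRing V] [CommRing D] [IsDomain D]
    [Algebra V D] [Algebra.FiniteType V D] (hV : maximalIdeal V ≠ ⊥) (hinj : Function.Injective (algebraMap V D))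
    (Q : Ideal D) [Q.IsPrime] (hQ : Q.under V = maximalIdeal V)
    (hint : ∀ d : D, ∃ φ : Polynomial V, φ.Monic ∧ Polynomial.aeval d φ ∈ Q) (h : D) (h0 : h ≠ 0) :
    ∃ R : Ideal D, ∃ _ : R.IsPrime, R ≤ Q ∧ R.under V = ⊥ ∧ h ∉ R ∧ DimFormula.fd V R = 0 := by
  classical
  haveI : FaithfulSMul V D := (faithfulSMul_iff_algebraMap_injective _ _).2 hinj
  set n := DimFormula.fd V (⊥ : Ideal D) with hn
  let y : PrimeSpectrum V := PrimeSpectrum.comap (algebraMap V D) ⟨Q, ‹_›⟩
  have hdim : ringKrullDim (y.asIdeal.Fiber D) ≤ (n : WithBot ℕ∞) := by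
    rw [← FlatMisc.ValuationDim.dim_fiber_eq, FibDim.topologicalKrullDim_fiber]
    refine iSup_le fun z => ?_
    let r : PrimeSpectrum D := z.1
    have hr : r.asIdeal.under V = maximalIdeal V := by
      rw [← hQ]
      exact congrArg PrimeSpectrum.asIdeal z.2
    obtain ⟨q, hq, hqr⟩ := Ideal.exists_minimalPrimes_le
      (show (maximalIdeal V).map (algebraMap V D) ≤ r.asIdeal from Ideal.map_le_iff_le_comap.2 hr.ge)
    haveI := hq.1.1
    have hqV : q.under V = maximalIdeal V :=
      le_antisymm ((Ideal.comap_mono hqr).trans hr.le) (Ideal.map_le_iff_le_comap.1 hq.1.2)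
    have hmax := fd_eq_of_minimal hinj ⟨q, hq.1.1⟩ fun q' h1 h2 =>
      PrimeSpectrum.ext (le_antisymm h1 (hq.2 ⟨q'.2, Ideal.map_le_iff_le_comap.2 (h2.trans hqV).ge⟩ h1))
    have hle : DimFormula.fd V r.asIdeal ≤ n := by
      by_cases he : (⟨q, hq.1.1⟩ : PrimeSpectrum D) = r
      · rw [← he]; exact (hn ▸ hmax).le
      · exact ((fd_lt_of_lt (A := V) (q := ⟨q, hq.1.1⟩) (r := r) hqr he (hqV.trans hr.symm)).trans_le (hn ▸ hmax).le).le
    have h5 : FibDim.rd (Spec.map (CommRingCat.ofHom (algebraMap V D))) z.1 ≤ n := by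
      rw [show FibDim.rd (Spec.map (CommRingCat.ofHom (algebraMap V D))) z.1 = DimFormula.fd V r.asIdeal from
        rd_spec_eq_fd r]
      exact hle
    exact WithBot.coe_le_coe.2 (ENat.natCast_le_natCast.2 h5)
  obtain ⟨m, hm, b, g, -, -, hg, hqf⟩ := FibDim.exists_quasiFinite (A := V) (⟨Q, ‹_›⟩ : PrimeSpectrum D) n hdim
  choose φ hφm hφQ using fun i => hint (b i)
  -- `V[x] → D_g` is quasi-finite, and `V[y] → V[x]`, `yᵢ ↦ φᵢ(xᵢ)`, is finite
  let σ := ULift.{u} (Fin m)
  let P := MvPolynomial (Fin m) V
  let P' := MvPolynomial σ V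
  letI : Algebra P D := (MvPolynomial.aeval (R := V) b).toRingHom.toAlgebra
  haveI : IsScalarTower V P D :=
    IsScalarTower.of_algebraMap_eq fun a => ((MvPolynomial.aeval (R := V) b).commutes a).symm
  letI : Algebra P' P :=
    (MvPolynomial.aeval (R := V) fun i : σ => Polynomial.aeval (MvPolynomial.X i.down : P) (φ i.down)).toRingHom.toAlgebra
  have hP'P : ∀ f : P', algebraMap P' P f =
      MvPolynomial.aeval (R := V) (fun i : σ => Polynomial.aeval (MvPolynomial.X i.down : P) (φ i.down)) f := fun _ => rfl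
  haveI : IsScalarTower V P' P := IsScalarTower.of_algebraMap_eq fun a => by rw [hP'P, AlgHom.commutes]
  have hdeg : ∀ i, 0 < (φ i).natDegree := fun i => by
    by_contra hd
    have h1 : φ i = 1 := (hφm i).natDegree_eq_zero.mp (by omega)
    have h2 := hφQ i
    rw [h1, map_one] at h2
    exact (Ideal.IsPrime.ne_top ‹Q.IsPrime›) ((Ideal.eq_top_iff_one _).2 h2)
  haveI : Algebra.IsIntegral P' P := ⟨fun f => by
    induction f using MvPolynomial.induction_on with
    | C a =>
      rw [← MvPolynomial.algebraMap_eq, IsScalarTower.algebraMap_apply V P' P]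
      exact isIntegral_algebraMap
    | add p q hp hq => exact hp.add hq
    | mul_X p i hp =>
      refine hp.mul ⟨(φ i).map (algebraMap V P') - Polynomial.C (MvPolynomial.X ⟨i⟩), ?_, ?_⟩
      · refine ((hφm i).map _).sub_of_left (lt_of_le_of_lt Polynomial.degree_C_le ?_)
        rw [(hφm i).degree_map, Polynomial.degree_eq_natDegree (hφm i).ne_zero]
        exact_mod_cast hdeg i
      · rw [← Polynomial.aeval_def, map_sub, Polynomial.aeval_map_algebraMap, Polynomial.aeval_C, hP'P,
          MvPolynomial.aeval_X]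
        exact sub_self _⟩
  haveI : Algebra.FiniteType P' P := Algebra.FiniteType.of_restrictScalars_finiteType V _ P
  haveI : Module.Finite P' P := Algebra.IsIntegral.finite
  letI : Algebra P' D := ((algebraMap P D).comp (algebraMap P' P)).toAlgebra
  haveI : IsScalarTower P' P D := IsScalarTower.of_algebraMap_eq fun _ => rfl
  haveI : IsScalarTower V P' D := IsScalarTower.of_algebraMap_eq fun a => by
    show _ = algebraMap P D (algebraMap P' P (algebraMap V P' a))
    rw [← IsScalarTower.algebraMap_apply V P' P, ← IsScalarTower.algebraMap_apply V P D]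
  let D' := Localization.Away g
  haveI : Algebra.QuasiFinite P D' := hqf
  haveI : IsScalarTower P' P D' := IsScalarTower.of_algebraMap_eq fun x => by
    rw [IsScalarTower.algebraMap_apply P' D D', IsScalarTower.algebraMap_apply P' P D,
      ← IsScalarTower.algebraMap_apply P D D']
  haveI : Algebra.QuasiFinite P' D' := Algebra.QuasiFinite.trans P' P D'
  haveI : IsScalarTower V P' D' := IsScalarTower.of_algebraMap_eq fun a => by
    rw [IsScalarTower.algebraMap_apply V D D', IsScalarTower.algebraMap_apply V P' D,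
      ← IsScalarTower.algebraMap_apply P' D D']
  have hg0 : g ≠ 0 := fun e => hg (e ▸ Q.zero_mem)
  haveI : IsDomain D' := IsLocalization.isDomain_localization (powers_le_nonZeroDivisors_of_noZeroDivisors hg0)
  haveI : Algebra.FiniteType V D' :=
    .trans (S := D) inferInstance (IsLocalization.finiteType_of_monoid_fg (.powers g) _)
  haveI : Algebra.FiniteType P' D' := Algebra.FiniteType.of_restrictScalars_finiteType V _ D'
  have hDinj : Function.Injective (algebraMap D D') :=
    IsLocalization.injective D' (powers_le_nonZeroDivisors_of_noZeroDivisors hg0)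
  have hVinj : Function.Injective (algebraMap V D') := by
    rw [IsScalarTower.algebraMap_eq V D D']
    exact hDinj.comp hinj
  haveI : FaithfulSMul V D' := (faithfulSMul_iff_algebraMap_injective _ _).2 hVinj
  haveI : FaithfulSMul D D' := (faithfulSMul_iff_algebraMap_injective _ _).2 hDinj
  haveI : IsIntegrallyClosed P' := UnivOpen.isIntegrallyClosed_mvPolynomial V σ
  have hfdD' : DimFormula.fd V (⊥ : Ideal D') = n := by
    haveI : Algebra.IsAlgebraic D D' := IsLocalization.isAlgebraic _ (Submonoid.powers g)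
    have h2 : (DimFormula.fd V (⊥ : Ideal D') : Cardinal.{u}) = (n : Cardinal.{u}) := by
      rw [hn, DimFormula.fd_bot_eq_trdeg, DimFormula.fd_bot_eq_trdeg, ← trdeg_add_eq V D (A := D'),
        trdeg_eq_zero (R := D), add_zero]
    exact_mod_cast h2
  let φ' := CommRingCat.ofHom (algebraMap P' D')
  let π := CommRingCat.ofHom (algebraMap V P')
  haveI : LocallyOfFiniteType (Spec.map φ') := lft_spec
  haveI : LocallyOfFiniteType (Spec.map π) := lft_spec
  haveI : LocallyQuasiFinite (Spec.map φ') :=
    HasRingHomProperty.Spec_iff.2 (RingHom.quasiFinite_algebraMap.2 inferInstance)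
  have hcomp : Spec.map φ' ≫ Spec.map π = Spec.map (CommRingCat.ofHom (algebraMap V D')) := by
    rw [← Spec.map_comp]
    exact congrArg Spec.map (CommRingCat.hom_ext (IsScalarTower.algebraMap_eq V P' D').symm)
  have hfd : ∀ z : PrimeSpectrum D', DimFormula.fd V z.asIdeal =
      DimFormula.fd V (z.asIdeal.comap (algebraMap P' D')) := fun z => by
    have h1 := FibDim.rd_comp (Spec.map φ') (Spec.map π) z
    rw [FibDim.rd_eq_zero_of_quasiFinite (Spec.map φ') z, add_zero] at h1
    have e1 : FibDim.rd (Spec.map φ' ≫ Spec.map π) z = DimFormula.fd V z.asIdeal := by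
      rw [hcomp]
      exact rd_spec_eq_fd z
    rw [← e1, h1]
    exact rd_spec_eq_fd (PrimeSpectrum.comap (algebraMap P' D') z)
  haveI : FaithfulSMul V P' := (faithfulSMul_iff_algebraMap_injective _ _).2 fun a c hac => hVinj (by
    rw [IsScalarTower.algebraMap_apply V P' D', IsScalarTower.algebraMap_apply V P' D', hac])
  have htrP : Algebra.trdeg V P' = (m : Cardinal.{u}) := by
    rw [MvPolynomial.trdeg_of_isDomain]
    simp [σ, Cardinal.mk_fin]
  have hPD : Function.Injective (algebraMap P' D') := by
    rw [RingHom.injective_iff_ker_eq_bot]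
    by_contra hk
    let k : PrimeSpectrum P' := PrimeSpectrum.comap (algebraMap P' D') ⟨⊥, Ideal.isPrime_bot⟩
    let o : PrimeSpectrum P' := ⟨⊥, Ideal.isPrime_bot⟩
    have hk' : o ≠ k := fun he => hk (by
      rw [RingHom.ker_eq_comap_bot]
      exact (congrArg PrimeSpectrum.asIdeal he).symm)
    have hlt' := fd_lt_of_lt (A := V) (q := o) (r := k) bot_le hk' (by
      show (⊥ : Ideal P').under V = ((⊥ : Ideal D').comap (algebraMap P' D')).comap (algebraMap V P')
      rw [Ideal.comap_comap, ← IsScalarTower.algebraMap_eq, ← RingHom.ker_eq_comap_bot,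
        (RingHom.injective_iff_ker_eq_bot _).1 hVinj]
      exact (RingHom.ker_eq_comap_bot _).symm.trans
        ((RingHom.injective_iff_ker_eq_bot _).1 (FaithfulSMul.algebraMap_injective V P')))
    have e3 : DimFormula.fd V o.asIdeal = m := by
      have h2 : (DimFormula.fd V (⊥ : Ideal P') : Cardinal.{u}) = (m : Cardinal.{u}) := by
        rw [DimFormula.fd_bot_eq_trdeg, htrP]
      exact_mod_cast h2
    have e4 : n = DimFormula.fd V k.asIdeal := hfdD'.symm.trans (hfd ⟨⊥, Ideal.isPrime_bot⟩)
    omega
  haveI : FaithfulSMul P' D' := (faithfulSMul_iff_algebraMap_injective _ _).2 hPD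
  have hmn : m = n := by
    have h2 := hfd ⟨⊥, Ideal.isPrime_bot⟩
    have h3 : (⊥ : Ideal D').comap (algebraMap P' D') = ⊥ := by
      rw [← RingHom.ker_eq_comap_bot, (RingHom.injective_iff_ker_eq_bot _).1 hPD]
    have h4 : (DimFormula.fd V (⊥ : Ideal P') : Cardinal.{u}) = (m : Cardinal.{u}) := by
      rw [DimFormula.fd_bot_eq_trdeg, htrP]
    have h5 : DimFormula.fd V (⊥ : Ideal D') = DimFormula.fd V (⊥ : Ideal P') := by
      simpa only [h3] using h2
    have h6 : DimFormula.fd V (⊥ : Ideal P') = m := by exact_mod_cast h4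
    omega
  haveI : Algebra.IsAlgebraic P' D' := by
    rw [← trdeg_eq_zero_iff]
    have h1 := trdeg_add_eq V P' (A := D')
    have h2 : Algebra.trdeg V D' = (m : Cardinal.{u}) := by
      rw [← DimFormula.fd_bot_eq_trdeg, hfdD', hmn]
    rw [htrP, h2] at h1
    exact Cardinal.eq_of_add_eq_add_left (a := (m : Cardinal.{u})) (h1.trans (add_zero _).symm) Cardinal.natCast_lt_aleph0
  -- a hypersurface containing the zeros of `h`
  have hh' : algebraMap D D' h ≠ 0 := fun e => h0 (hDinj (e.trans (map_zero _).symm))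
  obtain ⟨c, hc0, hcd⟩ :=
    (Algebra.IsAlgebraic.isAlgebraic (R := P') (algebraMap D D' h)).exists_nonzero_dvd
      (mem_nonZeroDivisors_of_ne_zero hh')
  obtain ⟨v, hv, hv0⟩ := Submodule.exists_mem_ne_zero_of_ne_bot hV
  have hinf : (maximalIdeal V : Set V).Infinite := by
    refine Set.infinite_of_injective_forall_mem (f := fun k : ℕ => v ^ (k + 1)) (fun k k' he => ?_)
      (fun k => Ideal.pow_mem_of_mem _ hv (k + 1) k.succ_pos)
    rcases lt_trichotomy k k' with hlt | heq | hlt
    · exfalso
      obtain ⟨d, rfl⟩ := Nat.exists_eq_add_of_lt hlt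
      have h1 : v ^ (k + 1) * (1 - v ^ (d + 1)) = 0 := by
        rw [mul_sub, mul_one, ← pow_add, sub_eq_zero]
        convert he using 2
        omega
      rcases mul_eq_zero.1 h1 with h2 | h2
      · exact hv0 (eq_zero_of_pow_eq_zero h2)
      · exact (maximalIdeal V).ne_top_iff_one.1 (maximalIdeal.isMaximal V).ne_top (by
          rw [sub_eq_zero.1 h2]; exact Ideal.pow_mem_of_mem _ hv _ d.succ_pos)
    · exact heq
    · exfalso
      obtain ⟨d, rfl⟩ := Nat.exists_eq_add_of_lt hlt
      have h1 : v ^ (k' + 1) * (1 - v ^ (d + 1)) = 0 := by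
        rw [mul_sub, mul_one, ← pow_add, sub_eq_zero]
        convert he.symm using 2
        omega
      rcases mul_eq_zero.1 h1 with h2 | h2
      · exact hv0 (eq_zero_of_pow_eq_zero h2)
      · exact (maximalIdeal V).ne_top_iff_one.1 (maximalIdeal.isMaximal V).ne_top (by
          rw [sub_eq_zero.1 h2]; exact Ideal.pow_mem_of_mem _ hv _ d.succ_pos)
  obtain ⟨a, ha, hca⟩ : ∃ a : σ → V, (∀ i, a i ∈ maximalIdeal V) ∧ MvPolynomial.eval a c ≠ 0 := by
    by_contra hall
    push Not at hall
    exact hc0 (MvPolynomial.funext_set (fun _ => (maximalIdeal V : Set V)) (fun _ => hinf) fun a ha => by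
      rw [map_zero]
      exact hall a fun i => ha i trivial)
  -- go down to the point `y = a`
  let p₀ : Ideal P' := RingHom.ker (MvPolynomial.eval a)
  haveI : p₀.IsPrime := RingHom.ker_isPrime _
  have hred : (Ideal.Quotient.mk Q).comp (algebraMap P' D) =
      ((Ideal.Quotient.mk Q).comp (algebraMap V D)).comp (MvPolynomial.eval a) := by
    refine MvPolynomial.ringHom_ext (fun r => ?_) fun i => ?_
    · simp only [RingHom.comp_apply, MvPolynomial.eval_C]
      rw [← MvPolynomial.algebraMap_eq, ← IsScalarTower.algebraMap_apply]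
    · simp only [RingHom.comp_apply, MvPolynomial.eval_X]
      have h1 : algebraMap V D (a i) ∈ Q := by
        rw [← Ideal.mem_comap]
        exact hQ.ge (ha i)
      have h2 : algebraMap P' D (MvPolynomial.X i) ∈ Q := by
        show MvPolynomial.aeval b (algebraMap P' P (MvPolynomial.X i)) ∈ Q
        rw [hP'P, MvPolynomial.aeval_X, ← Polynomial.aeval_algHom_apply, MvPolynomial.aeval_X]
        exact hφQ i.down
      rw [Ideal.Quotient.eq_zero_iff_mem.2 h1, Ideal.Quotient.eq_zero_iff_mem.2 h2]
  have hdisj : Disjoint (Submonoid.powers g : Set D) (Q : Set D) := by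
    rw [Ideal.disjoint_powers_iff_notMem_of_isPrime]; exact hg
  haveI : (Q.map (algebraMap D D')).IsPrime := IsLocalization.isPrime_of_isPrime_disjoint _ _ Q inferInstance hdisj
  obtain ⟨R', hR'p, hR'Q, hR'P⟩ := exists_le_over_of_quasiFinite hPD (Q.map (algebraMap D D')) p₀ (fun f hf => by
    rw [Ideal.mem_comap]
    rw [IsScalarTower.algebraMap_apply P' D D']
    refine Ideal.mem_map_of_mem _ (Ideal.Quotient.eq_zero_iff_mem.1 ?_)
    have h1 := RingHom.congr_fun hred f
    rw [RingHom.comp_apply] at h1
    rw [h1, RingHom.comp_apply, RingHom.mem_ker.1 hf, map_zero])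
  haveI := hR'p
  refine ⟨R'.comap (algebraMap D D'), inferInstance,
    (Ideal.comap_mono hR'Q).trans (IsLocalization.under_map_of_isPrime_disjoint _ D' inferInstance hdisj).le, ?_, ?_, ?_⟩
  · rw [eq_bot_iff]
    intro r hr
    have h1 : algebraMap V P' r ∈ R'.under P' := by
      show algebraMap P' D' (algebraMap V P' r) ∈ R'
      rw [← IsScalarTower.algebraMap_apply, IsScalarTower.algebraMap_apply V D D']
      exact hr
    rw [hR'P, RingHom.mem_ker, MvPolynomial.algebraMap_eq, MvPolynomial.eval_C] at h1
    exact h1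
  · intro hh
    refine hca (RingHom.mem_ker.1 (hR'P.le ?_))
    show algebraMap P' D' c ∈ R'
    exact Ideal.mem_of_dvd _ hcd hh
  · have e : DimFormula.fd V (R'.comap (algebraMap D D')) = DimFormula.fd V R' := by
      let j := CommRingCat.ofHom (algebraMap D D')
      haveI : IsOpenImmersion (Spec.map j) := IsOpenImmersion.of_isLocalization g
      let ρ := CommRingCat.ofHom (algebraMap V D)
      have hj : Spec.map j ≫ Spec.map ρ = Spec.map (CommRingCat.ofHom (algebraMap V D')) := by
        rw [← Spec.map_comp]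
        exact congrArg Spec.map (CommRingCat.hom_ext (IsScalarTower.algebraMap_eq V D D').symm)
      have h1 := FibDim.rd_comp (Spec.map j) (Spec.map ρ) (⟨R', hR'p⟩ : PrimeSpectrum D')
      rw [FibDim.rd_eq_zero_of_quasiFinite (Spec.map j) (⟨R', hR'p⟩ : PrimeSpectrum D'), add_zero, hj] at h1
      exact ((rd_spec_eq_fd (A := V) (⟨R', hR'p⟩ : PrimeSpectrum D')).symm.trans (h1.trans
        (rd_spec_eq_fd (A := V) (PrimeSpectrum.comap (algebraMap D D') ⟨R', hR'p⟩)))).symm
    have h2 := hfd ⟨R', hR'p⟩
    have h3 : DimFormula.fd V (R'.comap (algebraMap P' D')) = 0 := by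
      have : R'.comap (algebraMap P' D') = p₀ := hR'P
      simp only [this]
      exact fd_ker_eval a
    rw [e, h2, h3]

end Groth.Agent.FlatB12
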