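import Groth.Agent.FlatB12.FibreDeg

/-!
# Local domains essentially of finite type over a local domain
-/

set_option autoImplicit false
set_option linter.style.haveILetI false

universe u

open AlgebraicGeometry CategoryTheory TensorProduct IsLocalRing

namespace Groth.Agent.FlatB12

/-- An algebra in which every element is a quotient of two elements of the base is algebraic. -/
theorem isAlgebraic_of_quotients {R S : Type u} [CommRing R] [Nontrivial R] [CommRing S] [Algebra R S]
    (h : ∀ z : S, ∃ a s : R, s ≠ 0 ∧ z * algebraMap R S s = algebraMap R S a) : Algebra.IsAlgebraic R S :=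
  ⟨fun z => by
    obtain ⟨a, s, hs, he⟩ := h z
    refine ⟨Polynomial.C s * Polynomial.X - Polynomial.C a, fun h0 => hs ?_, ?_⟩
    · simpa using congrArg (fun P => Polynomial.coeff P 1) h0
    · rw [map_sub, map_mul, Polynomial.aeval_C, Polynomial.aeval_X, Polynomial.aeval_C, mul_comm, he, sub_self]⟩

section

variable (A B : Type u) [CommRing A] [CommRing B] [Algebra A B] [Algebra.EssFiniteType A B] [IsLocalRing B]

/-- The chosen finite type subalgebra. -/
noncomputable abbrev chart : Subalgebra A B := Algebra.EssFiniteType.subalgebra A B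

/-- The point of the chart under the closed point. -/
noncomputable abbrev chartPt : PrimeSpectrum (chart A B) :=
  ⟨(maximalIdeal B).comap (algebraMap (chart A B) B), inferInstance⟩

instance chart_isLocalization : IsLocalization.AtPrime B (chartPt A B).asIdeal := by
  have h : (chartPt A B).asIdeal.primeCompl = Algebra.EssFiniteType.submonoid A B := by
    ext x
    show algebraMap (chart A B) B x ∉ maximalIdeal B ↔ IsUnit (algebraMap (chart A B) B x)
    rw [IsLocalRing.mem_maximalIdeal, mem_nonunits_iff, not_not]
  show IsLocalization (chartPt A B).asIdeal.primeCompl B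
  rw [h]
  infer_instance

theorem under_chartPt [IsLocalRing A] [IsLocalHom (algebraMap A B)] :
    (chartPt A B).asIdeal.under A = maximalIdeal A := by
  show ((maximalIdeal B).comap _).comap (algebraMap A (chart A B)) = _
  rw [Ideal.comap_comap, ← IsScalarTower.algebraMap_eq]
  exact maximalIdeal_comap _

theorem dim_closedFibre_eq [IsLocalRing A] [IsLocalHom (algebraMap A B)] :
    ringKrullDim (B ⧸ (maximalIdeal A).map (algebraMap A B)) =
      ((DimFormula.fb (Spec.map (CommRingCat.ofHom (algebraMap A (chart A B)))) (chartPt A B) : ℕ∞) : WithBot ℕ∞) := by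
  rw [← ringKrullDim_fibre_atPrime, under_chartPt]
  let e := IsLocalization.algEquiv (chartPt A B).asIdeal.primeCompl (Localization.AtPrime (chartPt A B).asIdeal) B
  refine ringKrullDim_eq_of_ringEquiv (Ideal.quotientEquiv _ _ e.toRingEquiv ?_).symm
  show _ = Ideal.map e.toRingEquiv.toRingHom (Ideal.map (algebraMap A (Localization.AtPrime (chartPt A B).asIdeal)) _)
  rw [Ideal.map_map]
  congr 1
  exact RingHom.ext fun a => ((e.restrictScalars A).commutes a).symm

theorem trdeg_residueField_eq [IsLocalRing A] [IsLocalHom (algebraMap A B)] :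
    Algebra.trdeg (ResidueField A) (ResidueField B) = (DimFormula.fd A (chartPt A B).asIdeal : Cardinal.{u}) := by
  let Q := (chartPt A B).asIdeal
  let m := maximalIdeal A
  haveI : Q.LiesOver m := ⟨(under_chartPt A B).symm⟩
  let ι : (chart A B) ⧸ Q →+* ResidueField B :=
    Ideal.Quotient.lift Q ((residue B).comp (algebraMap (chart A B) B)) fun c hc =>
      (residue_eq_zero_iff _).2 hc
  letI : Algebra ((chart A B) ⧸ Q) (ResidueField B) := ι.toAlgebra
  have hι : Function.Injective ι := by
    rw [injective_iff_map_eq_zero]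
    intro z hz
    obtain ⟨c, rfl⟩ := Ideal.Quotient.mk_surjective z
    exact Ideal.Quotient.eq_zero_iff_mem.2 ((residue_eq_zero_iff _).1 hz)
  haveI : IsDomain ((chart A B) ⧸ Q) := Ideal.Quotient.isDomain Q
  letI algmB : Algebra (A ⧸ m) (ResidueField B) := (inferInstance : Algebra (ResidueField A) (ResidueField B))
  haveI : FaithfulSMul ((chart A B) ⧸ Q) (ResidueField B) := (faithfulSMul_iff_algebraMap_injective _ _).2 hι
  haveI : IsScalarTower (A ⧸ m) ((chart A B) ⧸ Q) (ResidueField B) := by
    refine IsScalarTower.of_algebraMap_eq fun z => ?_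
    obtain ⟨a, rfl⟩ := Ideal.Quotient.mk_surjective z
    show residue B (algebraMap A B a) = residue B (algebraMap (chart A B) B (algebraMap A (chart A B) a))
    rw [← IsScalarTower.algebraMap_apply]
  haveI : FaithfulSMul (A ⧸ m) ((chart A B) ⧸ Q) :=
    (faithfulSMul_iff_algebraMap_injective _ _).2 fun _ _ hxy => by
      letI := (Ideal.Quotient.field m)
      exact (algebraMap (A ⧸ m) ((chart A B) ⧸ Q)).injective hxy
  haveI : Algebra.IsAlgebraic ((chart A B) ⧸ Q) (ResidueField B) := isAlgebraic_of_quotients fun z => by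
    obtain ⟨b, rfl⟩ := residue_surjective z
    obtain ⟨⟨c, s⟩, hs⟩ := IsLocalization.surj Q.primeCompl b
    refine ⟨Ideal.Quotient.mk Q c, Ideal.Quotient.mk Q s.1, fun h => s.2 (Ideal.Quotient.eq_zero_iff_mem.1 h), ?_⟩
    show residue B b * residue B (algebraMap (chart A B) B s.1) = residue B (algebraMap (chart A B) B c)
    rw [← map_mul, hs]
  rw [DimFormula.fd_eq_trdeg A m (Ideal.Quotient.mkₐ A Q) Ideal.Quotient.mk_surjective Q Ideal.mk_ker
    (under_chartPt A B)]
  show Algebra.trdeg (A ⧸ m) (ResidueField B) = _
  rw [← trdeg_add_eq (A ⧸ m) ((chart A B) ⧸ Q), trdeg_eq_zero (R := (chart A B) ⧸ Q), add_zero]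

variable [IsDomain A] [IsDomain B] [FaithfulSMul A B]

instance chart_faithful : FaithfulSMul A (chart A B) :=
  (faithfulSMul_iff_algebraMap_injective _ _).2 fun _ _ h =>
    FaithfulSMul.algebraMap_injective A B (congrArg Subtype.val h)

theorem trdeg_eq : Algebra.trdeg A B = (DimFormula.fd A (⊥ : Ideal (chart A B)) : Cardinal.{u}) := by
  haveI : FaithfulSMul (chart A B) B := (faithfulSMul_iff_algebraMap_injective _ _).2 Subtype.val_injective
  haveI : Algebra.IsAlgebraic (chart A B) B := IsLocalization.isAlgebraic _ (chartPt A B).asIdeal.primeCompl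
  rw [DimFormula.fd_bot_eq_trdeg, ← trdeg_add_eq A (chart A B), trdeg_eq_zero (R := chart A B), add_zero]

end

end Groth.Agent.FlatB12
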