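import Groth.Agent.FlatB12.FibreDeg
import Groth.Agent.DimFormula.QuasiSection

/-! Relative degree zero at a prime, in terms of one-variable polynomials; closedness in the fibre. -/

set_option autoImplicit false
set_option linter.style.haveILetI false

universe u

open AlgebraicGeometry CategoryTheory

namespace Groth.Agent.FlatB12

variable {A B : Type u} [CommRing A] [CommRing B] [Algebra A B] [Algebra.FiniteType A B]

/-- Relative degree zero: every element is algebraic modulo the prime. -/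
theorem exists_poly_of_fd_eq_zero (P : Ideal B) [P.IsPrime] (h : DimFormula.fd A P = 0) (t : B) :
    ∃ p : Polynomial A, Polynomial.aeval t p ∈ P ∧ p.map (Ideal.Quotient.mk (P.under A)) ≠ 0 := by
  have h1 : ¬ FibDim.IndepMod (A := A) (fun _ : Fin 1 => t) P := fun hc => by
    have := (DimFormula.le_fd_iff A P 1).2 ⟨_, hc⟩
    omega
  simp only [FibDim.IndepMod, not_forall] at h1
  obtain ⟨G, hG, hG'⟩ := h1
  refine ⟨MvPolynomial.uniqueAlgEquiv A (Fin 1) G, ?_, fun h0 => hG' ?_⟩
  · have : (Polynomial.aeval t).comp (MvPolynomial.uniqueAlgEquiv A (Fin 1)).toAlgHom =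
        MvPolynomial.aeval (fun _ : Fin 1 => t) := MvPolynomial.algHom_ext fun i => by simp
    rwa [← this] at hG
  · rw [MvPolynomial.mem_map_C_iff]
    intro d
    have h2 := congrArg (fun p => Polynomial.coeff p (d default)) h0
    simp only [Polynomial.coeff_map, Polynomial.coeff_zero, MvPolynomial.coeff_uniqueAlgEquiv] at h2
    rw [← Finsupp.unique_single d] at h2
    exact Ideal.Quotient.eq_zero_iff_mem.1 h2

theorem fd_eq_zero_of_forall_poly (P : Ideal B) [P.IsPrime]
    (h : ∀ t : B, ∃ p : Polynomial A, Polynomial.aeval t p ∈ P ∧ p.map (Ideal.Quotient.mk (P.under A)) ≠ 0) :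
    DimFormula.fd A P = 0 := by
  by_contra hne
  obtain ⟨t, ht⟩ := (DimFormula.le_fd_iff A P 1).1 (Nat.one_le_iff_ne_zero.2 hne)
  obtain ⟨p, hp, hp0⟩ := h (t 0)
  have h1 := ht ((MvPolynomial.uniqueAlgEquiv A (Fin 1)).symm p) (by
    have : (MvPolynomial.aeval t).comp (MvPolynomial.uniqueAlgEquiv A (Fin 1)).symm.toAlgHom =
        Polynomial.aeval (t 0) := Polynomial.algHom_ext (by simp)
    rwa [← this] at hp)
  rw [MvPolynomial.mem_map_C_iff] at h1
  refine hp0 (Polynomial.ext fun n => ?_)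
  rw [Polynomial.coeff_map, Polynomial.coeff_zero, Ideal.Quotient.eq_zero_iff_mem]
  have h2 := h1 (Finsupp.single default n)
  rwa [MvPolynomial.coeff_uniqueAlgEquiv_symm, Finsupp.single_eq_same] at h2

/-- A point of relative degree zero is closed in its fibre. -/
theorem isClosed_in_fibre_of_rd_eq_zero {X S : Scheme.{u}} (f : X ⟶ S) [LocallyOfFiniteType f] {x : X} (s : S)
    (hs : f x = s) (h : FibDim.rd f x = 0) : IsClosed (Subtype.val ⁻¹' {x} : Set ↑(f ⁻¹' {s})) := by
  have : (Subtype.val ⁻¹' {x} : Set ↑(f ⁻¹' {s})) = Subtype.val ⁻¹' closure {x} := by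
    ext ⟨z, hz⟩
    refine ⟨fun hx => subset_closure hx, fun hx => ?_⟩
    by_contra hne
    have := FibDim.rd_lt f (specializes_iff_mem_closure.2 hx) (fun e => hne e.symm) (hs.trans hz.symm)
    omega
  rw [this]
  exact isClosed_closure.preimage continuous_subtype_val

theorem rd_eq_zero_of_isClosed_in_fibre {X S : Scheme.{u}} (f : X ⟶ S) [LocallyOfFiniteType f] {x : X}
    (h : IsClosed (Subtype.val ⁻¹' {x} : Set ↑(f ⁻¹' {f x}))) : FibDim.rd f x = 0 := by
  refine DimFormula.rd_eq_zero_of_closed f fun z hz hxz => ?_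
  have h1 : (⟨z, hz⟩ : ↑(f ⁻¹' {f x})) ∈ closure ({⟨x, rfl⟩} : Set ↑(f ⁻¹' {f x})) :=
    specializes_iff_mem_closure.1
      ((Topology.IsInducing.subtypeVal.specializes_iff (x := (⟨x, rfl⟩ : ↑(f ⁻¹' {f x}))) (y := ⟨z, hz⟩)).1 hxz)
  exact (h.closure_subset_iff.2 (Set.singleton_subset_iff.2 rfl)) h1

/-- Relative degree in an affine chart. -/
theorem rd_chart_eq_fd {X S : Scheme.{u}} (f : X ⟶ S) [LocallyOfFiniteType f]
    (i : Spec (CommRingCat.of A) ⟶ S) [IsOpenImmersion i] (j : Spec (CommRingCat.of B) ⟶ X) [IsOpenImmersion j]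
    (h : j ≫ f = Spec.map (CommRingCat.ofHom (algebraMap A B)) ≫ i) (P : PrimeSpectrum B) :
    FibDim.rd f (j P) = DimFormula.fd A P.asIdeal :=
  eq_of_forall_le_iff fun n => by rw [FibDim.le_rd_iff' f i j h P n, DimFormula.le_fd_iff]

end Groth.Agent.FlatB12
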