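import Groth.Agent.DimFormula.Trdeg
import Groth.Agent.DimFormula.Fibre
import Groth.Agent.Triage.CMMor
import Groth.Agent.FibDim.BaseChange
import Groth.Agent.FibDim.Open

/-!
# Relative degrees over a local domain: the flat bound and the fibre dimension in ring language
-/

set_option autoImplicit false
set_option linter.style.haveILetI false

universe u

open AlgebraicGeometry CategoryTheory TensorProduct IsLocalRing

namespace Groth.Agent.FlatB12

section ring

variable {A C : Type u} [CommRing A] [CommRing C] [Algebra A C] [Algebra.FiniteType A C]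

omit [Algebra A C] [Algebra.FiniteType A C] in
theorem map_eq_aux {S₁ S₂ A' C' : Type u} [CommRing S₁] [IsLocalRing S₁] [CommRing S₂] [CommRing A']
    [IsLocalRing A'] [CommRing C'] (el : S₁ ≃+* A') (er : S₂ ≃+* C') (l : A' →+* C') (g : S₁ →+* S₂)
    (hg : g = er.symm.toRingHom.comp (l.comp el.toRingHom)) (J : Ideal C')
    (hJ : J = (maximalIdeal A').map l) : (maximalIdeal S₁).map g = J.map er.symm.toRingHom := by
  rw [hg, hJ, ← IsLocalRing.map_ringEquiv_maximalIdeal el, Ideal.map_map]
  exact (Ideal.map_map el.toRingHom (er.symm.toRingHom.comp l)).symm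

instance lft_spec : LocallyOfFiniteType (Spec.map (CommRingCat.ofHom (algebraMap A C))) :=
  HasRingHomProperty.Spec_iff.2 (RingHom.finiteType_algebraMap.2 ‹_›)

theorem rd_spec_eq_fd (Q : PrimeSpectrum C) :
    FibDim.rd (Spec.map (CommRingCat.ofHom (algebraMap A C))) Q = DimFormula.fd A Q.asIdeal := by
  refine eq_of_forall_le_iff fun n => ?_
  rw [DimFormula.le_fd_iff]
  exact FibDim.le_rd_iff' (Spec.map (CommRingCat.ofHom (algebraMap A C))) (𝟙 _) (𝟙 _)
    (by rw [Category.id_comp, Category.comp_id]) Q n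

theorem ringKrullDim_fibre_atPrime (Q : PrimeSpectrum C) :
    ringKrullDim (Localization.AtPrime Q.asIdeal ⧸
        (Q.asIdeal.under A).map (algebraMap A (Localization.AtPrime Q.asIdeal))) =
      ((DimFormula.fb (Spec.map (CommRingCat.ofHom (algebraMap A C))) Q : ℕ∞) : WithBot ℕ∞) := by
  let φ := CommRingCat.ofHom (algebraMap A C)
  refine Eq.trans ?_ (DimFormula.ringKrullDim_stalk_fibre (Spec.map φ) Q)
  let p := PrimeSpectrum.comap φ.hom Q
  let el : (Spec (CommRingCat.of A)).presheaf.stalk ((Spec.map φ) Q) ≃+* Localization.AtPrime (Q.asIdeal.comap (algebraMap A C)) :=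
    (Spec.stalkIso (CommRingCat.of A) p).commRingCatIsoToRingEquiv
  let er := (Spec.stalkIso (CommRingCat.of C) Q).commRingCatIsoToRingEquiv
  let l : Localization.AtPrime (Q.asIdeal.comap (algebraMap A C)) →+* Localization.AtPrime Q.asIdeal :=
    Localization.localRingHom _ Q.asIdeal (algebraMap A C) rfl
  have hw : ((Spec.map φ).stalkMap Q).hom = er.symm.toRingHom.comp (l.comp el.toRingHom) :=
    congrArg CommRingCat.Hom.hom (Scheme.localRingHom_comp_stalkIso φ Q).symm
  obtain ⟨e₂⟩ := Triage.CMMor.exists_equiv_fibre_stalk (Spec.map φ) Q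
  refine ringKrullDim_eq_of_ringEquiv (RingEquiv.trans (Ideal.quotientEquiv _ _ er.symm ?_) e₂)
  refine map_eq_aux el er l _ hw _ ?_
  show (Q.asIdeal.comap (algebraMap A C)).map (algebraMap A (Localization.AtPrime Q.asIdeal)) =
    Ideal.map l (maximalIdeal (Localization.AtPrime (Q.asIdeal.comap (algebraMap A C))))
  rw [← Localization.AtPrime.map_eq_maximalIdeal, Ideal.map_map]
  congr 1
  exact RingHom.ext fun a => (IsScalarTower.algebraMap_apply A C _ a).trans
    (Localization.localRingHom_to_map _ _ _ rfl a).symm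

/-- Some point of the closed fibre below `Q` has at least the relative degree of a generization. -/
theorem exists_fd_ge {η Q : PrimeSpectrum C} (h : η.asIdeal ≤ Q.asIdeal) :
    ∃ q : PrimeSpectrum C, η.asIdeal ≤ q.asIdeal ∧ q.asIdeal ≤ Q.asIdeal ∧
      q.asIdeal.under A = Q.asIdeal.under A ∧ DimFormula.fd A η.asIdeal ≤ DimFormula.fd A q.asIdeal := by
  obtain ⟨z, h1, h2, h3, h4⟩ := FibDim.exists_rd_ge (Spec.map (CommRingCat.ofHom (algebraMap A C)))
    (η := η) (x := Q) ((PrimeSpectrum.le_iff_specializes η Q).1 h)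
  refine ⟨z, (PrimeSpectrum.le_iff_specializes η z).2 h1, (PrimeSpectrum.le_iff_specializes z Q).2 h2,
    congrArg PrimeSpectrum.asIdeal h3, ?_⟩
  rw [← rd_spec_eq_fd η, ← rd_spec_eq_fd z]
  exact h4

theorem fd_le_fd_add_fb {η Q : PrimeSpectrum C} (h : η.asIdeal ≤ Q.asIdeal) :
    DimFormula.fd A η.asIdeal ≤ DimFormula.fd A Q.asIdeal +
      DimFormula.fb (Spec.map (CommRingCat.ofHom (algebraMap A C))) Q := by
  rw [← rd_spec_eq_fd η, ← rd_spec_eq_fd Q]
  exact DimFormula.rd_le_of_specializes' _ ((PrimeSpectrum.le_iff_specializes η Q).1 h)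

theorem exists_fd_eq_fd_add_fb (Q : PrimeSpectrum C) :
    ∃ q : PrimeSpectrum C, q.asIdeal ≤ Q.asIdeal ∧ q.asIdeal.under A = Q.asIdeal.under A ∧
      DimFormula.fd A q.asIdeal = DimFormula.fd A Q.asIdeal +
        DimFormula.fb (Spec.map (CommRingCat.ofHom (algebraMap A C))) Q := by
  obtain ⟨z, hz, hfz, -, -, he⟩ := DimFormula.exists_fibMax_top (Spec.map (CommRingCat.ofHom (algebraMap A C))) Q
  refine ⟨z, (PrimeSpectrum.le_iff_specializes z Q).2 hz, congrArg PrimeSpectrum.asIdeal hfz, ?_⟩
  rw [← rd_spec_eq_fd z, ← rd_spec_eq_fd Q]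
  exact he

end ring

/-- For a localisation of a finite type algebra which is flat over a local domain, relative degrees in
the closed fibre are bounded by the generic one. -/
theorem fd_le_of_flat {A C : Type u} [CommRing A] [IsDomain A] [IsLocalRing A] [CommRing C] [IsDomain C]
    [Algebra A C] [Algebra.FiniteType A C] [FaithfulSMul A C] (Q : Ideal C) [Q.IsPrime]
    (B : Type u) [CommRing B] [Algebra C B] [IsLocalization.AtPrime B Q] [Algebra A B] [IsScalarTower A C B]
    [Module.Flat A B] (q : Ideal C) [q.IsPrime] (hqQ : q ≤ Q) (hq : q.under A = maximalIdeal A) :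
    DimFormula.fd A q ≤ DimFormula.fd A (⊥ : Ideal C) := by
  obtain ⟨V, hV, hloc⟩ := IsLocalRing.exists_factor_valuationRing (algebraMap A (FractionRing A))
  letI : Algebra A V := ((algebraMap A (FractionRing A)).codRestrict V.toSubring hV).toAlgebra
  have hAV : Function.Injective (algebraMap A V) := fun a b hab =>
    IsFractionRing.injective A (FractionRing A) (congrArg Subtype.val hab)
  haveI : IsLocalHom (algebraMap A V) := hloc
  have hmV : (maximalIdeal V).under A = q.under A := by
    rw [hq]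
    exact maximalIdeal_comap (algebraMap A V)
  obtain ⟨t, ht⟩ := (DimFormula.le_fd_iff A q _).1 le_rfl
  obtain ⟨Q', hQ'p, hQ'V, hQ'q, ht'⟩ := FibDim.exists_indepMod_baseChange (A' := V) q ht (maximalIdeal V) hmV
  haveI := hQ'p
  -- the point of `V ⊗ B` over `Q'`
  let L := Q'.ResidueField
  have hC0 : ∀ s : Q.primeCompl, IsUnit (((algebraMap (V ⊗[A] C) L).comp
      (Algebra.TensorProduct.includeRight (R := A) (A := V) (B := C)).toRingHom) s) := fun s => by
    refine Ne.isUnit fun h => s.2 (hqQ ?_)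
    rw [← hQ'q, Ideal.mem_comap]
    exact (Ideal.algebraMap_residueField_eq_zero (I := Q')).1 h
  let φB : B →+* L := IsLocalization.lift hC0
  let φBa : B →ₐ[A] L :=
    { φB with
      commutes' := fun a => by
        show φB (algebraMap A B a) = _
        rw [IsScalarTower.algebraMap_apply A C B, IsLocalization.lift_eq]
        show algebraMap (V ⊗[A] C) L (Algebra.TensorProduct.includeRight (algebraMap A C a)) = _
        rw [AlgHom.commutes, ← IsScalarTower.algebraMap_apply] }
  let φV : V →ₐ[A] L := IsScalarTower.toAlgHom A V L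
  let Φ : V ⊗[A] B →ₐ[A] L := Algebra.TensorProduct.lift φV φBa fun _ _ => .all _ _
  let η : V ⊗[A] C →ₐ[V] V ⊗[A] B :=
    Algebra.TensorProduct.map (AlgHom.id V V) (IsScalarTower.toAlgHom A C B)
  have hη : ∀ z, Φ (η z) = algebraMap (V ⊗[A] C) L z := fun z => by
    induction z using TensorProduct.induction_on with
    | zero => simp
    | add z₁ z₂ h₁ h₂ => rw [map_add, map_add, h₁, h₂, map_add]
    | tmul v c =>
      show Φ (η (v ⊗ₜ c)) = _
      rw [Algebra.TensorProduct.map_tmul, AlgHom.id_apply, Algebra.TensorProduct.lift_tmul]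
      have h1 : φBa (IsScalarTower.toAlgHom A C B c) = algebraMap (V ⊗[A] C) L ((1 : V) ⊗ₜ c) :=
        IsLocalization.lift_eq hC0 c
      rw [h1, show v ⊗ₜ[A] c = algebraMap V (V ⊗[A] C) v * ((1 : V) ⊗ₜ c) by
        rw [Algebra.TensorProduct.algebraMap_apply, Algebra.TensorProduct.tmul_mul_tmul, one_mul, mul_one]; rfl,
        map_mul, ← IsScalarTower.algebraMap_apply]
      rfl
  let Q'' : Ideal (V ⊗[A] B) := RingHom.ker Φ.toRingHom
  haveI : Q''.IsPrime := RingHom.ker_isPrime _
  have hQ''C : Q''.comap η.toRingHom = Q' := by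
    ext z
    show Φ (η z) = 0 ↔ _
    rw [hη, Ideal.algebraMap_residueField_eq_zero]
  have hQ''V : Q''.under V = maximalIdeal V := by
    rw [← hQ'V, ← hQ''C]
    ext v
    show algebraMap V (V ⊗[A] B) v ∈ Q'' ↔ η (algebraMap V _ v) ∈ Q''
    rw [η.commutes]
  haveI : Q''.LiesOver (maximalIdeal V) := ⟨hQ''V.symm⟩
  obtain ⟨R, hRle, hRp, hRo⟩ := Ideal.exists_ideal_le_liesOver_of_le (R := V) (S := V ⊗[A] B)
    (p := (⊥ : Ideal V)) (q := maximalIdeal V) Q'' bot_le
  haveI := hRp
  let R₀ := R.comap η.toRingHom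
  have hR₀Q : R₀ ≤ Q' := hQ''C ▸ Ideal.comap_mono hRle
  have hR₀V : R₀.under V = ⊥ := by
    rw [hRo.over]
    ext v
    show η (algebraMap V _ v) ∈ R ↔ algebraMap V (V ⊗[A] B) v ∈ R
    rw [η.commutes]
  have hind := FibDim.indepMod_of_valuationRing hR₀Q hR₀V ht'
  refine (DimFormula.le_fd_iff A (⊥ : Ideal C) _).2 ⟨t, fun G hG => ?_⟩
  have hbot : (⊥ : Ideal C).under A = ⊥ :=
    (RingHom.ker_eq_comap_bot _).symm.trans
      ((RingHom.injective_iff_ker_eq_bot _).1 (FaithfulSMul.algebraMap_injective A C))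
  rw [hbot, Ideal.map_bot, Ideal.mem_bot]
  rw [Ideal.mem_bot] at hG
  have h1 : MvPolynomial.aeval (fun i => (1 : V) ⊗ₜ[A] t i) (MvPolynomial.map (algebraMap A V) G) ∈ R₀ := by
    rw [MvPolynomial.aeval_map_algebraMap]
    have h2 := MvPolynomial.comp_aeval_apply t
      (Algebra.TensorProduct.includeRight (R := A) (A := V) (B := C)) G
    rw [hG, map_zero] at h2
    exact h2 ▸ R₀.zero_mem
  have h3 := hind _ h1
  rw [hR₀V, Ideal.map_bot, Ideal.mem_bot] at h3
  exact MvPolynomial.map_injective _ hAV (h3.trans (map_zero _).symm)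

end Groth.Agent.FlatB12
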