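import Groth.Agent.CohH33.FiniteExtend
import Mathlib.AlgebraicGeometry.IdealSheaf.Functorial
import Mathlib.AlgebraicGeometry.Limits

/-! A finite morphism onto a quasi-compact open of a qcqs scheme extends to a finite morphism. -/

set_option autoImplicit false
universe u
open CategoryTheory Limits AlgebraicGeometry TopologicalSpace

namespace Groth.Agent.FlatB12

lemma finite_extend_affine {A D N : Scheme.{u}} [IsAffine A] (d : D ⟶ A) [IsOpenImmersion d]
    [CompactSpace ↥D] (g : N ⟶ D) [IsFinite g] :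
    ∃ (M : Scheme.{u}) (q : M ⟶ A) (i : N ⟶ M), IsFinite q ∧ IsOpenImmersion i ∧ IsPullback i g q d := by
  haveI : IsFinite (g ≫ d.isoOpensRange.hom) := inferInstance
  have hc : IsCompact (d.opensRange : Set A) := isCompact_range d.continuous
  obtain ⟨B, _, _, i, hB, hi⟩ := CohH33.exists_finite_extend hc (g ≫ d.isoOpensRange.hom)
  haveI : IsFinite (Spec.map (CommRingCat.ofHom (algebraMap Γ(A, ⊤) B))) := by
    rw [IsFinite.SpecMap_iff]
    exact RingHom.finite_algebraMap.mpr hB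
  have hp : IsPullback i g (Spec.map (CommRingCat.ofHom (algebraMap Γ(A, ⊤) B)) ≫ A.isoSpec.inv) d :=
    hi.of_iso (Iso.refl _) (Iso.refl _) d.isoOpensRange.symm (Iso.refl _) (by simp) (by simp) (by simp)
      (by simp)
  exact ⟨_, _, i, inferInstance, MorphismProperty.of_isPullback hp.flip inferInstance, hp⟩

instance pushout_inl_open {W Y₁ Y₂ : Scheme.{u}} (g₁ : W ⟶ Y₁) (g₂ : W ⟶ Y₂) [IsOpenImmersion g₁]
    [IsOpenImmersion g₂] : IsOpenImmersion (pushout.inl g₁ g₂) :=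
  inferInstanceAs (IsOpenImmersion (colimit.ι _ _))

instance pushout_inr_open {W Y₁ Y₂ : Scheme.{u}} (g₁ : W ⟶ Y₁) (g₂ : W ⟶ Y₂) [IsOpenImmersion g₁]
    [IsOpenImmersion g₂] : IsOpenImmersion (pushout.inr g₁ g₂) :=
  inferInstanceAs (IsOpenImmersion (colimit.ι _ _))

lemma pushout_cover {W Y₁ Y₂ : Scheme.{u}} (g₁ : W ⟶ Y₁) (g₂ : W ⟶ Y₂) [IsOpenImmersion g₁]
    [IsOpenImmersion g₂] (x : ↥(pushout g₁ g₂)) :
    x ∈ Set.range (pushout.inl g₁ g₂) ∨ x ∈ Set.range (pushout.inr g₁ g₂) := by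
  obtain ⟨i, y, rfl⟩ := Scheme.IsLocallyDirected.ι_jointly_surjective (span g₁ g₂) x
  rcases i with _ | (_ | _)
  · refine Or.inl ⟨g₁ y, ?_⟩
    rw [← colimit.w (span g₁ g₂) WalkingSpan.Hom.fst]
    rfl
  · exact Or.inl ⟨y, rfl⟩
  · exact Or.inr ⟨y, rfl⟩

lemma finite_of_two {P Y Y₁ Y₂ X₁ X₂ : Scheme.{u}} (π : P ⟶ Y) (f₁ : Y₁ ⟶ Y) (f₂ : Y₂ ⟶ Y)
    [IsOpenImmersion f₁] [IsOpenImmersion f₂] (hcov : ∀ y : Y, y ∈ Set.range f₁ ∨ y ∈ Set.range f₂)
    {t₁ : X₁ ⟶ P} {π₁ : X₁ ⟶ Y₁} (h₁ : IsPullback t₁ π₁ π f₁) [IsFinite π₁]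
    {t₂ : X₂ ⟶ P} {π₂ : X₂ ⟶ Y₂} (h₂ : IsPullback t₂ π₂ π f₂) [IsFinite π₂] : IsFinite π := by
  haveI : MorphismProperty.RespectsIso (@IsFinite.{u}) :=
    MorphismProperty.IsStableUnderBaseChange.respectsIso
  have key : ∀ {Z X : Scheme.{u}} (f : Z ⟶ Y) [IsOpenImmersion f] {t : X ⟶ P} {p : X ⟶ Z},
      IsPullback t p π f → IsFinite p → IsFinite (π ∣_ f.opensRange) := by
    intro Z X f _ t p h hp
    rw [MorphismProperty.arrow_mk_iso_iff (@IsFinite.{u}) (morphismRestrictOpensRange π f),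
      ← MorphismProperty.cancel_left_of_respectsIso (@IsFinite.{u}) h.isoPullback.hom, h.isoPullback_hom_snd]
    exact hp
  refine (IsZariskiLocalAtTarget.iff_of_iSup_eq_top (P := @IsFinite.{u})
    (fun b : Bool => cond b f₁.opensRange f₂.opensRange) (top_unique fun y _ => ?_)).2 fun b => ?_
  · exact Opens.mem_iSup.2 ((hcov y).elim (fun h => ⟨true, h⟩) fun h => ⟨false, h⟩)
  · cases b
    · exact key f₂ h₂ inferInstance
    · exact key f₁ h₁ inferInstance

/-- Extending a finite morphism over one more affine open. -/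
lemma finite_extend_step {S N : Scheme.{u}} [QuasiSeparatedSpace ↥S] (W A : S.Opens)
    (hW : IsCompact (W : Set S)) (hA : IsAffineOpen A) (π : N ⟶ (W : Scheme.{u})) [IsFinite π] :
    ∃ (N' : Scheme.{u}) (π' : N' ⟶ ((W ⊔ A : S.Opens) : Scheme.{u})) (i : N ⟶ N'),
      IsFinite π' ∧ IsPullback i π π' (S.homOfLE le_sup_left) := by
  haveI : IsAffine A := hA
  haveI : CompactSpace ↥((W ⊓ A : S.Opens) : Scheme.{u}) := isCompact_iff_compactSpace.1
    (QuasiSeparatedSpace.inter_isCompact _ _ W.2 hW A.2 hA.isCompact)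
  let d₁ := S.homOfLE (inf_le_left : W ⊓ A ≤ W)
  let d₂ := S.homOfLE (inf_le_right : W ⊓ A ≤ A)
  let g := pullback.snd π d₁
  obtain ⟨M, q, j₂, hq, hj₂, hM⟩ := finite_extend_affine d₂ g
  let j₁ := pullback.fst π d₁
  haveI : IsOpenImmersion j₁ := inferInstance
  let wW := S.homOfLE (le_sup_left : W ≤ W ⊔ A)
  let wA := S.homOfLE (le_sup_right : A ≤ W ⊔ A)
  have hcomm : j₁ ≫ π ≫ wW = j₂ ≫ q ≫ wA := by
    rw [pullback.condition_assoc, hM.w_assoc]
    congr 1
    simp [d₁, d₂, wW, wA]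
  let P := pushout j₁ j₂
  let π' : P ⟶ _ := pushout.desc (π ≫ wW) (q ≫ wA) hcomm
  have hl : pushout.inl j₁ j₂ ≫ π' = π ≫ wW := pushout.inl_desc _ _ _
  have hr : pushout.inr j₁ j₂ ≫ π' = q ≫ wA := pushout.inr_desc _ _ _
  have el : ∀ n, (π' (pushout.inl j₁ j₂ n)).1 = (π n).1 := fun n => by
    rw [← Scheme.Hom.comp_apply, hl, Scheme.Hom.comp_apply, Scheme.homOfLE_apply]
  have er : ∀ m, (π' (pushout.inr j₁ j₂ m)).1 = (q m).1 := fun m => by
    rw [← Scheme.Hom.comp_apply, hr, Scheme.Hom.comp_apply, Scheme.homOfLE_apply]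
  have hcross : ∀ z : ↥(pullback π d₁), pushout.inl j₁ j₂ (j₁ z) = pushout.inr j₁ j₂ (j₂ z) := fun z => by
    rw [← Scheme.Hom.comp_apply, ← Scheme.Hom.comp_apply, pushout.condition]
  have hpW : IsPullback (pushout.inl j₁ j₂) π π' wW := by
    refine (IsOpenImmersion.isPullback π (pushout.inl j₁ j₂) wW π' hl ?_).flip
    refine Opens.ext (Set.ext fun z => ⟨?_, fun hz => ?_⟩)
    · rintro ⟨w, hw⟩
      rcases pushout_cover j₁ j₂ z with h | ⟨m, rfl⟩
      · exact h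
      · have hm : (q m).1 ∈ W := by
          rw [← er m, ← hw, Scheme.homOfLE_apply]
          exact w.2
        obtain ⟨z, hz, -⟩ := Scheme.exists_preimage_of_isPullback hM m ⟨(q m).1, hm, (q m).2⟩
          (Subtype.ext (by rw [Scheme.homOfLE_apply]))
        exact ⟨j₁ z, by rw [hcross, hz]⟩
    · obtain ⟨n, rfl⟩ := hz
      exact ⟨π n, by rw [← Scheme.Hom.comp_apply, ← hl, Scheme.Hom.comp_apply]⟩
  have hpA : IsPullback (pushout.inr j₁ j₂) q π' wA := by
    refine (IsOpenImmersion.isPullback q (pushout.inr j₁ j₂) wA π' hr ?_).flip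
    refine Opens.ext (Set.ext fun z => ⟨?_, fun hz => ?_⟩)
    · rintro ⟨w, hw⟩
      rcases pushout_cover j₁ j₂ z with ⟨n, rfl⟩ | h
      · have hn : (π n).1 ∈ A := by
          rw [← el n, ← hw, Scheme.homOfLE_apply]
          exact w.2
        obtain ⟨z, hz, -⟩ := Scheme.exists_preimage_of_isPullback (IsPullback.of_hasPullback π d₁) n
          ⟨(π n).1, (π n).2, hn⟩ (Subtype.ext (by rw [Scheme.homOfLE_apply]))
        exact ⟨j₂ z, by rw [← hcross, hz]⟩
      · exact h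
    · obtain ⟨n, rfl⟩ := hz
      exact ⟨q n, by rw [← Scheme.Hom.comp_apply, ← hr, Scheme.Hom.comp_apply]⟩
  refine ⟨P, π', _, finite_of_two π' wW wA (fun y => ?_) hpW hpA, hpW⟩
  rcases (show y.1 ∈ W ∨ y.1 ∈ A from y.2) with h | h
  · exact Or.inl ⟨⟨y.1, h⟩, Subtype.ext (Scheme.homOfLE_apply _ _)⟩
  · exact Or.inr ⟨⟨y.1, h⟩, Subtype.ext (Scheme.homOfLE_apply _ _)⟩

/-- A finite morphism to a quasi-compact open of a qcqs scheme extends to a finite morphism. -/
theorem finite_extend_qcqs {S V : Scheme.{u}} [CompactSpace ↥S] [QuasiSeparatedSpace ↥S] (U : S.Opens)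
    (hU : IsCompact (U : Set S)) (v : V ⟶ (U : Scheme.{u})) [IsFinite v] :
    ∃ (N : Scheme.{u}) (π : N ⟶ S) (i : V ⟶ N), IsFinite π ∧ IsPullback i v π U.ι := by
  obtain ⟨t, ht⟩ := (isCompact_univ : IsCompact (Set.univ : Set S)).elim_finite_subcover
    (fun a : S.affineOpens => ((a : S.Opens) : Set S)) (fun a => (a : S.Opens).2)
    (fun x _ => by
      obtain ⟨W, hW, hxW, -⟩ := exists_isAffineOpen_mem_and_subset (X := S) (x := x) (U := ⊤) trivial
      exact Set.mem_iUnion.2 ⟨⟨W, hW⟩, hxW⟩)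
  classical
  suffices H : ∀ s : Finset S.affineOpens, ∃ (W : S.Opens) (_ : IsCompact (W : Set S)) (hUW : U ≤ W)
      (_ : ∀ a ∈ s, (a : S.Opens) ≤ W) (N : Scheme.{u}) (π : N ⟶ (W : Scheme.{u})) (i : V ⟶ N),
      IsFinite π ∧ IsPullback i v π (S.homOfLE hUW) by
    obtain ⟨W, -, hUW, hsW, N, π, i, hπ, hi⟩ := H t
    have hW : W = ⊤ := top_unique fun x _ => by
      obtain ⟨a, ha, hxa⟩ := Set.mem_iUnion₂.1 (ht (Set.mem_univ x))
      exact hsW a ha hxa
    subst hW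
    haveI : IsIso (⊤ : S.Opens).ι := by
      rw [← Scheme.topIso_hom]; infer_instance
    refine ⟨N, π ≫ (⊤ : S.Opens).ι, i, inferInstance, ?_⟩
    have := hi.paste_vert (IsPullback.of_vert_isIso (fst := S.homOfLE hUW) (snd := 𝟙 _)
      (f := (⊤ : S.Opens).ι) (g := U.ι) ⟨by simp⟩)
    simpa using this
  intro s
  induction s using Finset.induction with
  | empty =>
    refine ⟨U, hU, le_rfl, by simp, V, v, 𝟙 _, inferInstance, ?_⟩
    simpa using IsPullback.of_id_fst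
  | @insert a s _ ih =>
    obtain ⟨W, hW, hUW, hsW, N, π, i, hπ, hi⟩ := ih
    obtain ⟨N', π', j, hπ', hj⟩ := finite_extend_step W a.1 hW a.2 π
    refine ⟨W ⊔ a.1, ?_, hUW.trans le_sup_left, ?_, N', π', i ≫ j, hπ', ?_⟩
    · rw [Opens.coe_sup]
      exact hW.union a.2.isCompact
    · intro b hb
      rcases Finset.mem_insert.1 hb with rfl | hb
      · exact le_sup_right
      · exact (hsW b hb).trans le_sup_left
    · simpa using hi.paste_horiz hj

/-- Surjective version: add the reduced complement. -/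
theorem finite_surjective_extend_qcqs {S V : Scheme.{u}} [CompactSpace ↥S] [QuasiSeparatedSpace ↥S]
    (U : S.Opens) (hU : IsCompact (U : Set S)) (v : V ⟶ (U : Scheme.{u})) [IsFinite v] [Surjective v] :
    ∃ (V' : Scheme.{u}) (π : V' ⟶ S) (i : V ⟶ V'), Surjective π ∧ IsFinite π ∧ IsPullback i v π U.ι := by
  obtain ⟨N, p, k, hp, hk⟩ := finite_extend_qcqs U hU v
  haveI : IsOpenImmersion k := MorphismProperty.of_isPullback hk.flip inferInstance
  let Z := (Scheme.IdealSheafData.vanishingIdeal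
    (⟨(U : Set S)ᶜ, U.2.isClosed_compl⟩ : TopologicalSpace.Closeds S))
  let π : N ⨿ Z.subscheme ⟶ S := coprod.desc p Z.subschemeι
  have hinl : ∀ y, π ((coprod.inl : _ ⟶ N ⨿ Z.subscheme) y) = p y := fun y => by
    rw [← Scheme.Hom.comp_apply, coprod.inl_desc]
  have hinr : ∀ y, π ((coprod.inr : _ ⟶ N ⨿ Z.subscheme) y) = Z.subschemeι y := fun y => by
    rw [← Scheme.Hom.comp_apply, coprod.inr_desc]
  have hZ : Set.range Z.subschemeι = (U : Set S)ᶜ := by
    rw [Scheme.IdealSheafData.range_subschemeι, Scheme.IdealSheafData.coe_support_vanishingIdeal]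
    rfl
  refine ⟨_, π, k ≫ coprod.inl, ⟨fun s => ?_⟩, inferInstance,
    (IsOpenImmersion.isPullback v (k ≫ coprod.inl) U.ι π ?_ ?_).flip⟩
  · by_cases hs : s ∈ U
    · obtain ⟨w, hw⟩ := v.surjective ⟨s, hs⟩
      exact ⟨_, (hinl (k w)).trans (by rw [← Scheme.Hom.comp_apply, hk.w, Scheme.Hom.comp_apply, hw]; rfl)⟩
    · obtain ⟨y, hy⟩ : s ∈ Set.range Z.subschemeι := by rw [hZ]; exact hs
      exact ⟨_, (hinr y).trans hy⟩
  · rw [Category.assoc, coprod.inl_desc, hk.w]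
  · rw [Scheme.Opens.opensRange_ι]
    refine Opens.ext (Set.ext fun z => ?_)
    change π z ∈ U ↔ z ∈ Set.range (k ≫ coprod.inl)
    constructor
    · intro hz
      rcases (Set.eq_univ_iff_forall.1 (isCompl_range_inl_inr N Z.subscheme).sup_eq_top z) with ⟨y, rfl⟩ | ⟨y, rfl⟩
      · rw [hinl] at hz
        obtain ⟨w, hw, -⟩ := Scheme.exists_preimage_of_isPullback hk y ⟨_, hz⟩ rfl
        exact ⟨w, by rw [Scheme.Hom.comp_apply, hw]⟩
      · rw [hinr] at hz
        exact absurd hz (show Z.subschemeι y ∈ (U : Set S)ᶜ from hZ ▸ ⟨y, rfl⟩)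
    · rintro ⟨w, rfl⟩
      rw [Scheme.Hom.comp_apply, hinl, ← Scheme.Hom.comp_apply, hk.w, Scheme.Hom.comp_apply]
      exact (v w).2

end Groth.Agent.FlatB12
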