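import Groth.Agent.GenFree.Basic
import Groth.Agent.FlatLoc6.GenFlat

/-! # Generic freeness of the cokernel of a map of modules along a ring map (Hochster–Roberts) -/

universe u

namespace Groth.Agent.FlatB12.GenFreeCoker

open Groth.Agent.GenFree

variable {R A : Type u} [CommRing R] [IsDomain R] [IsNoetherianRing R] [CommRing A] [Algebra R A]
  [Algebra.FiniteType R A]

theorem exists_gfree_quot (n : ℕ) :
    ∀ (N : Type u) [AddCommGroup N] [Module (MvPolynomial (Fin n) A) N] [Module A N] [Module R N]
      [IsScalarTower A (MvPolynomial (Fin n) A) N] [IsScalarTower R A N]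
      [Module.Finite (MvPolynomial (Fin n) A) N] (U : Submodule A N), U.FG →
      ∃ f : R, f ≠ 0 ∧ GFree R f (N ⧸ U.restrictScalars R) := by
  classical
  induction n with
  | zero =>
    intro N _ _ _ _ _ _ _ U _
    have : Module.Finite A (MvPolynomial (Fin 0) A) :=
      Module.Finite.equiv (MvPolynomial.isEmptyAlgEquiv A (Fin 0)).toLinearEquiv.symm
    have : Module.Finite A N := Module.Finite.trans (MvPolynomial (Fin 0) A) N
    exact exists_gfree (R := R) (M := N ⧸ U) A
  | succ n ih =>
    intro N _ _ _ _ _ _ _ U hU
    let ρ : MvPolynomial (Fin n) A →ₐ[A] MvPolynomial (Fin (n + 1)) A := MvPolynomial.rename Fin.succ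
    let := ρ.toRingHom.toAlgebra
    let := Module.compHom N ρ.toRingHom
    have hA : IsScalarTower A (MvPolynomial (Fin n) A) N := ⟨fun r p m => by
      show ρ (r • p) • m = r • ρ p • m
      rw [map_smul, smul_assoc]⟩
    have : IsScalarTower R (MvPolynomial (Fin n) A) N := ⟨fun r p m => by
      rw [algebra_compatible_smul A r p, smul_assoc, algebraMap_smul]⟩
    have : Algebra.FiniteType R (MvPolynomial (Fin n) A) :=
      Algebra.FiniteType.trans (S := A) ‹_› inferInstance
    have : IsNoetherianRing (MvPolynomial (Fin n) A) := Algebra.FiniteType.isNoetherianRing R _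
    let x : N →ₗ[MvPolynomial (Fin n) A] N :=
      { toFun := fun m => (MvPolynomial.X 0 : MvPolynomial (Fin (n + 1)) A) • m
        map_add' := smul_add _
        map_smul' := fun p m => smul_comm _ (ρ p) m }
    obtain ⟨s, hs⟩ := Module.Finite.fg_top (R := MvPolynomial (Fin (n + 1)) A) (M := N)
    obtain ⟨t, ht⟩ := hU
    let M0 : Submodule (MvPolynomial (Fin n) A) N := Submodule.span _ ((s ∪ t : Finset N) : Set N)
    have hM0 : Module.Finite (MvPolynomial (Fin n) A) M0 := Module.Finite.iff_fg.2 ⟨s ∪ t, rfl⟩
    have hUM0 : ∀ y ∈ U, y ∈ M0 := by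
      have : U ≤ M0.restrictScalars A := by
        rw [← ht, Submodule.span_le]
        exact fun y hy => Submodule.subset_span (Finset.mem_union_right s hy)
      exact this
    let T := ⨆ i, M0.map (x ^ i)
    have hxT : ∀ m ∈ T, x m ∈ T := by
      intro m hm
      refine (show T.map x ≤ T from ?_) (Submodule.mem_map_of_mem hm)
      rw [Submodule.map_iSup]
      refine iSup_le fun i => ?_
      rw [← Submodule.map_comp]
      exact le_iSup_of_le (i + 1) (le_of_eq (by rw [pow_succ']; rfl))
    have hmul : ∀ (p : MvPolynomial (Fin (n + 1)) A), ∀ m ∈ T, p • m ∈ T := by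
      intro p
      induction p using MvPolynomial.induction_on with
      | C r =>
        intro m hm
        have : (MvPolynomial.C r : MvPolynomial (Fin (n + 1)) A) • m =
            (MvPolynomial.C r : MvPolynomial (Fin n) A) • m :=
          congrArg (· • m) (MvPolynomial.rename_C _ r).symm
        exact this ▸ Submodule.smul_mem _ _ hm
      | add p q hp hq => intro m hm; rw [add_smul]; exact add_mem (hp m hm) (hq m hm)
      | mul_X p i hp =>
        intro m hm
        rw [mul_smul]
        refine hp _ ?_
        induction i using Fin.cases with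
        | zero => exact hxT m hm
        | succ i =>
          have : (MvPolynomial.X i.succ : MvPolynomial (Fin (n + 1)) A) • m =
              (MvPolynomial.X i : MvPolynomial (Fin n) A) • m :=
            congrArg (· • m) (MvPolynomial.rename_X _ i).symm
          exact this ▸ Submodule.smul_mem _ _ hm
    let T' : Submodule (MvPolynomial (Fin (n + 1)) A) N := { T.toAddSubmonoid with smul_mem' := hmul }
    have hTtop : ∀ m : N, m ∈ T := fun m =>
      (show (⊤ : Submodule (MvPolynomial (Fin (n + 1)) A) N) ≤ T' from hs ▸ Submodule.span_le.2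
        fun y hy => le_iSup (fun i => M0.map (x ^ i)) 0
          ⟨y, Submodule.subset_span (Finset.mem_union_left t hy), rfl⟩) (Submodule.mem_top (x := m))
    let F : ℕ → Submodule (MvPolynomial (Fin n) A) N := fun d => ⨆ i ∈ Finset.range d, M0.map (x ^ i)
    let e : ℕ → M0 →ₗ[MvPolynomial (Fin n) A] N := fun d => (x ^ d) ∘ₗ M0.subtype
    let K : ℕ → Submodule (MvPolynomial (Fin n) A) M0 := fun d => (F d).comap (e d)
    have hFmono : Monotone F := fun a b hab => biSup_mono fun i hi =>
      Finset.mem_range.2 (lt_of_lt_of_le (Finset.mem_range.1 hi) hab)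
    have hFsucc : ∀ d, F (d + 1) = F d ⊔ LinearMap.range (e d) := fun d => by
      simp only [F, e, LinearMap.range_comp, Submodule.range_subtype]
      rw [Finset.range_add_one, Finset.iSup_insert, sup_comm]
    have hxF : ∀ d, (F d).map x ≤ F (d + 1) := by
      intro d
      simp only [F, Submodule.map_iSup]
      refine iSup₂_le fun i hi => ?_
      rw [← Submodule.map_comp]
      exact le_iSup₂_of_le (i + 1) (by simpa using hi) (le_of_eq (by rw [pow_succ']; rfl))
    have hKmono : Monotone K := monotone_nat_of_le_succ fun d y hy => by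
      have := hxF d (Submodule.mem_map_of_mem hy)
      simpa [K, e, pow_succ'] using this
    obtain ⟨D, hD⟩ := monotone_stabilizes_iff_noetherian.2
      (inferInstance : IsNoetherian (MvPolynomial (Fin n) A) M0) ⟨K, hKmono⟩
    choose g hg0 hg using fun d => exists_gfree (R := R) (M := M0 ⧸ K d) (MvPolynomial (Fin n) A)
    let U0 : Submodule A M0 := U.comap (M0.subtype.restrictScalars A)
    have hU0 : U0.FG := by
      refine Submodule.fg_of_fg_map_injective (M0.subtype.restrictScalars A) Subtype.val_injective ?_
      rw [Submodule.map_comap_eq_of_le (fun y hy => ⟨⟨y, hUM0 y hy⟩, rfl⟩)]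
      exact ⟨t, ht⟩
    obtain ⟨g₀, hg₀, hgU⟩ := ih M0 U0 hU0
    let f : R := g₀ * ∏ d ∈ Finset.range (D + 1), g d
    refine ⟨f, mul_ne_zero hg₀ (Finset.prod_ne_zero_iff.2 fun d _ => hg0 d), ?_⟩
    let q : N →ₗ[R] N ⧸ U.restrictScalars R := (U.restrictScalars R).mkQ
    have hUF : ∀ d, 1 ≤ d → U.restrictScalars R ≤ (F d).restrictScalars R := fun d hd y hy =>
      le_iSup₂ (f := fun i (_ : i ∈ Finset.range d) => M0.map (x ^ i)) 0 (Finset.mem_range.2 hd)
        ⟨y, hUM0 y hy, rfl⟩
    let K' : ℕ → Submodule R M0 := fun d =>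
      if d = 0 then U0.restrictScalars R else (K d).restrictScalars R
    have hK' : ∀ d (y : M0), y ∈ K' d ↔ q (e d y) ∈ ((F d).restrictScalars R).map q := by
      intro d y
      rcases Nat.eq_zero_or_pos d with rfl | hd
      · rw [show ((F 0).restrictScalars R).map q = ⊥ by simp [F], Submodule.mem_bot]
        show y ∈ U0.restrictScalars R ↔ Submodule.Quotient.mk (e 0 y) = 0
        rw [Submodule.Quotient.mk_eq_zero]
        rfl
      · rw [show K' d = (K d).restrictScalars R from if_neg (by omega),
          ← Submodule.mem_comap, Submodule.comap_map_mkQ, sup_eq_right.2 (hUF d hd)]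
        rfl
    have hgf : ∀ d, GFree R f (M0 ⧸ K' d) := fun d => by
      rcases Nat.eq_zero_or_pos d with rfl | hd
      · exact hgU.of_dvd (dvd_mul_right _ _)
      · rw [show K' d = (K d).restrictScalars R from if_neg (by omega)]
        have hle : ∀ d ≤ D, GFree R f (M0 ⧸ (K d).restrictScalars R) := fun d hd =>
          (hg d).of_dvd ((Finset.dvd_prod_of_mem g (by simpa using Nat.lt_succ_of_le hd)).trans
            (dvd_mul_left _ _))
        rcases le_or_gt d D with h | h
        · exact hle d h
        · have hK : K D = K d := hD d h.le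
          exact hK ▸ hle D le_rfl
    refine gfree_of_filtration (fun d => ((F d).restrictScalars R).map q) ?_ ?_ ?_
      (fun d => q ∘ₗ (e d).restrictScalars R) ?_ K' hK' hgf
    · simp [F]
    · exact fun d => Submodule.map_mono (fun y hy => hFmono (Nat.le_succ d) hy)
    · intro m
      obtain ⟨m, rfl⟩ := (U.restrictScalars R).mkQ_surjective m
      obtain ⟨v, hv⟩ := Submodule.mem_iSup_iff_exists_finset.1 (hTtop m)
      refine ⟨v.sup id + 1, m, ?_, rfl⟩
      exact (show (⨆ i ∈ v, M0.map (x ^ i)) ≤ F (v.sup id + 1) from biSup_mono fun i hi => by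
        simp only [Finset.mem_range]; exact Nat.lt_succ_of_le (Finset.le_sup (f := id) hi)) hv
    · intro d
      rw [hFsucc, Submodule.restrictScalars_sup, Submodule.map_sup]
      congr 1
      ext z
      simp

theorem exists_localization_flat {B M N : Type u} [CommRing B] [Algebra A B] [Algebra.FiniteType A B]
    [AddCommGroup M] [Module A M] [Module.Finite A M] [AddCommGroup N] [Module B N] [Module A N]
    [Module R N] [IsScalarTower A B N] [IsScalarTower R A N] [Module.Finite B N] (u : M →ₗ[A] N) :
    ∃ f : R, f ≠ 0 ∧ Module.Flat (Localization.Away f)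
      (LocalizedModule (Submonoid.powers f) (N ⧸ (LinearMap.range u).restrictScalars R)) := by
  obtain ⟨n, φ, hφ⟩ := Algebra.FiniteType.iff_quotient_mvPolynomial''.1 (‹Algebra.FiniteType A B›)
  let := φ.toRingHom.toAlgebra
  let := Module.compHom N φ.toRingHom
  have : IsScalarTower A (MvPolynomial (Fin n) A) N := ⟨fun r p m => by
    show φ (r • p) • m = r • φ p • m
    rw [map_smul, smul_assoc]⟩
  have : IsScalarTower (MvPolynomial (Fin n) A) B N := ⟨fun p s m => mul_smul (φ p) s m⟩
  have : Module.Finite (MvPolynomial (Fin n) A) B :=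
    Module.Finite.of_surjective (Algebra.linearMap (MvPolynomial (Fin n) A) B) hφ
  have : Module.Finite (MvPolynomial (Fin n) A) N := Module.Finite.trans B N
  obtain ⟨f, hf, hg⟩ := exists_gfree_quot (R := R) n N (LinearMap.range u)
    (LinearMap.range_eq_map u ▸ Module.Finite.fg_top.map u)
  refine ⟨f, hf, ?_⟩
  let Q := N ⧸ (LinearMap.range u).restrictScalars R
  have : Module.Flat R (LocalizedModule (Submonoid.powers f) Q) :=
    FlatLoc6.flat_of_gfree (Submonoid.powers f) (LocalizedModule.mkLinearMap _ Q)
      (by simpa using Submonoid.mem_powers f) hg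
  exact (Module.flat_iff_of_isLocalization (Localization.Away f) (Submonoid.powers f)
    (LocalizedModule (Submonoid.powers f) Q)).2 this

end Groth.Agent.FlatB12.GenFreeCoker
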