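import Groth.Agent.EtPBC63.Conn.Main
import Groth.Agent.HTop74.PhExt
import Mathlib.AlgebraicGeometry.ZariskisMainTheorem

/-!
# Clopen proper parts of the closed fibre lift over henselian pairs
-/

set_option autoImplicit false
set_option linter.style.haveILetI false

universe u

open CategoryTheory CategoryTheory.Limits AlgebraicGeometry Topology

namespace Groth.Agent.FlatB12

variable {A : Type u} [CommRing A] (I : Ideal A) [HenselianRing A I]

/-- A nonempty closed subset of the spectrum meets `V(I)`. -/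
theorem exists_mem_zeroLocus {s : Set (PrimeSpectrum A)} (hs : IsClosed s) (hne : s.Nonempty) :
    ∃ p ∈ s, p ∈ PrimeSpectrum.zeroLocus (I : Set A) := by
  obtain ⟨q, hq⟩ := hne
  obtain ⟨m, hm, hle⟩ := Ideal.exists_le_maximal q.asIdeal q.isPrime.ne_top
  exact ⟨⟨m, hm.isPrime⟩, hs.stableUnderSpecialization ((PrimeSpectrum.le_iff_specializes q _).1 hle) hq,
    (HenselianRing.jac (I := I)).trans (sInf_le ⟨bot_le, hm⟩)⟩

variable {X X₀ : Scheme.{u}} (π : X ⟶ X₀) [IsIntegralHom π] (f₀ : X₀ ⟶ Spec (CommRingCat.of A)) [IsProper f₀]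

/-- The closed part of a scheme integral over a proper one meets every point closure in a connected set. -/
theorem isConnected_inter_closure_of_integral (x : X) :
    IsConnected ((π ≫ f₀) ⁻¹' PrimeSpectrum.zeroLocus (I : Set A) ∩ closure {x}) := by
  obtain ⟨T, j, _, _, hj, -⟩ := ConsPropLib.exists_integral_closure x
  refine ⟨?_, ?_⟩
  · obtain ⟨p, ⟨z, hz, rfl⟩, hp⟩ := exists_mem_zeroLocus I
      ((π ≫ f₀).isClosedMap _ (isClosed_closure (s := {x}))) ⟨_, x, subset_closure rfl, rfl⟩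
    exact ⟨z, hp, hz⟩
  · haveI : IsIntegralHom (j ≫ π) := inferInstance
    have h := (EtPBC63.Conn.isPreconnected_closed_part_of_integral (j ≫ π) f₀ I).image j j.continuous.continuousOn
    have he : j '' (((j ≫ π) ≫ f₀) ⁻¹' PrimeSpectrum.zeroLocus (I : Set A)) =
        (π ≫ f₀) ⁻¹' PrimeSpectrum.zeroLocus (I : Set A) ∩ closure {x} := by
      rw [← hj, ← Set.image_preimage_eq_inter_range]
      rfl
    rwa [he] at h

/-- A clopen piece of the closed part of a scheme integral over a proper one extends to a clopen. -/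
theorem exists_clopen_lift (S : Set X) (hSc : IsClosed S) (hSZ : S ⊆ (π ≫ f₀) ⁻¹' PrimeSpectrum.zeroLocus (I : Set A))
    (O : Set X) (hO : IsOpen O) (hSO : S = (π ≫ f₀) ⁻¹' PrimeSpectrum.zeroLocus (I : Set A) ∩ O) :
    ∃ C : Set X, IsClopen C ∧ S = (π ≫ f₀) ⁻¹' PrimeSpectrum.zeroLocus (I : Set A) ∩ C := by
  set Z := (π ≫ f₀) ⁻¹' PrimeSpectrum.zeroLocus (I : Set A) with hZdef
  haveI : CompactSpace X := QuasiCompact.compactSpace_of_compactSpace (π ≫ f₀)
  haveI : QuasiSeparatedSpace X := quasiSeparatedSpace_of_quasiSeparated (π ≫ f₀)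
  haveI : SpectralSpace X := {}
  have hZ : IsClosed Z := (PrimeSpectrum.isClosed_zeroLocus _).preimage (π ≫ f₀).continuous
  have h2 : Z ∩ Oᶜ = Z \ S := by rw [hSO]; ext y; simp
  obtain ⟨X₁, X₂, hX₁, hX₂, hd, hu, h1, -⟩ := EtFound.SpectralPiZero.exists_lift_decomposition Z
    (isConnected_inter_closure_of_integral I π f₀) S (Z ∩ Oᶜ) hSc (hZ.inter hO.isClosed_compl)
    (by rw [h2]; exact Set.disjoint_sdiff_right)
    (by rw [h2]; exact Set.union_sdiff_cancel hSZ)
  refine ⟨X₁, ⟨hX₁, ?_⟩, h1⟩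
  rw [show X₁ = X₂ᶜ from (IsCompl.of_eq hd.eq_bot hu).eq_compl]
  exact hX₂.isOpen_compl

omit [IsIntegralHom π] [IsProper f₀]

/-- Over a henselian pair, a clopen part of the closed fibre which is proper lifts to a proper clopen part. -/
theorem exists_clopen_proper_lift (f : X ⟶ Spec (CommRingCat.of A)) [IsSeparated f] [LocallyOfFiniteType f]
    [QuasiCompact f] {Y₀ : Scheme.{u}} (i : Y₀ ⟶ X) [IsProper (i ≫ f)] (O : X.Opens)
    (hO : Set.range i = f ⁻¹' PrimeSpectrum.zeroLocus (I : Set A) ∩ (O : Set X)) :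
    ∃ W : X.Opens, IsClosed (W : Set X) ∧ IsProper (W.ι ≫ f) ∧
      Set.range i = f ⁻¹' PrimeSpectrum.zeroLocus (I : Set A) ∩ (W : Set X) := by
  classical
  obtain ⟨κ, _, X', q, N, p, hq, hp, hpq, hcov⟩ := HTop74.exists_chow_pieces f
  haveI := hq
  haveI : ∀ K, IsProper (CohB1.ProjSpace.toSpec (N K) A) := fun K => PnCoh.Chow.isProper_toSpec _ _
  set Z := f ⁻¹' PrimeSpectrum.zeroLocus (I : Set A) with hZdef
  have key : ∀ K, ∃ W' : (X' K).Opens, IsClosed (W' : Set (X' K)) ∧ IsProper (W'.ι ≫ q K ≫ f) ∧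
      (q K ⁻¹' Set.range i) = (q K ⁻¹' Z) ∩ (W' : Set (X' K)) := fun K => by
    haveI := hp K
    haveI : LocallyOfFiniteType (p K ≫ CohB1.ProjSpace.toSpec (N K) A) := by rw [hpq]; infer_instance
    haveI : LocallyOfFiniteType (p K) := locallyOfFiniteType_of_comp _ (CohB1.ProjSpace.toSpec (N K) A)
    haveI : QuasiCompact (p K ≫ CohB1.ProjSpace.toSpec (N K) A) := by rw [hpq]; infer_instance
    haveI : QuasiCompact (p K) := QuasiCompact.of_comp _ (CohB1.ProjSpace.toSpec (N K) A)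
    haveI : IsSeparated (p K) := inferInstance
    haveI : LocallyQuasiFinite (p K) := LocallyQuasiFinite.of_injective (p K).injective
    let j := (p K).toNormalization
    let F := (p K).fromNormalization
    have hjF : j ≫ F ≫ CohB1.ProjSpace.toSpec (N K) A = q K ≫ f := by
      rw [Scheme.Hom.toNormalization_fromNormalization_assoc, hpq]
    set g := F ≫ CohB1.ProjSpace.toSpec (N K) A with hgdef
    -- the image of the piece
    let e := pullback.snd i (q K)
    haveI : IsProper (e ≫ j ≫ g) := by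
      rw [hjF, ← pullback.condition_assoc]
      infer_instance
    haveI : IsProper (pullback.fst i (q K)) := inferInstance
    haveI : IsSeparated g := inferInstance
    haveI : IsProper ((e ≫ j) ≫ g) := by rw [Category.assoc]; infer_instance
    haveI : UniversallyClosed (e ≫ j) := UniversallyClosed.of_comp_of_isSeparated _ g
    have hrange : Set.range e = q K ⁻¹' Set.range i := Scheme.Pullback.range_snd i (q K)
    have hS : IsClosed (j '' (q K ⁻¹' Set.range i)) := by
      rw [← hrange, ← Set.range_comp]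
      exact (e ≫ j).isClosedMap.isClosed_range
    have hZ' : j ⁻¹' (g ⁻¹' PrimeSpectrum.zeroLocus (I : Set A)) = q K ⁻¹' Z := by
      ext z
      exact iff_of_eq (congrArg (· ∈ PrimeSpectrum.zeroLocus (I : Set A))
        (congrArg (fun m : X' K ⟶ Spec (CommRingCat.of A) => m z) hjF))
    obtain ⟨C, hC, hCS⟩ := exists_clopen_lift I F (CohB1.ProjSpace.toSpec (N K) A) (j '' (q K ⁻¹' Set.range i)) hS
      (by
        rintro _ ⟨z, hz, rfl⟩
        have : z ∈ j ⁻¹' (g ⁻¹' PrimeSpectrum.zeroLocus (I : Set A)) := by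
          rw [hZ']; exact (hO.le hz).1
        exact this)
      (j '' (q K ⁻¹' (O : Set X))) (j.isOpenEmbedding.isOpenMap _ (O.2.preimage (q K).continuous))
      (show _ = g ⁻¹' PrimeSpectrum.zeroLocus (I : Set A) ∩ _ by
        rw [← Set.image_preimage_inter, hZ', hO, Set.preimage_inter])
    -- the clopen lies in the piece
    haveI : UniversallyClosed g := inferInstance
    have hCj : C ⊆ Set.range j := by
      intro c hc
      by_contra hcj
      obtain ⟨P, ⟨d, ⟨hdC, hdj⟩, rfl⟩, hP⟩ := exists_mem_zeroLocus I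
        (g.isClosedMap _ (hC.1.inter j.isOpenEmbedding.isOpen_range.isClosed_compl)) ⟨_, c, ⟨hc, hcj⟩, rfl⟩
      obtain ⟨z, -, hz⟩ := hCS.ge ⟨hP, hdC⟩
      exact hdj ⟨z, hz⟩
    let W' : (X' K).Opens := ⟨j ⁻¹' C, hC.2.preimage j.continuous⟩
    refine ⟨W', hC.1.preimage j.continuous, ?_, ?_⟩
    · have hW' : IsClosed (Set.range (W'.ι ≫ j)) := by
        show IsClosed (Set.range (j ∘ W'.ι))
        rw [Set.range_comp, Scheme.Opens.range_ι]
        show IsClosed (j '' (j ⁻¹' C))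
        rw [Set.image_preimage_eq_iff.2 hCj]
        exact hC.1
      haveI : IsClosedImmersion (W'.ι ≫ j) := IsClosedImmersion.of_isPreimmersion _ hW'
      haveI : QuasiCompact W'.ι := QuasiCompact.of_comp W'.ι j
      haveI : UniversallyClosed (W'.ι ≫ q K ≫ f) := by
        rw [← hjF, ← Category.assoc]; infer_instance
      exact { }
    · have hCS' : j '' (q K ⁻¹' Set.range i) = g ⁻¹' PrimeSpectrum.zeroLocus (I : Set A) ∩ C := hCS
      rw [← hZ', show (W' : Set (X' K)) = j ⁻¹' C from rfl, ← Set.preimage_inter, ← hCS',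
        Set.preimage_image_eq _ j.isOpenEmbedding.injective]
  choose W' hW'c hW'p hW'Z using key
  haveI : Finite κ := inferInstance
  let S₁ : Set X := ⋃ K, q K '' (W' K : Set (X' K))
  let S₂ : Set X := ⋃ K, q K '' (W' K : Set (X' K))ᶜ
  have h₁ : IsClosed S₁ := isClosed_iUnion_of_finite fun K => (q K).isClosedMap _ (hW'c K)
  have h₂ : IsClosed S₂ := isClosed_iUnion_of_finite fun K => (q K).isClosedMap _ (W' K).2.isClosed_compl
  have hu : ∀ x, x ∈ S₁ ∨ x ∈ S₂ := fun x => by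
    obtain ⟨K, z, rfl⟩ := hcov x
    by_cases hz : z ∈ W' K
    · exact Or.inl (Set.mem_iUnion.2 ⟨K, z, hz, rfl⟩)
    · exact Or.inr (Set.mem_iUnion.2 ⟨K, z, hz, rfl⟩)
  have hfib : ∀ x ∈ S₁, f x ∈ PrimeSpectrum.zeroLocus (I : Set A) → x ∈ Set.range i := fun x hx hxZ => by
    obtain ⟨K, z, hz, rfl⟩ := Set.mem_iUnion.1 hx
    exact (hW'Z K).ge ⟨hxZ, hz⟩
  have hfib₂ : ∀ x ∈ S₂, x ∉ Set.range i := fun x hx hxi => by
    obtain ⟨K, z, hz, rfl⟩ := Set.mem_iUnion.1 hx
    exact hz ((hW'Z K).le hxi).2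
  have hd : Disjoint S₁ S₂ := by
    rw [Set.disjoint_left]
    intro x hx hx'
    obtain ⟨K, z, hz, rfl⟩ := Set.mem_iUnion.1 hx
    haveI := hW'p K
    let E : Set (W' K) := ((W' K).ι ≫ q K) ⁻¹' S₂
    have hE : IsClosed E := h₂.preimage ((W' K).ι ≫ q K).continuous
    obtain ⟨P, ⟨w, hw, rfl⟩, hP⟩ := exists_mem_zeroLocus I (((W' K).ι ≫ q K ≫ f).isClosedMap E hE)
      ⟨_, (⟨z, hz⟩ : W' K), hx', rfl⟩
    exact hfib₂ (q K w.1) hw (hfib _ (Set.mem_iUnion.2 ⟨K, w.1, w.2, rfl⟩) hP)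
  let W : X.Opens := ⟨S₁, by
    rw [show S₁ = S₂ᶜ from Set.ext fun x => ⟨fun h h' => Set.disjoint_left.1 hd h h', fun h => (hu x).resolve_right h⟩]
    exact h₂.isOpen_compl⟩
  haveI : IsClosedImmersion W.ι := IsClosedImmersion.of_isPreimmersion _ (by rw [Scheme.Opens.range_ι]; exact h₁)
  refine ⟨W, h₁, ?_, ?_⟩
  · let b : ∀ K, ↑(W' K) ⟶ (W : Scheme.{u}) := fun K => IsOpenImmersion.lift W.ι ((W' K).ι ≫ q K) (by
      rw [Scheme.Opens.range_ι]
      rintro _ ⟨w, rfl⟩
      exact Set.mem_iUnion.2 ⟨K, w.1, w.2, rfl⟩)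
    have hb : ∀ K, b K ≫ W.ι = (W' K).ι ≫ q K := fun K => IsOpenImmersion.lift_fac _ _ _
    haveI : IsProper (Sigma.desc fun K => b K ≫ W.ι ≫ f) := HTop74.isProper_sigmaDesc _ fun K => by
      rw [reassoc_of% hb K]; exact hW'p K
    haveI : Surjective (Sigma.desc b) := ⟨fun x => by
      obtain ⟨K, z, hz, hzx⟩ := Set.mem_iUnion.1 (show x.1 ∈ S₁ from x.2)
      refine ⟨Sigma.ι (fun K => ((W' K : (X' K).Opens) : Scheme.{u})) K ⟨z, hz⟩, W.ι.isOpenEmbedding.injective ?_⟩
      show ((Sigma.ι _ K ≫ Sigma.desc b) ≫ W.ι) (⟨z, hz⟩ : W' K) = _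
      rw [Sigma.ι_desc, hb]
      exact hzx⟩
    haveI : UniversallyClosed (Sigma.desc b ≫ W.ι ≫ f) := by
      rw [show Sigma.desc b ≫ W.ι ≫ f = Sigma.desc (fun K => b K ≫ W.ι ≫ f) from
        Sigma.hom_ext _ _ fun K => by simp]
      infer_instance
    haveI : UniversallyClosed (W.ι ≫ f) := UniversallyClosed.of_comp_surjective (Sigma.desc b) _
    exact { }
  · refine Set.ext fun x => ⟨fun hx => ⟨(hO.le hx).1, ?_⟩, fun hx => hfib x hx.2 hx.1⟩
    exact (hu x).resolve_right fun h => hfib₂ x h hx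

end Groth.Agent.FlatB12
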