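import Groth.Agent.IntTh85.LineGlue
import Groth.Agent.PicfLib.Trans
import Groth.Agent.Eg2Twist.Frames
import Groth.Agent.InvX.GenLocusPull
import Groth.Prelude.Def_MoreMor
import Groth.Prelude.Def_CohB1
import Mathlib.Dynamics.Newton
import Mathlib.AlgebraicGeometry.Morphisms.ClosedImmersion
import Mathlib.AlgebraicGeometry.Morphisms.QuasiCompact

/-!
# Torsion invertible modules lift along thickenings when the order is invertible
-/

set_option autoImplicit false
set_option linter.style.haveILetI false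
set_option backward.isDefEq.respectTransparency false

universe u

open CategoryTheory AlgebraicGeometry TopologicalSpace Opposite Polynomial
open Groth.Agent.AModX Groth.Agent.InvX Groth.Agent.PicfLib.Trans

namespace Groth.Agent.FlatB12.PicThick

/-- Roots of units lift uniquely along surjections with nil kernel, when the exponent is invertible. -/
theorem existsUnique_root {A B : Type u} [CommRing A] [CommRing B] (φ : A →+* B) (hφ : Function.Surjective φ)
    (hk : ∀ a, φ a = 0 → IsNilpotent a) (n : ℕ) (hn : IsUnit (n : B)) (a : A) (ha : IsUnit a) (b : B)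
    (hb : b ^ n = φ a) : ∃! G : A, G ^ n = a ∧ φ G = b := by
  rcases n.eq_zero_or_pos with rfl | hn0
  · haveI : Subsingleton B := by
      have : IsUnit (0 : B) := by simpa using hn
      exact subsingleton_of_zero_eq_one (isUnit_zero_iff.1 this)
    have hA : Subsingleton A := by
      obtain ⟨k, hk'⟩ := hk 1 (Subsingleton.elim _ _)
      rw [one_pow] at hk'
      exact subsingleton_of_zero_eq_one hk'.symm
    exact ⟨0, ⟨Subsingleton.elim _ _, Subsingleton.elim _ _⟩, fun y _ => Subsingleton.elim _ _⟩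
  have hunit : ∀ x, IsUnit (φ x) → IsUnit x := fun x hx => by
    obtain ⟨y, hy⟩ := hφ ↑hx.unit⁻¹
    have h1 : IsNilpotent (1 - x * y) := hk _ (by rw [map_sub, map_one, map_mul, hy, IsUnit.mul_val_inv, sub_self])
    have h2 := h1.isUnit_one_sub
    rw [sub_sub_cancel] at h2
    exact isUnit_of_mul_isUnit_left h2
  obtain ⟨b₀, rfl⟩ := hφ b
  let P : A[X] := X ^ n - C a
  have hP : ∀ r, aeval r P = r ^ n - a := fun r => by simp [P]
  have h1 : IsNilpotent (aeval b₀ P) := hk _ (by rw [hP, map_sub, map_pow, hb, sub_self])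
  have h2 : IsUnit (aeval b₀ (derivative P)) := by
    have : derivative P = C (n : A) * X ^ (n - 1) := by simp [P, derivative_X_pow]
    rw [this, map_mul, aeval_C, map_pow, aeval_X, Algebra.algebraMap_self, RingHom.id_apply]
    refine (hunit _ (by rwa [map_natCast])).mul ((hunit _ ?_).pow _)
    exact (isUnit_pow_iff hn0.ne').1 (by rw [hb]; exact ha.map φ)
  obtain ⟨r, ⟨hr, hr'⟩, huniq⟩ := existsUnique_nilpotent_sub_and_aeval_eq_zero (P := P) (x := b₀) h1 h2
  have hra : r ^ n = a := sub_eq_zero.1 ((hP r).symm.trans hr')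
  refine ⟨r, ⟨hra, ?_⟩, fun y hy => huniq y ⟨hk _ (by rw [map_sub, hy.2, sub_self]), by rw [hP, hy.1, sub_self]⟩⟩
  let Q : B[X] := X ^ n - C (φ a)
  have hQ : ∀ z, aeval z Q = z ^ n - φ a := fun z => by simp [Q]
  have hb0 : aeval (φ b₀) Q = 0 := by rw [hQ, hb, sub_self]
  have hQd : IsUnit (aeval (φ b₀) (derivative Q)) := by
    have : derivative Q = C (n : B) * X ^ (n - 1) := by simp [Q, derivative_X_pow]
    rw [this, map_mul, aeval_C, map_pow, aeval_X, Algebra.algebraMap_self, RingHom.id_apply]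
    exact hn.mul (((isUnit_pow_iff hn0.ne').1 (by rw [hb]; exact ha.map φ)).pow _)
  refine (existsUnique_nilpotent_sub_and_aeval_eq_zero (P := Q) (x := φ b₀)
    (hb0 ▸ IsNilpotent.zero) hQd).unique ⟨?_, by rw [hQ, ← map_pow, hra, sub_self]⟩ ⟨by simp, hb0⟩
  rw [← map_sub]
  exact hr.map φ

variable {X X' : Scheme.{u}} (i : X ⟶ X')

/-- Roots of units on a thickening are determined by their restriction. -/
theorem existsUnique_root_open [IsClosedImmersion i] [Surjective i] (n : ℕ) (hn : IsUnit (n : Γ(X, ⊤)))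
    (W : X'.Opens) (a : Γ(X', W)) (ha : IsUnit a) (b : Γ(X, i ⁻¹ᵁ W)) (hb : b ^ n = i.app W a) :
    ∃! G : Γ(X', W), G ^ n = a ∧ i.app W G = b := by
  classical
  have key : ∀ (V : X'.Opens) (hV : IsAffineOpen V) (h : V ≤ W),
      ∃! G : Γ(X', V), G ^ n = resR h a ∧ i.app V G = resR (i.preimage_mono h) b := fun V hV h => by
    refine existsUnique_root (i.app V).hom (i.app_surjective V hV) (fun z hz => ?_) n ?_ _ (ha.map _) _ ?_
    · rw [Scheme.isNilpotent_iff_basicOpen_eq_bot_of_isCompact hV.isCompact, eq_bot_iff]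
      intro p hp
      obtain ⟨x, rfl⟩ := i.surjective p
      have : x ∈ i ⁻¹ᵁ X'.basicOpen z := hp
      rw [Scheme.preimage_basicOpen, show i.app V z = 0 from hz, Scheme.basicOpen_zero] at this
      exact this
    · have := hn.map (resR (le_top : i ⁻¹ᵁ V ≤ ⊤))
      rwa [map_natCast] at this
    · rw [← map_pow, hb]
      exact (congrArg (fun φ : Γ(X', W) ⟶ Γ(X, i ⁻¹ᵁ V) => φ a) (i.naturality (homOfLE h).op)).symm
  have hcov : ∀ p ∈ W, ∃ V : X'.affineOpens, p ∈ V.1 ∧ V.1 ≤ W := fun p hp => by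
    obtain ⟨_, ⟨V, hV, rfl⟩, hpV, hle⟩ := X'.isBasis_affineOpens.exists_subset_of_mem_open hp W.2
    exact ⟨⟨V, hV⟩, hpV, hle⟩
  let ι : Type u := {V : X'.affineOpens // V.1 ≤ W}
  choose G hG hGu using fun V : ι => key V.1.1 V.1.2 V.2
  have happ : ∀ {V V' : X'.Opens} (h : V' ≤ V) (z : Γ(X', V)),
      i.app V' (resR h z) = resR (i.preimage_mono h) (i.app V z) := fun h z =>
    congrArg (fun φ => φ z) (i.naturality (homOfLE h).op)
  have heq : ∀ (U : X'.Opens) (hUW : U ≤ W) (g g' : Γ(X', U)),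
      g ^ n = resR hUW a → g' ^ n = resR hUW a → i.app U g = resR (i.preimage_mono hUW) b →
      i.app U g' = resR (i.preimage_mono hUW) b → g = g' := by
    intro U hUW g g' h1 h1' h2 h2'
    refine eq_of_locally (M := Coh.structureModule X') _ _ fun p hp => ?_
    obtain ⟨_, ⟨V, hV, rfl⟩, hpV, hle⟩ := X'.isBasis_affineOpens.exists_subset_of_mem_open hp U.2
    exact ⟨V, hle, hpV, (key V hV ((show V ≤ U from hle).trans hUW)).unique
      (y₁ := resR hle g) (y₂ := resR hle g')
      ⟨by rw [← map_pow, h1, resR_resR], by rw [happ, h2, resR_resR]⟩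
      ⟨by rw [← map_pow, h1', resR_resR], by rw [happ, h2', resR_resR]⟩⟩
  obtain ⟨R, hR, -⟩ := existsUnique_glue (M := Coh.structureModule X') (V := W) (fun V : ι => V.1.1)
    (fun V => V.2) (fun p hp => (hcov p hp).elim fun V hV => ⟨⟨V, hV.2⟩, hV.1⟩) G
    (fun V V' => heq _ (inf_le_left.trans V.2) (resR inf_le_left (G V)) (resR inf_le_right (G V'))
      (by rw [← map_pow, (hG V).1, resR_resR]) (by rw [← map_pow, (hG V').1, resR_resR])
      (by rw [happ, (hG V).2, resR_resR]) (by rw [happ, (hG V').2, resR_resR]))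
  let R' : Γ(X', W) := R
  have hR' : ∀ V : ι, resR V.2 R' = G V := hR
  have hRn : R' ^ n = a := eq_of_locally (M := Coh.structureModule X') _ _ fun p hp => by
    obtain ⟨V, hpV, hV⟩ := hcov p hp
    refine ⟨V.1, hV, hpV, ?_⟩
    show resR hV (R' ^ n) = resR hV a
    rw [map_pow, hR' ⟨V, hV⟩, (hG ⟨V, hV⟩).1]
  have hRb : i.app W R' = b := eq_of_locally (M := Coh.structureModule X) _ _ fun x hx => by
    obtain ⟨V, hpV, hV⟩ := hcov (i x) hx
    refine ⟨i ⁻¹ᵁ V.1, i.preimage_mono hV, hpV, ?_⟩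
    show resR (i.preimage_mono hV) (i.app W R') = resR _ b
    rw [← happ hV, hR' ⟨V, hV⟩, (hG ⟨V, hV⟩).2]
  exact ⟨R', ⟨hRn, hRb⟩, fun g hg => heq W le_rfl g R' (by rw [resR_self]; exact hg.1)
    (by rw [resR_self]; exact hRn) (by rw [resR_self]; exact hg.2) (by rw [resR_self]; exact hRb)⟩

/-- An invertible module with trivial `n`-th power lifts to one with trivial `n`-th power. -/
theorem exists_lift_torsion [IsClosedImmersion i] [Surjective i] (n : ℕ) (hn : IsUnit (n : Γ(X, ⊤)))
    (L : X.Modules) (hL : PicF.IsInvertible L) (φ : CohB1.tensorPow L n ≅ Coh.structureModule X) :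
    ∃ M : X'.Modules, PicF.IsInvertible M ∧ Nonempty (CohB1.tensorPow M n ≅ Coh.structureModule X') ∧
      Nonempty ((Scheme.Modules.pullback i).obj M ≅ L) := by
  classical
  have hloc : ∀ p : X', ∃ U : X'.Opens, IsAffineOpen U ∧ p ∈ U ∧ ∃ e : Γ(L, i ⁻¹ᵁ U), IsFrame e := fun p => by
    obtain ⟨x, rfl⟩ := i.surjective p
    obtain ⟨V, hxV, e, he⟩ := exists_frame hL x
    obtain ⟨O, hO, hOV⟩ := i.isClosedEmbedding.isInducing.isOpen_iff.1 V.2
    obtain ⟨_, ⟨U, hU, rfl⟩, hxU, hle⟩ := X'.isBasis_affineOpens.exists_subset_of_mem_open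
      (show i x ∈ O from (Set.ext_iff.1 hOV x).2 hxV) hO
    have hUV : i ⁻¹ᵁ U ≤ V := fun z hz => (Set.ext_iff.1 hOV z).1 (hle hz)
    exact ⟨U, hU, hxU, _, he.res hUV⟩
  choose U hU hmem e he using hloc
  let f : ∀ p, Γ(X, i ⁻¹ᵁ U p) := fun p => φ.hom.app (i ⁻¹ᵁ U p) (powSec (e p) n)
  have hf : ∀ p, IsUnit (f p) := fun p =>
    isUnit_coord (g := f p) (isFrame_one (X := X) _) ((isFrame_powSec (he p) n).map_iso φ)
      (show f p = f p * 1 from (mul_one (f p)).symm)
  choose a ha using fun p => i.app_surjective (U p) (hU p) (f p)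
  have hau : ∀ p, IsUnit (a p) := fun p => by
    have h : (i ⁻¹ᵁ X'.basicOpen (a p)) = i ⁻¹ᵁ U p := by
      rw [Scheme.preimage_basicOpen, ha, Scheme.basicOpen_of_isUnit _ (hf p)]
    have h' : X'.basicOpen (a p) = U p := le_antisymm (X'.basicOpen_le _) fun z hz => by
      obtain ⟨x, rfl⟩ := i.surjective z
      exact h.ge hz
    have := X'.toLocallyRingedSpace.toRingedSpace.isUnit_res_basicOpen (a p)
    have h2 := (this.map (resR (le_of_eq h'.symm)))
    have h3 : resR (le_of_eq h'.symm) (resR (X'.basicOpen_le (a p)) (a p)) = a p := by rw [resR_resR, resR_self]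
    exact h3 ▸ h2
  -- transition functions downstairs
  have hg : ∀ (p q : X') (W : X'.Opens) (hp : W ≤ U p) (hq : W ≤ U q), ∃ g : Γ(X, i ⁻¹ᵁ W),
      res L (i.preimage_mono hp) (e p) = g • res L (i.preimage_mono hq) (e q) ∧
      g ^ n * resR (i.preimage_mono hq) (f q) = resR (i.preimage_mono hp) (f p) := fun p q W hp hq => by
    obtain ⟨g, hg⟩ := (he q).exists_coord (i.preimage_mono hq) (res L (i.preimage_mono hp) (e p))
    refine ⟨g, hg, ?_⟩
    have h1 := congrArg (fun z => φ.hom.app (i ⁻¹ᵁ W) (powSec z n)) hg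
    simp only [powSec_smul, ← res_powSec, Scheme.Modules.Hom.app_smul, app_res] at h1
    exact h1.symm
  choose g hge hgn using hg
  have hguniq : ∀ p q W hp hq (g' : Γ(X, i ⁻¹ᵁ W)),
      res L (i.preimage_mono hp) (e p) = g' • res L (i.preimage_mono hq) (e q) → g' = g p q W hp hq :=
    fun p q W hp hq g' h => (he q).coord_unique _ (h.symm.trans (hge p q W hp hq))
  have happ : ∀ {V V' : X'.Opens} (h : V' ≤ V) (z : Γ(X', V)),
      i.app V' (resR h z) = resR (i.preimage_mono h) (i.app V z) := fun h z =>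
    congrArg (fun φ => φ z) (i.naturality (homOfLE h).op)
  let r : ∀ p q (W : X'.Opens), W ≤ U p → W ≤ U q → Γ(X', W) := fun p q W hp hq =>
    resR hp (a p) * ↑((hau q).map (resR hq)).unit⁻¹
  have hr : ∀ p q W hp hq, r p q W hp hq * resR hq (a q) = resR hp (a p) := fun p q W hp hq => by
    show _ * _ * _ = _
    rw [mul_assoc, IsUnit.val_inv_mul, mul_one]
  have hru : ∀ p q W hp hq, IsUnit (r p q W hp hq) := fun p q W hp hq =>
    ((hau p).map (resR hp)).mul (Units.isUnit _)
  have hex : ∀ p q W hp hq, ∃! G : Γ(X', W), G ^ n = r p q W hp hq ∧ i.app W G = g p q W hp hq :=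
    fun p q W hp hq => existsUnique_root_open i n hn W _ (hru p q W hp hq) _ (by
      refine ((hf q).map (resR (i.preimage_mono hq))).mul_right_cancel ?_
      rw [hgn, ← ha, ← ha, ← happ hp, ← happ hq, ← map_mul, hr])
  choose G hG hGu using hex
  obtain ⟨M, E, hM, hE, hEG⟩ := IntTh85.LineGlue.exists_line U (fun p => ⟨p, hmem p⟩) G
    (fun p q W hp hq => by
      rcases n.eq_zero_or_pos with hn0 | hn0
      · subst hn0
        have h1 : IsUnit (0 : Γ(X, ⊤)) := by simpa using hn
        haveI : Subsingleton Γ(X, ⊤) := subsingleton_of_zero_eq_one (isUnit_zero_iff.1 h1)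
        haveI : IsEmpty X' := ⟨fun z => by
          obtain ⟨x, -⟩ := i.surjective z
          have : x ∈ X.basicOpen (1 : Γ(X, ⊤)) := by rw [Scheme.basicOpen_of_isUnit _ isUnit_one]; trivial
          rw [Subsingleton.elim (1 : Γ(X, ⊤)) 0, Scheme.basicOpen_zero] at this
          exact this⟩
        have : W = ⊥ := eq_bot_iff.2 fun z => isEmptyElim z
        subst this
        exact isUnit_of_subsingleton _
      · exact (isUnit_pow_iff hn0.ne').1 ((hG p q W hp hq).1 ▸ hru p q W hp hq))
    (fun p q W W' hp hq h => hGu p q W' _ _ _ ⟨by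
        rw [← map_pow, (hG p q W hp hq).1]
        refine ((hau q).map (resR (h.trans hq))).mul_right_cancel ?_
        rw [hr, ← resR_resR hq h, ← map_mul, hr, resR_resR], by
        rw [happ, (hG p q W hp hq).2]
        refine hguniq p q W' _ _ _ ?_
        rw [← res_res (i.preimage_mono hp) (i.preimage_mono h), hge p q W hp hq, res_smul, res_res]⟩)
    (fun p q l W hp hq hl => hGu p l W _ _ _ ⟨by
        rw [mul_pow, (hG p q W hp hq).1, (hG q l W hq hl).1]
        refine ((hau l).map (resR hl)).mul_right_cancel ?_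
        rw [mul_assoc, hr, hr, hr], by
        rw [map_mul, (hG p q W hp hq).2, (hG q l W hq hl).2]
        refine hguniq p l W _ _ _ ?_
        rw [mul_smul, ← hge, ← hge]⟩)
  refine ⟨M, hM, ?_, ?_⟩
  · refine Eg2Twist.nonempty_iso_of_frames (ι := X') U (fun p => ⟨p, hmem p⟩)
      (fun p => powSec (E p) n) (fun p => (show Γ(Coh.structureModule X', U p) from a p))
      (fun p => isFrame_powSec (hE p) n) (fun p => ?_) fun p q W hp hq k hk => ?_
    · have := (isFrame_one (X := X') (U p)).isUnit_smul (hau p)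
      rwa [show a p • (show Γ(Coh.structureModule X', U p) from (1 : Γ(X', U p))) = _ from mul_one (a p)] at this
    · have h1 : k = r q p W hq hp := by
        refine ((isFrame_powSec (hE p) n).coord_unique hp ?_)
        rw [← hk, ← (hG q p W hq hp).1, res_powSec, res_powSec, hEG q p W hq hp, powSec_smul]
      show resR hq (a q) = k * resR hp (a p)
      rw [h1, hr]
  · refine Eg2Twist.nonempty_iso_of_frames (ι := X') (fun p => i ⁻¹ᵁ U p) (fun x => ⟨i x, hmem (i x)⟩)
      (fun p => pullElt i (E p)) e (fun p => isFrame_pullElt i (hE p)) he fun p q W hp hq k hk => ?_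
    obtain ⟨O, hO, hOW⟩ := i.isClosedEmbedding.isInducing.isOpen_iff.1 W.2
    let W' : X'.Opens := ⟨O, hO⟩
    obtain rfl : i ⁻¹ᵁ W' = W := Opens.ext hOW
    have hp' : W' ≤ U p := fun z hz => by
      obtain ⟨x, rfl⟩ := i.surjective z; exact hp hz
    have hq' : W' ≤ U q := fun z hz => by
      obtain ⟨x, rfl⟩ := i.surjective z; exact hq hz
    have h1 : k = i.app W' (G q p W' hq' hp') := by
      refine (isFrame_pullElt i (hE p)).coord_unique hp ?_
      rw [← hk, res_pullElt i hq', res_pullElt i hp', hEG q p W' hq' hp', pullElt_smul]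
    rw [h1, (hG q p W' hq' hp').2]
    exact hge q p W' hq' hp'

end Groth.Agent.FlatB12.PicThick
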