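import Groth.Prelude.Def_FlatCA
import Mathlib.LinearAlgebra.Matrix.NonsingularInverse
import Mathlib.RingTheory.Flat.Basic
import Mathlib.Algebra.Module.Projective

/-!
# Universal injectivity from injectivity modulo maximal ideals
-/

set_option autoImplicit false
set_option linter.style.haveILetI false

universe u

open TensorProduct

namespace Groth.Agent.FlatB12

/-- A finite family in a flat module, independent modulo every maximal ideal, is universally independent. -/
theorem eq_zero_of_sum_tmul_eq_zero {A M Q : Type u} [CommRing A] [AddCommGroup M] [Module A M] [Module.Flat A M]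
    [AddCommGroup Q] [Module A Q] {ι : Type u} [Fintype ι] [DecidableEq ι] (m : ι → M) (q : ι → Q)
    (hm : ∀ (P : Ideal A) [P.IsMaximal] (v : ι → A ⧸ P), (∑ i, v i ⊗ₜ[A] m i) = 0 → v = 0)
    (h : (∑ i, q i ⊗ₜ[A] m i) = 0) : q = 0 := by
  classical
  let π : (ι → A) →ₗ[A] Q := Fintype.linearCombination A q
  let w : (ι → A) ⊗[A] M := ∑ i, Pi.single i 1 ⊗ₜ m i
  have hw : π.rTensor M w = 0 := by
    rw [← h, map_sum]
    exact Finset.sum_congr rfl fun i _ => by simp [π, Fintype.linearCombination_apply_single]
  obtain ⟨t, ht⟩ := (Module.Flat.rTensor_exact M (LinearMap.exact_subtype_ker_map π) w).1 hw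
  obtain ⟨S, rfl⟩ := TensorProduct.exists_finset t
  have hmi : ∀ i, m i = ∑ j : S, (j.1.1 : ι → A) i • j.1.2 := fun i => by
    have := congrArg (fun z => TensorProduct.lid A M ((LinearMap.proj (R := A) (φ := fun _ : ι => A) i).rTensor M z)) ht
    simp only [map_sum, w, LinearMap.rTensor_tmul, TensorProduct.lid_tmul, LinearMap.proj_apply, Pi.single_apply,
      ite_smul, one_smul, zero_smul, Finset.sum_ite_eq, Finset.mem_univ, if_true, Submodule.subtype_apply] at this
    rw [← this]
    exact (Finset.sum_coe_sort S (fun j => (j.1 : ι → A) i • j.2)).symm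
  have hkq : ∀ j : S, ∑ i, (j.1.1 : ι → A) i • q i = 0 := fun j => by
    have := LinearMap.mem_ker.1 j.1.1.2
    rwa [Fintype.linearCombination_apply] at this
  by_contra hne
  let J : Ideal A :=
    { carrier := {a | a • q = 0}
      add_mem' := fun {a b} (ha : a • q = 0) (hb : b • q = 0) => show (a + b) • q = 0 by rw [add_smul, ha, hb, add_zero]
      zero_mem' := zero_smul A q
      smul_mem' := fun c {a} (ha : a • q = 0) => show (c * a) • q = 0 by rw [mul_smul, ha, smul_zero] }
  obtain ⟨P, hP, hJP⟩ := Ideal.exists_le_maximal J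
    (fun htop => hne (by simpa [J] using (htop.ge (Submodule.mem_top : (1 : A) ∈ ⊤) : (1 : A) ∈ J)))
  letI : Field (A ⧸ P) := Ideal.Quotient.field P
  let f : (ι → A ⧸ P) →ₗ[A ⧸ P] (S → A ⧸ P) :=
    LinearMap.pi fun j => Fintype.linearCombination (A ⧸ P) fun i => Ideal.Quotient.mk P ((j.1.1 : ι → A) i)
  have hf : LinearMap.ker f = ⊥ := LinearMap.ker_eq_bot'.2 fun v hv => by
    refine hm P v ?_
    simp only [hmi, tmul_sum, tmul_smul]
    rw [Finset.sum_comm]
    refine Finset.sum_eq_zero fun j _ => ?_
    simp only [smul_tmul']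
    rw [← sum_tmul]
    have hj := congrFun hv j
    simp only [f, LinearMap.pi_apply, Fintype.linearCombination_apply, Pi.zero_apply] at hj
    rw [show (∑ i, (j.1.1 : ι → A) i • v i) = 0 from (Finset.sum_congr rfl fun i _ => by
      rw [Algebra.smul_def, smul_eq_mul, mul_comm]; rfl).trans hj, zero_tmul]
  obtain ⟨g, hg⟩ := f.exists_leftInverse_of_injective hf
  choose c hc using fun (j : S) (l : ι) => Ideal.Quotient.mk_surjective (g (Pi.single j 1) l)
  let E : Matrix ι ι A := fun i l => ∑ j, (j.1.1 : ι → A) i * c j l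
  have hE : (Ideal.Quotient.mk P).mapMatrix E = 1 := by
    ext i l
    have h1 := congrFun (LinearMap.congr_fun hg (Pi.single i 1)) l
    rw [LinearMap.comp_apply, LinearMap.id_apply, pi_eq_sum_univ' (f (Pi.single i 1)), map_sum] at h1
    rw [Matrix.one_apply, RingHom.mapMatrix_apply, Matrix.map_apply, map_sum]
    rw [Pi.single_apply, Finset.sum_apply] at h1
    refine (Finset.sum_congr rfl fun j _ => ?_).trans (h1.trans (by simp [eq_comm]))
    rw [map_smul, Pi.smul_apply, smul_eq_mul, map_mul, hc]
    congr 1
    simp [f, Fintype.linearCombination_apply_single]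
  have hEq : ∀ l, ∑ i, E i l • q i = 0 := fun l => by
    simp only [E, Finset.sum_smul]
    rw [Finset.sum_comm]
    refine Finset.sum_eq_zero fun j _ => ?_
    simp only [mul_comm _ (c j l), mul_smul]
    rw [← Finset.smul_sum, hkq, smul_zero]
  have hdet : E.det • q = 0 := funext fun k => by
    have h2 : ∑ l, E.adjugate l k • (∑ i, E i l • q i) = 0 := Finset.sum_eq_zero fun l _ => by rw [hEq, smul_zero]
    simp only [Finset.smul_sum, smul_smul] at h2
    rw [Finset.sum_comm] at h2
    simp only [← Finset.sum_smul] at h2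
    have h3 : ∀ i, ∑ l, E.adjugate l k * E i l = if i = k then E.det else 0 := fun i => by
      have h4 := congrFun (congrFun (Matrix.mul_adjugate E) i) k
      rw [Matrix.mul_apply, Matrix.smul_apply, Matrix.one_apply, smul_ite, smul_zero, smul_eq_mul, mul_one] at h4
      rw [← h4]
      exact Finset.sum_congr rfl fun l _ => mul_comm _ _
    simp only [h3, ite_smul, zero_smul, Finset.sum_ite_eq', Finset.mem_univ, if_true] at h2
    exact h2
  have h5 : Ideal.Quotient.mk P E.det = 1 := by rw [RingHom.map_det, hE, Matrix.det_one]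
  rw [Ideal.Quotient.eq_zero_iff_mem.2 (hJP hdet)] at h5
  exact zero_ne_one h5

/-- A product of flat modules is flat. -/
theorem flat_prod {A M M' : Type u} [CommRing A] [AddCommGroup M] [Module A M] [Module.Flat A M]
    [AddCommGroup M'] [Module A M'] [Module.Flat A M'] : Module.Flat A (M × M') := by
  rw [Module.Flat.iff_rTensor_preserves_injective_linearMap]
  intro K K' _ _ _ _ g hg
  refine (injective_iff_map_eq_zero _).2 fun z hz => ?_
  refine (TensorProduct.prodRight A A K M M').injective ?_
  rw [map_zero]
  have h : ∀ z : K ⊗[A] (M × M'), TensorProduct.prodRight A A K' M M' (g.rTensor (M × M') z) =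
      (g.rTensor M (TensorProduct.prodRight A A K M M' z).1, g.rTensor M' (TensorProduct.prodRight A A K M M' z).2) := by
    intro z
    induction z with
    | zero => simp only [map_zero, Prod.fst_zero, Prod.snd_zero]; rfl
    | add a b ha hb => simp [ha, hb]
    | tmul k x => simp
  have h2 := h z
  rw [hz, map_zero] at h2
  exact Prod.ext (Module.Flat.rTensor_preserves_injective_linearMap g hg ((congrArg Prod.fst h2).symm.trans (map_zero _).symm))
    (Module.Flat.rTensor_preserves_injective_linearMap g hg ((congrArg Prod.snd h2).symm.trans (map_zero _).symm))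

/-- A map from a projective to a flat module, injective modulo every maximal ideal, is universally injective. -/
theorem univInj_of_projective_of_flat {A N M : Type u} [CommRing A] [AddCommGroup N] [Module A N] [Module.Projective A N]
    [AddCommGroup M] [Module A M] [Module.Flat A M] (u : N →ₗ[A] M)
    (hu : ∀ (P : Ideal A) [P.IsMaximal], Function.Injective (u.lTensor (A ⧸ P))) : FlatCA.UnivInj A u := by
  classical
  intro Q _ _
  haveI : Module.Flat A (M × (N →₀ A)) := flat_prod
  rw [injective_iff_map_eq_zero]
  intro z hz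
  obtain ⟨i, hi⟩ := Module.projective_def'.1 ‹Module.Projective A N›
  let p : (N →₀ A) →ₗ[A] N := Finsupp.linearCombination A id
  have hpi : p ∘ₗ i = LinearMap.id := hi
  let U : (N →₀ A) →ₗ[A] M × (N →₀ A) := (u ∘ₗ p).prod (LinearMap.id - i ∘ₗ p)
  have hUi : U ∘ₗ i = LinearMap.inl A M _ ∘ₗ u := LinearMap.ext fun x => by
    have := LinearMap.congr_fun hpi x
    simp only [LinearMap.comp_apply, LinearMap.id_apply] at this
    simp [U, this]
  have hU : ∀ (P : Ideal A) [P.IsMaximal], Function.Injective (U.lTensor (A ⧸ P)) := fun P _ => by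
    refine (injective_iff_map_eq_zero _).2 fun x hx => ?_
    have e1 : u.lTensor _ (p.lTensor _ x) = 0 := by
      rw [← LinearMap.lTensor_comp_apply, show u ∘ₗ p = LinearMap.fst A M _ ∘ₗ U from rfl,
        LinearMap.lTensor_comp_apply, hx, map_zero]
    have e2 : (LinearMap.id - i ∘ₗ p).lTensor (A ⧸ P) x = 0 := by
      rw [show LinearMap.id - i ∘ₗ p = LinearMap.snd A M _ ∘ₗ U from rfl, LinearMap.lTensor_comp_apply, hx, map_zero]
    rw [LinearMap.lTensor_sub, LinearMap.sub_apply, LinearMap.lTensor_id, LinearMap.id_apply,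
      LinearMap.lTensor_comp_apply, hu P (e1.trans (map_zero _).symm), map_zero, sub_zero] at e2
    exact e2
  let e := TensorProduct.finsuppScalarRight A A Q N
  let l := e (i.lTensor Q z)
  have hdec : i.lTensor Q z = ∑ n ∈ l.support, l n ⊗ₜ Finsupp.single n (1 : A) := by
    refine e.injective ?_
    rw [map_sum]
    conv_lhs => rw [← Finsupp.sum_single (e (i.lTensor Q z)), Finsupp.sum]
    refine Finset.sum_congr rfl fun n _ => ?_
    rw [TensorProduct.finsuppScalarRight_apply_tmul, Finsupp.sum_single_index (by rw [zero_smul, Finsupp.single_zero]), one_smul]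
  have h0 : (∑ n : l.support, l n ⊗ₜ[A] U (Finsupp.single n.1 1)) = 0 := by
    rw [Finset.sum_coe_sort l.support (fun n => l n ⊗ₜ[A] U (Finsupp.single n 1))]
    have h := congrArg (U.lTensor Q) hdec
    rw [← LinearMap.lTensor_comp_apply, hUi, LinearMap.lTensor_comp_apply, hz, map_zero, map_sum] at h
    exact h.symm
  have hq : (fun n : l.support => l n) = 0 := eq_zero_of_sum_tmul_eq_zero _ _ (fun P _ v hv => by
    have h1 : ∑ n : l.support, v n ⊗ₜ[A] Finsupp.single n.1 (1 : A) = 0 := hU P (by
      rw [map_sum, map_zero]; exact hv)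
    funext n
    have h2 := congrArg (fun x => TensorProduct.finsuppScalarRight A A (A ⧸ P) N x n.1) h1
    simp only [map_sum, map_zero, TensorProduct.finsuppScalarRight_apply_tmul, Finsupp.coe_finsetSum,
      Finset.sum_apply, Finsupp.coe_zero, Pi.zero_apply, Finsupp.sum_single_index, zero_smul, Finsupp.single_zero,
      one_smul, Finsupp.single_apply, Subtype.val_inj, Finset.sum_ite_eq', Finset.mem_univ, if_true] at h2
    exact h2) h0
  have hiz : i.lTensor Q z = 0 := hdec.trans (Finset.sum_eq_zero fun n hn => by
    rw [show l n = 0 from congrFun hq ⟨n, hn⟩, zero_tmul])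
  have := congrArg (p.lTensor Q) hiz
  rwa [← LinearMap.lTensor_comp_apply, hpi, LinearMap.lTensor_id, LinearMap.id_apply, map_zero] at this

end Groth.Agent.FlatB12
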