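import Mathlib

/-! # Primes with quasi-finite quotient in an open set -/

set_option linter.style.haveILetI false

universe u

namespace Groth.Agent.FlatB12.QFQuot

open IsLocalRing

/-- A local essentially finite type algebra with artinian closed fibre and finite residue extension
is quasi-finite. -/
theorem quasiFinite_of_closedFibre {A D : Type u} [CommRing A] [IsLocalRing A] [IsNoetherianRing A]
    [CommRing D] [IsLocalRing D] [Algebra A D] [IsLocalHom (algebraMap A D)]
    [Algebra.EssFiniteType A D] [Module.Finite (ResidueField A) (ResidueField D)]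
    (hdim : ∀ P : Ideal D, P.IsPrime → (maximalIdeal A).map (algebraMap A D) ≤ P → P = maximalIdeal D) :
    Algebra.QuasiFinite A D := by
  let C := Algebra.EssFiniteType.subalgebra A D
  let M := Algebra.EssFiniteType.submonoid A D
  let n : Ideal C := (maximalIdeal D).comap (algebraMap C D)
  have hM : M = n.primeCompl := by
    ext c
    show IsUnit (algebraMap C D c) ↔ algebraMap C D c ∉ maximalIdeal D
    rw [mem_maximalIdeal, mem_nonunits_iff, not_not]
  haveI hloc : IsLocalization n.primeCompl D := hM ▸ Algebra.EssFiniteType.isLocalization (R := A) (S := D)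
  let e : Localization.AtPrime n ≃ₐ[A] D :=
    (IsLocalization.algEquiv n.primeCompl (Localization.AtPrime n) D).restrictScalars A
  have hn : n.under A = maximalIdeal A := by
    show ((maximalIdeal D).comap (algebraMap C D)).comap (algebraMap A C) = _
    rw [Ideal.comap_comap, ← IsScalarTower.algebraMap_eq]
    exact IsLocalRing.maximalIdeal_comap _
  let mD := (maximalIdeal A).map (algebraMap A D)
  haveI : IsNoetherianRing D := Algebra.EssFiniteType.isNoetherianRing A D
  haveI : Module.Finite A (D ⧸ mD) := by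
    haveI : Module.Finite A (ResidueField A) :=
      Module.Finite.of_surjective (Algebra.linearMap A (ResidueField A)) IsLocalRing.residue_surjective
    haveI : Module.Finite A (ResidueField D) := Module.Finite.trans (ResidueField A) _
    let π : (D ⧸ mD) →ₐ[A] ResidueField D := Ideal.Quotient.liftₐ mD
      (IsScalarTower.toAlgHom A D (ResidueField D)) fun x hx => by
        show IsLocalRing.residue D x = 0
        exact (residue_eq_zero_iff _).2 (Ideal.map_le_iff_le_comap.2
          (IsLocalRing.maximalIdeal_comap (algebraMap A D)).ge hx)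
    have hπ : Function.Surjective π := fun y => by
      obtain ⟨x, rfl⟩ := IsLocalRing.residue_surjective y
      exact ⟨Ideal.Quotient.mk _ x, rfl⟩
    refine Module.finite_of_surjective_of_ker_le_nilradical π hπ ?_ (IsNoetherian.noetherian _)
    intro y hy
    rw [nilradical_eq_sInf]
    refine Submodule.mem_sInf.2 fun (Q : Ideal (D ⧸ mD)) (hQ : Q.IsPrime) => ?_
    obtain ⟨x, rfl⟩ := Ideal.Quotient.mk_surjective y
    have hQ' : (Q.comap (Ideal.Quotient.mk mD)).IsPrime := Ideal.IsPrime.comap (hK := hQ) _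
    have hle : mD ≤ Q.comap (Ideal.Quotient.mk mD) := by
      intro z hz
      rw [Ideal.mem_comap, Ideal.Quotient.eq_zero_iff_mem.2 hz]
      exact zero_mem _
    have hmem : x ∈ Q.comap (Ideal.Quotient.mk mD) := by
      rw [hdim _ hQ' hle]
      exact (residue_eq_zero_iff _).1 hy
    exact hmem
  haveI : Algebra.WeaklyQuasiFiniteAt A n := by
    rw [Algebra.weaklyQuasiFiniteAt_iff, hn]
    let e' : (D ⧸ mD) ≃ₐ[A] (Localization.AtPrime n ⧸ (maximalIdeal A).map (algebraMap A (Localization.AtPrime n))) :=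
      Ideal.quotientEquivAlg _ _ e.symm (by
        show _ = Ideal.map (e.symm : D →+* Localization.AtPrime n) mD
        rw [Ideal.map_map]
        congr 1
        ext a
        exact (e.symm.commutes a).symm)
    exact (Algebra.QuasiFinite.iff_of_algEquiv e').1 inferInstance
  haveI : Algebra.QuasiFiniteAt A n := Algebra.QuasiFiniteAt.of_weaklyQuasiFiniteAt n
  exact (Algebra.QuasiFinite.iff_of_algEquiv e).1 this

/-- A prime maximal among those avoiding an element has at most one dimensional quotient. -/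
theorem eq_maximalIdeal_of_lt {B : Type u} [CommRing B] [IsLocalRing B] [IsNoetherianRing B] {g : B}
    (hg : g ∈ maximalIdeal B) {q : Ideal B} [q.IsPrime] (hgq : g ∉ q)
    (hmax : ∀ P : Ideal B, P.IsPrime → q < P → g ∈ P) :
    ∀ P : Ideal B, P.IsPrime → q < P → P = maximalIdeal B := by
  classical
  intro P hP hlt
  by_contra hne
  let D := B ⧸ q
  let mk := Ideal.Quotient.mk q
  haveI : IsLocalRing D := .of_surjective' mk Ideal.Quotient.mk_surjective
  let P' := P.map mk
  have hcomapP : P'.comap mk = P := by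
    rw [Ideal.comap_map_of_surjective _ Ideal.Quotient.mk_surjective, ← RingHom.ker_eq_comap_bot,
      Ideal.mk_ker, sup_eq_left.2 hlt.le]
  haveI hP'p : P'.IsPrime := Ideal.map_isPrime_of_surjective Ideal.Quotient.mk_surjective
    (by rw [Ideal.mk_ker]; exact hlt.le)
  have hP'0 : P' ≠ ⊥ := fun h => hlt.ne (by
    rw [← hcomapP, h, ← RingHom.ker_eq_comap_bot, Ideal.mk_ker])
  have hmD : maximalIdeal B = (maximalIdeal D).comap mk :=
    (IsLocalRing.eq_maximalIdeal (Ideal.comap_isMaximal_of_surjective mk Ideal.Quotient.mk_surjective)).symm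
  have hP'max : P' ≠ maximalIdeal D := fun h => hne (by rw [← hcomapP, h, hmD])
  have hht : ∀ Q : Ideal D, Q.IsPrime → Q.height ≤ 1 → Q ≠ maximalIdeal D := by
    intro Q hQ hQ1 hQm
    have h1 : P'.height < (maximalIdeal D).height :=
      Ideal.height_strict_mono_of_isPrime ((IsLocalRing.le_maximalIdeal_of_isPrime P').lt_of_ne hP'max)
    have h2 : (⊥ : Ideal D).height < P'.height :=
      Ideal.height_strict_mono_of_isPrime (bot_lt_iff_ne_bot.2 hP'0)
    rw [hQm] at hQ1
    have h3 : P'.height < 1 := h1.trans_le hQ1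
    rw [ENat.lt_one_iff_eq_zero] at h3
    exact absurd (h3 ▸ h2) not_lt_zero
  have hfin := (Ideal.span {mk g}).finite_minimalPrimes_of_isNoetherianRing
  have hnot : ¬ (maximalIdeal D : Set D) ⊆ ⋃ Q ∈ (↑hfin.toFinset : Set (Ideal D)), (Q : Set D) := by
    rw [Ideal.subset_union_prime ⊥ ⊥ fun Q hQ _ _ =>
      ((Set.Finite.mem_toFinset hfin).1 hQ).1.1]
    rintro ⟨Q, hQ, hle⟩
    rw [Set.Finite.mem_toFinset] at hQ
    have : Q.IsPrime := hQ.1.1
    exact hht Q this (Ideal.height_le_one_of_isPrincipal_of_mem_minimalPrimes _ Q hQ)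
      ((IsLocalRing.le_maximalIdeal_of_isPrime Q).antisymm hle)
  rw [Set.not_subset] at hnot
  obtain ⟨c, hcm, hc⟩ := hnot
  simp only [Set.mem_iUnion, Finset.mem_coe, Set.Finite.mem_toFinset, not_exists, SetLike.mem_coe] at hc
  have hc0 : (Ideal.span {c}) ≠ ⊤ := fun h =>
    (IsLocalRing.maximalIdeal.isMaximal D).ne_top (eq_top_iff.2 (h ▸ (Ideal.span_singleton_le_iff_mem _).2 hcm))
  obtain ⟨R, hR⟩ := Ideal.nonempty_minimalPrimes hc0
  haveI := hR.1.1
  have hcR : c ∈ R := hR.1.2 (Ideal.mem_span_singleton_self c)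
  have hR1 : R.height ≤ 1 := Ideal.height_le_one_of_isPrincipal_of_mem_minimalPrimes _ R hR
  have hRm : R ≠ maximalIdeal D := hht R inferInstance hR1
  by_cases hgR : mk g ∈ R
  · obtain ⟨Q, hQ, hQR⟩ := Ideal.exists_minimalPrimes_le ((Ideal.span_singleton_le_iff_mem _).2 hgR)
    have : Q.IsPrime := hQ.1.1
    rcases eq_or_lt_of_le hQR with h | h
    · exact hc Q hQ (h ▸ hcR)
    · have hQ0 : Q ≠ ⊥ := fun h0 => by
        have : mk g ∈ Q := hQ.1.2 (Ideal.mem_span_singleton_self _)
        rw [h0, Ideal.mem_bot, Ideal.Quotient.eq_zero_iff_mem] at this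
        exact hgq this
      have h1 : Q.height < 1 := (Ideal.height_strict_mono_of_isPrime h).trans_le hR1
      have h2 : (⊥ : Ideal D).height < Q.height :=
        Ideal.height_strict_mono_of_isPrime (bot_lt_iff_ne_bot.2 hQ0)
      rw [ENat.lt_one_iff_eq_zero] at h1
      exact absurd (h1 ▸ h2) not_lt_zero
  · have hq : q ≤ R.comap mk := fun x hx => by
      rw [Ideal.mem_comap, Ideal.Quotient.eq_zero_iff_mem.2 hx]; exact zero_mem _
    rcases eq_or_lt_of_le hq with h | h
    · obtain ⟨c', rfl⟩ := Ideal.Quotient.mk_surjective c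
      have hc' : c' ∈ q := by rw [h]; exact hcR
      rw [Ideal.Quotient.eq_zero_iff_mem.2 hc'] at hc
      obtain ⟨Q, hQ⟩ := Ideal.nonempty_minimalPrimes (I := Ideal.span {mk g}) (fun htop => by
        have : mk g ∈ maximalIdeal D := by rw [← Ideal.mem_comap, ← hmD]; exact hg
        exact (IsLocalRing.maximalIdeal.isMaximal D).ne_top
          (eq_top_iff.2 (htop ▸ (Ideal.span_singleton_le_iff_mem _).2 this)))
      exact hc Q hQ (zero_mem _)
    · exact hgR (hmax _ (Ideal.IsPrime.comap _) h)

theorem exists_prime {A B : Type u} [CommRing A] [CommRing B] [IsLocalRing A] [IsLocalRing B]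
    [IsNoetherianRing A] [Algebra A B] [IsLocalHom (algebraMap A B)] [Algebra.EssFiniteType A B]
    [Module.Finite (ResidueField A) (ResidueField B)]
    (V : Set (PrimeSpectrum B)) (hV : IsOpen V)
    (hne : ∃ q ∈ V, q.asIdeal.comap (algebraMap A B) ≠ maximalIdeal A) :
    ∃ q ∈ V, q.asIdeal.comap (algebraMap A B) ≠ maximalIdeal A ∧
      Algebra.QuasiFinite A (B ⧸ q.asIdeal) := by
  obtain ⟨q₀, hq₀V, hq₀⟩ := hne
  haveI : IsNoetherianRing B := Algebra.EssFiniteType.isNoetherianRing A B
  obtain ⟨t, htA, htq⟩ : ∃ t ∈ maximalIdeal A, algebraMap A B t ∉ q₀.asIdeal := by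
    by_contra hcon
    simp only [not_exists, not_and, not_not] at hcon
    exact hq₀ ((IsLocalRing.le_maximalIdeal_of_isPrime _).antisymm hcon)
  obtain ⟨_, ⟨h, rfl⟩, hh, hhV⟩ :=
    PrimeSpectrum.isTopologicalBasis_basic_opens.exists_subset_of_mem_open hq₀V hV
  let g := h * algebraMap A B t
  have htB : algebraMap A B t ∈ maximalIdeal B := (map_nonunit (algebraMap A B) t htA : _)
  obtain ⟨q, ⟨hqp, hgq⟩, hqmax⟩ := set_has_maximal_iff_noetherian.2
    (inferInstance : IsNoetherian B B) {P : Ideal B | P.IsPrime ∧ g ∉ P}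
    ⟨q₀.asIdeal, q₀.2, q₀.2.mul_notMem hh htq⟩
  haveI := hqp
  have hmax := eq_maximalIdeal_of_lt (Ideal.mul_mem_left _ h htB) hgq
    fun P hP hlt => by_contra fun hgP => hqmax P ⟨hP, hgP⟩ hlt
  refine ⟨⟨q, hqp⟩, hhV (fun hmem => hgq (Ideal.mul_mem_right (algebraMap A B t) q hmem)), fun heq => hgq ?_, ?_⟩
  · refine Ideal.mul_mem_left q _ ?_
    exact Ideal.mem_comap.1 (heq.symm ▸ htA)
  · haveI : IsLocalRing (B ⧸ q) := .of_surjective' (Ideal.Quotient.mk q) Ideal.Quotient.mk_surjective
    haveI : IsLocalHom (Ideal.Quotient.mk q) := .of_surjective _ Ideal.Quotient.mk_surjective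
    haveI : IsLocalHom (algebraMap A (B ⧸ q)) :=
      (inferInstance : IsLocalHom ((Ideal.Quotient.mk q).comp (algebraMap A B)))
    haveI : Algebra.EssFiniteType A (B ⧸ q) := Algebra.EssFiniteType.comp A B (B ⧸ q)
    haveI : Module.Finite (ResidueField A) (ResidueField (B ⧸ q)) := by
      let ψ : ResidueField B →ₗ[ResidueField A] ResidueField (B ⧸ q) :=
        { toFun := ResidueField.map (Ideal.Quotient.mk q)
          map_add' := map_add _
          map_smul' := fun c x => by
            obtain ⟨c, rfl⟩ := IsLocalRing.residue_surjective c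
            obtain ⟨x, rfl⟩ := IsLocalRing.residue_surjective x
            rfl }
      refine Module.Finite.of_surjective ψ fun y => ?_
      obtain ⟨x, rfl⟩ := IsLocalRing.residue_surjective y
      obtain ⟨x, rfl⟩ := Ideal.Quotient.mk_surjective x
      exact ⟨IsLocalRing.residue B x, rfl⟩
    refine quasiFinite_of_closedFibre fun P hP hmP => ?_
    have hq : q ≤ P.comap (Ideal.Quotient.mk q) := fun x hx => by
      rw [Ideal.mem_comap, Ideal.Quotient.eq_zero_iff_mem.2 hx]; exact zero_mem _
    have htP : algebraMap A B t ∈ P.comap (Ideal.Quotient.mk q) := hmP (Ideal.mem_map_of_mem _ htA)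
    have hlt : q < P.comap (Ideal.Quotient.mk q) := hq.lt_of_ne fun he =>
      hgq (Ideal.mul_mem_left q _ (he.symm ▸ htP))
    have h2 := hmax _ (Ideal.IsPrime.comap _) hlt
    rw [← Ideal.map_comap_of_surjective _ Ideal.Quotient.mk_surjective P, h2]
    exact IsLocalRing.eq_maximalIdeal (Ideal.IsMaximal.map_of_surjective_of_ker_le
      Ideal.Quotient.mk_surjective (by rw [Ideal.mk_ker]; exact IsLocalRing.le_maximalIdeal_of_isPrime q))

end Groth.Agent.FlatB12.QFQuot
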