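import Groth.Agent.FlatB12.QFQuot

/-! # Closed subschemes quasi-finite at a closed point of a fibre, meeting an open -/

set_option linter.style.haveILetI false

universe u

open AlgebraicGeometry CategoryTheory Limits TopologicalSpace IsLocalRing

namespace Groth.Agent.FlatB12.QFQuotScheme

theorem isOpen_singleton_of_closed_of_minimal {F : Type*} [TopologicalSpace F] [NoetherianSpace F]
    [QuasiSober F] (x : F) (hx : IsClosed ({x} : Set F)) (hmin : ∀ y : F, y ⤳ x → y = x) :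
    IsOpen ({x} : Set F) := by
  have hfin := NoetherianSpace.finite_irreducibleComponents (α := F)
  have hC : IsClosed (⋃ Z ∈ {Z ∈ irreducibleComponents F | x ∉ Z}, Z) :=
    (hfin.subset fun Z hZ => hZ.1).isClosed_biUnion fun Z hZ => isClosed_of_mem_irreducibleComponents _ hZ.1
  convert hC.isOpen_compl
  ext y
  simp only [Set.mem_singleton_iff, Set.mem_compl_iff, Set.mem_iUnion, Set.mem_ofPred_eq, not_exists]
  constructor
  · rintro rfl Z ⟨_, hZ⟩ hy
    exact hZ hy
  · intro h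
    obtain ⟨Z, hZ, hyZ⟩ := Set.mem_sUnion.1 (sUnion_irreducibleComponents (X := F) ▸ Set.mem_univ y)
    have hxZ : x ∈ Z := by_contra fun hxZ => h Z ⟨hZ, hxZ⟩ hyZ
    obtain ⟨ζ, hζ⟩ := QuasiSober.sober hZ.1 (isClosed_of_mem_irreducibleComponents _ hZ)
    have hζx : ζ = x := hmin ζ (hζ.specializes hxZ)
    have hy' := (hζx ▸ hζ.specializes hyZ : x ⤳ y).mem_closure
    rw [hx.closure_eq] at hy'
    exact hy' 

theorem quasiFiniteAt_of_minimal {Z S : Scheme.{u}} (g : Z ⟶ S) [LocallyOfFiniteType g]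
    (z : Z) (hcl : IsClosed ({⟨z, rfl⟩} : Set ↑(g ⁻¹' {g z})))
    (hmin : ∀ y : Z, g y = g z → y ⤳ z → y = z) : g.QuasiFiniteAt z := by
  rw [Scheme.Hom.quasiFiniteAt_iff_isOpen_singleton_asFiber]
  let F := g.fiber (g z)
  let e := g.fiberHomeo (g z)
  haveI : LocallyOfFiniteType (g.fiberToSpecResidueField (g z)) :=
    inferInstanceAs (LocallyOfFiniteType (pullback.snd g (S.fromSpecResidueField (g z))))
  haveI : IsLocallyNoetherian F := LocallyOfFiniteType.isLocallyNoetherian (g.fiberToSpecResidueField (g z))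
  let w : F := g.asFiber z
  have hew : e w = ⟨z, rfl⟩ := Homeomorph.apply_symm_apply _ _
  obtain ⟨_, ⟨W, hW, rfl⟩, hwW, -⟩ := F.isBasis_affineOpens.exists_subset_of_mem_open (Set.mem_univ w) isOpen_univ
  haveI : IsNoetherianRing Γ(F, W) := IsLocallyNoetherian.component_noetherian ⟨W, hW⟩
  haveI : NoetherianSpace W := noetherianSpace_of_isAffineOpen W hW
  haveI : QuasiSober W := W.2.isOpenEmbedding_subtypeVal.quasiSober
  have hw : IsOpen ({⟨w, hwW⟩} : Set W) := by
    refine isOpen_singleton_of_closed_of_minimal _ ?_ ?_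
    · have : IsClosed (e ⁻¹' {⟨z, rfl⟩}) := hcl.preimage e.continuous
      rw [show ({⟨w, hwW⟩} : Set W) = Subtype.val ⁻¹' (e ⁻¹' {⟨z, rfl⟩}) by
        ext y
        exact ⟨fun h => (congrArg e (congrArg Subtype.val h)).trans hew,
          fun h => Subtype.ext (e.injective (h.trans hew.symm))⟩]
      exact this.preimage continuous_subtype_val
    · rintro y hy
      have h1 : e y.1 ⤳ e w := (hy.map continuous_subtype_val).map e.continuous
      rw [hew] at h1
      have h2 : e y.1 = ⟨z, rfl⟩ :=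
        Subtype.ext (hmin _ (e y.1).2 (h1.map continuous_subtype_val))
      exact Subtype.ext (e.injective (h2.trans hew.symm))
  have := W.2.isOpenEmbedding_subtypeVal.isOpenMap _ hw
  convert this using 1
  ext y
  exact ⟨fun h => ⟨⟨w, hwW⟩, rfl, h.symm⟩, fun ⟨_, h, h'⟩ => h'.symm.trans (congrArg Subtype.val h)⟩

theorem exists_subscheme {X S : Scheme.{u}} (f : X ⟶ S) [LocallyOfFiniteType f] [IsLocallyNoetherian S]
    (x : X) (hcl : IsClosed (Subtype.val ⁻¹' {x} : Set ↑(f ⁻¹' {f x}))) (U : X.Opens)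
    (hx' : ∃ x' : X, x' ∈ U ∧ x' ⤳ x ∧ f x' ≠ f x) :
    ∃ (I : X.IdealSheafData) (z₀ x₀ : ↑I.subscheme), I.subschemeι x₀ = x ∧
      (I.subschemeι ≫ f).QuasiFiniteAt x₀ ∧
      I.subschemeι z₀ ∈ U ∧ I.subschemeι z₀ ⤳ x ∧ f (I.subschemeι z₀) ≠ f x := by
  obtain ⟨x', hx'U, hx'x, hx'f⟩ := hx'
  haveI : IsLocallyNoetherian X := LocallyOfFiniteType.isLocallyNoetherian f
  haveI : IsNoetherianRing (X.presheaf.stalk x) := inferInstance
  let ι := X.fromSpecStalk x
  let φ := f.stalkMap x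
  have hfι : ∀ p, f (ι p) = S.fromSpecStalk (f x) (Spec.map φ p) := fun p => by
    rw [← Scheme.Hom.comp_apply, ← Scheme.Hom.comp_apply]
    exact congrArg (fun g : Spec _ ⟶ S => g p) (Scheme.SpecMap_stalkMap_fromSpecStalk (x := x) f).symm
  have hover : ∀ p, f (ι p) = f x ↔ (PrimeSpectrum.comap φ.hom p).asIdeal = maximalIdeal _ := by
    intro p
    rw [hfι]
    refine ⟨fun h => ?_, fun h => ?_⟩
    · have h1 : Spec.map φ p = closedPoint (S.presheaf.stalk (f x)) := by
        refine (S.fromSpecStalk (f x)).isEmbedding.injective ?_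
        rw [h, Scheme.fromSpecStalk_closedPoint]
      exact congrArg PrimeSpectrum.asIdeal h1
    · have h1 : Spec.map φ p = closedPoint (S.presheaf.stalk (f x)) := PrimeSpectrum.ext h
      rw [h1, Scheme.fromSpecStalk_closedPoint]
  obtain ⟨q₀, hq₀⟩ : ∃ q, ι q = x' := (Set.ext_iff.1 Scheme.range_fromSpecStalk x').2 hx'x
  obtain ⟨t, htm, htq⟩ : ∃ t ∈ maximalIdeal (S.presheaf.stalk (f x)), φ.hom t ∉ q₀.asIdeal := by
    by_contra hcon
    simp only [not_exists, not_and, not_not] at hcon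
    refine hx'f (hq₀ ▸ (hover q₀).2 ?_)
    exact (IsLocalRing.le_maximalIdeal_of_isPrime _).antisymm hcon
  obtain ⟨_, ⟨h, rfl⟩, hh, hhV⟩ := PrimeSpectrum.isTopologicalBasis_basic_opens.exists_subset_of_mem_open
    (show q₀ ∈ (ι ⁻¹ᵁ U : Set _) by show ι q₀ ∈ U; rw [hq₀]; exact hx'U) (ι ⁻¹ᵁ U).2
  have htB : φ.hom t ∈ maximalIdeal (X.presheaf.stalk x) := (map_nonunit φ.hom t htm : _)
  obtain ⟨q, ⟨hqp, hgq⟩, hqmax⟩ := set_has_maximal_iff_noetherian.2
    (inferInstance : IsNoetherian (X.presheaf.stalk x) (X.presheaf.stalk x))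
    {P : Ideal (X.presheaf.stalk x) | P.IsPrime ∧ h * φ.hom t ∉ P}
    ⟨q₀.asIdeal, q₀.2, q₀.2.mul_notMem hh htq⟩
  haveI := hqp
  have hmax := QFQuot.eq_maximalIdeal_of_lt (Ideal.mul_mem_left _ h htB) hgq
    fun P hP hlt => by_contra fun hgP => hqmax P ⟨hP, hgP⟩ hlt
  let qs : PrimeSpectrum (X.presheaf.stalk x) := ⟨q, hqp⟩
  let z : X := ι qs
  have hzx : z ⤳ x := (Set.ext_iff.1 Scheme.range_fromSpecStalk z).1 ⟨qs, rfl⟩
  have hzU : z ∈ U := hhV (show h ∉ q from fun hmem => hgq (Ideal.mul_mem_right _ q hmem))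
  have hzf : f z ≠ f x := fun he => hgq (Ideal.mul_mem_left q _ (by
    have h1 : (PrimeSpectrum.comap φ.hom qs).asIdeal = maximalIdeal _ := (hover qs).1 he
    rw [← h1] at htm
    exact htm))
  let Z : Closeds X := ⟨closure {z}, isClosed_closure⟩
  let I : X.IdealSheafData := Scheme.IdealSheafData.vanishingIdeal Z
  have hrange : Set.range I.subschemeι = closure {z} := by
    rw [Scheme.IdealSheafData.range_subschemeι]
    simp [I, Z]
  obtain ⟨z₀, hz₀⟩ : ∃ z₀, I.subschemeι z₀ = z := by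
    rw [← Set.mem_range, hrange]; exact subset_closure rfl
  obtain ⟨x₀, hx₀⟩ : ∃ x₀, I.subschemeι x₀ = x := by
    rw [← Set.mem_range, hrange]; exact hzx.mem_closure
  refine ⟨I, z₀, x₀, hx₀, ?_, hz₀ ▸ hzU, hz₀ ▸ hzx, hz₀ ▸ hzf⟩
  have hgx : ∀ y, (I.subschemeι ≫ f) y = f (I.subschemeι y) := fun y => Scheme.Hom.comp_apply _ _ _
  have hgx₀ : (I.subschemeι ≫ f) x₀ = f x := by rw [hgx, hx₀]
  refine quasiFiniteAt_of_minimal _ _ ?_ ?_
  · have hc : Continuous fun y : ↑((I.subschemeι ≫ f) ⁻¹' {(I.subschemeι ≫ f) x₀}) =>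
        (⟨I.subschemeι y.1, (hgx y.1).symm.trans (Eq.trans y.2 hgx₀)⟩ : ↑(f ⁻¹' {f x})) :=
      (I.subschemeι.continuous.comp continuous_subtype_val).subtype_mk _
    convert hcl.preimage hc using 1
    ext y
    simp only [Set.mem_singleton_iff, Set.mem_preimage]
    constructor
    · rintro rfl
      exact hx₀
    · intro hy
      exact Subtype.ext (I.subschemeι.isEmbedding.injective (hy.trans hx₀.symm))
  · intro y hy hspec
    have hyx : I.subschemeι y ⤳ x := hx₀ ▸ hspec.map I.subschemeι.continuous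
    obtain ⟨p, hp⟩ : ∃ p, ι p = I.subschemeι y := (Set.ext_iff.1 Scheme.range_fromSpecStalk _).2 hyx
    have hzy : z ⤳ I.subschemeι y := by
      rw [specializes_iff_mem_closure, ← hrange]; exact ⟨y, rfl⟩
    have hqp' : @Specializes (↥(Spec (X.presheaf.stalk x))) _ qs p := by
      refine ι.isEmbedding.isInducing.specializes_iff.1 ?_
      rw [hp]
      exact hzy
    have hpf : f (ι p) = f x := by
      rw [hp, ← hgx, hy, hgx₀]
    have hle : q ≤ p.asIdeal := (PrimeSpectrum.le_iff_specializes qs p).2 hqp'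
    rcases eq_or_lt_of_le hle with h' | h'
    · exfalso
      have : qs = p := PrimeSpectrum.ext h'
      exact hzf (by show f (ι qs) = f x; rw [this, hpf])
    · have hpm : p = closedPoint _ := PrimeSpectrum.ext (hmax _ p.2 h')
      refine I.subschemeι.isEmbedding.injective ?_
      rw [hx₀, ← hp, hpm]
      exact Scheme.fromSpecStalk_closedPoint

end Groth.Agent.FlatB12.QFQuotScheme
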