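import Groth.Agent.UnibEtale.Nhd

/-! # Unramified morphisms at a point over a geometrically unibranch point of an integral scheme -/

universe u
set_option autoImplicit false
set_option linter.style.haveILetI false
set_option backward.isDefEq.respectTransparency.types false

open AlgebraicGeometry CategoryTheory CategoryTheory.Limits

namespace Groth.Agent.FlatB12

theorem stalkMap_injective_of_generization {X Y : Scheme.{u}} (f : X ⟶ Y) [IsIntegral Y] (x x' : X) (h : x' ⤳ x)
    (hx' : f x' = genericPoint ↥Y) : Function.Injective (f.stalkMap x) := by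
  have hF : IsField (Y.presheaf.stalk (f x')) := by rw [hx']; exact Field.toIsField Y.functionField
  letI := hF.toField
  have hinj' : Function.Injective (f.stalkMap x') := (f.stalkMap x').hom.injective
  have hsp : f x' ⤳ f x := h.map f.continuous
  have hspec : Function.Injective (Y.presheaf.stalkSpecializes hsp) := by
    rw [injective_iff_map_eq_zero]
    intro a ha
    obtain ⟨W, hxW, s, rfl⟩ := Y.presheaf.germ_exist a
    rw [TopCat.Presheaf.germ_stalkSpecializes_apply] at ha
    have hs : s = 0 := germ_injective_of_isIntegral Y (f x') (hsp.mem_open W.2 hxW)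
      (ha.trans (map_zero _).symm)
    rw [hs, map_zero]
  intro a b hab
  refine hspec (hinj' ?_)
  rw [← CommRingCat.comp_apply, ← CommRingCat.comp_apply, Scheme.Hom.stalkSpecializes_stalkMap f x' x h,
    CommRingCat.comp_apply, CommRingCat.comp_apply, hab]

theorem etale_nhd {X Y : Scheme.{u}} (f : X ⟶ Y) [IsIntegral Y] [LocallyOfFiniteType f] [FormallyUnramified f]
    (x : X) (hY : CAlg2.IsGeomUnibranch (Y.presheaf.stalk (f x)))
    (hinj : Function.Injective (f.stalkMap x)) : ∃ U : X.Opens, x ∈ U ∧ Etale (U.ι ≫ f) := by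
  obtain ⟨W, hW, hxW, -⟩ := exists_isAffineOpen_mem_and_subset (x := f x) (U := ⊤) trivial
  obtain ⟨V, hV, hxV, hVW⟩ := exists_isAffineOpen_mem_and_subset (x := x) (U := f ⁻¹ᵁ W) hxW
  haveI : Nonempty W.toScheme := ⟨⟨f x, hxW⟩⟩
  haveI : IsDomain Γ(Y, W) := inferInstance
  have hFT := f.finiteType_appLE hW hV hVW
  algebraize [(f.appLE W V hVW).hom]
  let p := (hW.primeIdealOf ⟨f x, hVW hxV⟩).asIdeal
  let q := (hV.primeIdealOf ⟨x, hxV⟩).asIdeal
  have : q.LiesOver p :=
    ⟨congr($(IsAffineOpen.comap_primeIdealOf_appLE W hW V hV hVW hxV).1).symm⟩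
  let := Localization.AtPrime.algebraOfLiesOver p q
  have h1 : Algebra.FormallyUnramified (Localization.AtPrime p) (Localization.AtPrime q) := by
    rw [← RingHom.formallyUnramified_algebraMap]
    exact (RingHom.FormallyUnramified.respectsIso.arrow_mk_iso_iff
      (IsAffineOpen.arrowStalkMapIso f W hW V hV hVW hxV)).mp (FormallyUnramified.stalkMap f x)
  haveI : Algebra.IsUnramifiedAt Γ(Y, W) q :=
    Algebra.FormallyUnramified.comp _ (Localization.AtPrime p) _
  have hinj' : Function.Injective (Localization.localRingHom p q (algebraMap Γ(Y, W) Γ(X, V)) (q.over_def p)) :=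
    (RingHom.injective_respectsIso.arrow_mk_iso_iff
      (IsAffineOpen.arrowStalkMapIso f W hW V hV hVW hxV)).mp hinj
  obtain ⟨r, hr, he⟩ := UnibEtale.exists_away_etale Γ(Y, W) Γ(X, V) q p (q.over_def p)
    (UnibEtale.isGeomUnibranch_of_ringEquiv (UnibEtale.stalkEquiv hW (hVW hxV)) hY) hinj'
  have hle : X.basicOpen r ≤ f ⁻¹ᵁ W := (X.basicOpen_le r).trans hVW
  refine ⟨X.basicOpen r, StalkLoc7.mem_basicOpen hV hxV hr, ?_⟩
  haveI : IsAffine W.toScheme := hW
  haveI : IsAffine (X.basicOpen r).toScheme := hV.basicOpen r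
  rw [← Scheme.Hom.resLE_comp_ι f hle]
  haveI : Etale (f.resLE W (X.basicOpen r) hle) := by
    rw [HasRingHomProperty.iff_of_isAffine (P := @Etale)]
    refine (RingHom.Etale.respectsIso.arrow_mk_iso_iff
      (arrowResLEAppIso f W (X.basicOpen r) hle)).mpr ?_
    have := hV.isLocalization_basicOpen r
    convert RingHom.Etale.respectsIso.1 _
      (IsLocalization.algEquiv (.powers r) _ Γ(X, X.basicOpen r)).toRingEquiv he
    ext a
    exact StalkLoc7.appLE_eq f hVW r a
  infer_instance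

theorem etale_nhd_of_unramified_nhd {X Y : Scheme.{u}} (f : X ⟶ Y) [IsIntegral Y] [LocallyOfFiniteType f] (x : X)
    (hY : CAlg2.IsGeomUnibranch (Y.presheaf.stalk (f x))) (hsp : ∃ x' : X, x' ⤳ x ∧ f x' = genericPoint ↥Y)
    (hunr : ∃ U : X.Opens, x ∈ U ∧ FormallyUnramified (U.ι ≫ f)) :
    ∃ U : X.Opens, x ∈ U ∧ Etale (U.ι ≫ f) := by
  obtain ⟨U, hxU, hU⟩ := hunr
  obtain ⟨x', hx', hfx'⟩ := hsp
  have hx'U : x' ∈ U := hx'.mem_open U.2 hxU
  have hinj : Function.Injective ((U.ι ≫ f).stalkMap ⟨x, hxU⟩) :=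
    stalkMap_injective_of_generization _ _ ⟨x', hx'U⟩
      (Topology.IsInducing.subtypeVal.specializes_iff.1 hx') hfx'
  obtain ⟨V, hxV, hV⟩ := etale_nhd (U.ι ≫ f) (⟨x, hxU⟩ : U.toScheme) hY hinj
  refine ⟨U.ι ''ᵁ V, ⟨_, hxV, rfl⟩, ?_⟩
  have : (U.ι ''ᵁ V).ι = (U.ι.isoImage V).inv ≫ V.ι ≫ U.ι := by rw [Scheme.Hom.isoImage_inv_ι]
  rw [this]
  simp only [Category.assoc]
  infer_instance

end Groth.Agent.FlatB12
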