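import Mathlib

/-! # Universal openness of a finite algebra, read on a linear form -/

set_option linter.style.haveILetI false

universe u

open TensorProduct AlgebraicGeometry CategoryTheory Limits MorphismProperty

namespace Groth.Agent.FlatB12.UnivOpenLinear

/-- A morphism of affine schemes is universally open if all images of basic opens after affine
base changes are open. -/
theorem universallyOpen_spec {A B : Type u} [CommRing A] [CommRing B] [Algebra A B]
    (h : ∀ (A' : Type u) [CommRing A'] [Algebra A A'] (g : A' ⊗[A] B),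
      IsOpen (PrimeSpectrum.comap (algebraMap A' (A' ⊗[A] B)) ''
        (PrimeSpectrum.basicOpen g : Set (PrimeSpectrum (A' ⊗[A] B))))) :
    UniversallyOpen (Spec.map (CommRingCat.ofHom (algebraMap A B))) := by
  rw [UniversallyOpen.eq]
  intro X' Y' i₁ i₂ f' hf
  rw [IsZariskiLocalAtTarget.iff_of_openCover (P := topologically @IsOpenMap) Y'.affineCover]
  intro i
  suffices key : ∀ (T : CommRingCat.{u}) (c : Spec T ⟶ Y'), IsOpenMap (pullback.snd f' c).base from
    key _ (Y'.affineCover.f i)
  intro T c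
  obtain ⟨φ, hφ⟩ := Spec.map_surjective (c ≫ i₂)
  letI : Algebra A T := φ.hom.toAlgebra
  have hopen : IsOpenMap (Spec.map (CommRingCat.ofHom
      (Algebra.TensorProduct.includeLeftRingHom : T →+* T ⊗[A] B))).base := by
    refine (PrimeSpectrum.isBasis_basic_opens.isOpenMap_iff).2 ?_
    rintro _ ⟨_, ⟨g, rfl⟩, rfl⟩
    exact h T g
  have hP : IsPullback (pullback.fst f' c ≫ i₁) (pullback.snd f' c)
      (Spec.map (CommRingCat.ofHom (algebraMap A B))) (Spec.map φ) := by
    rw [hφ]
    exact (IsPullback.of_hasPullback f' c).paste_horiz hf.flip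
  have hQ : IsPullback
      (Spec.map (CommRingCat.ofHom (Algebra.TensorProduct.includeRight.toRingHom : B →+* T ⊗[A] B)))
      (Spec.map (CommRingCat.ofHom (Algebra.TensorProduct.includeLeftRingHom : T →+* T ⊗[A] B)))
      (Spec.map (CommRingCat.ofHom (algebraMap A B))) (Spec.map φ) :=
    isPullback_SpecMap_of_isPushout _ _ _ _ (CommRingCat.isPushout_tensorProduct A T B).flip
  rw [← hP.isoIsPullback_hom_snd _ _ hQ]
  exact hopen.comp (Scheme.homeoOfIso (hP.isoIsPullback _ _ hQ)).isOpenMap

/-- A point of a tensor product over a compatible pair of points, missing a given element. -/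
theorem exists_prime_tensor {P Q A' : Type u} [CommRing P] [CommRing Q] [CommRing A'] (Φ : P →+* A')
    (μ : P →+* Q) (q : PrimeSpectrum Q) (p' : PrimeSpectrum A')
    (hcomp : PrimeSpectrum.comap μ q = PrimeSpectrum.comap Φ p') :
    ∃ (L : Type u) (_ : Field L) (a : A' →+* L) (c : Q →+* L), a.comp Φ = c.comp μ ∧
      RingHom.ker a = p'.asIdeal ∧ RingHom.ker c = q.asIdeal := by
  letI := Φ.toAlgebra
  letI := μ.toAlgebra
  let p₀ := (PrimeSpectrum.comap Φ p').asIdeal
  haveI : p'.asIdeal.LiesOver p₀ := ⟨rfl⟩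
  haveI : q.asIdeal.LiesOver p₀ := ⟨(congrArg PrimeSpectrum.asIdeal hcomp).symm⟩
  let κ := p₀.ResidueField
  let a₀ : κ →+* p'.asIdeal.ResidueField := Ideal.ResidueField.map p₀ p'.asIdeal Φ rfl
  let c₀ : κ →+* q.asIdeal.ResidueField :=
    Ideal.ResidueField.map p₀ q.asIdeal μ (congrArg PrimeSpectrum.asIdeal hcomp).symm
  letI := a₀.toAlgebra
  letI := c₀.toAlgebra
  haveI : Nontrivial (p'.asIdeal.ResidueField ⊗[κ] q.asIdeal.ResidueField) :=
    Algebra.TensorProduct.nontrivial_of_algebraMap_injective_of_flat_left κ _ _ c₀.injective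
  obtain ⟨m, hm⟩ := Ideal.exists_maximal (p'.asIdeal.ResidueField ⊗[κ] q.asIdeal.ResidueField)
  letI := Ideal.Quotient.field m
  let a₁ : p'.asIdeal.ResidueField →+* _ ⧸ m :=
    (Ideal.Quotient.mk m).comp Algebra.TensorProduct.includeLeftRingHom
  let c₁ : q.asIdeal.ResidueField →+* _ ⧸ m :=
    (Ideal.Quotient.mk m).comp Algebra.TensorProduct.includeRight.toRingHom
  refine ⟨_, inferInstance, a₁.comp (algebraMap A' _), c₁.comp (algebraMap Q _), ?_, ?_, ?_⟩
  · refine RingHom.ext fun x => ?_
    simp only [RingHom.comp_apply]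
    rw [← Ideal.ResidueField.map_algebraMap p₀ p'.asIdeal Φ rfl,
      ← Ideal.ResidueField.map_algebraMap p₀ q.asIdeal μ (congrArg PrimeSpectrum.asIdeal hcomp).symm]
    change Ideal.Quotient.mk m ((algebraMap κ _ _) ⊗ₜ[κ] 1) = Ideal.Quotient.mk m (1 ⊗ₜ[κ] (algebraMap κ _ _))
    congr 1
    have key : ∀ y : κ, (algebraMap κ p'.asIdeal.ResidueField y) ⊗ₜ[κ] (1 : q.asIdeal.ResidueField) =
        (1 : p'.asIdeal.ResidueField) ⊗ₜ[κ] (algebraMap κ q.asIdeal.ResidueField y) := fun y => by
      rw [Algebra.algebraMap_eq_smul_one, Algebra.algebraMap_eq_smul_one, TensorProduct.smul_tmul]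
    exact key _
  · rw [← RingHom.comap_ker, (RingHom.injective_iff_ker_eq_bot a₁).1 a₁.injective]
    exact Ideal.ker_algebraMap_residueField _
  · rw [← RingHom.comap_ker, (RingHom.injective_iff_ker_eq_bot c₁).1 c₁.injective]
    exact Ideal.ker_algebraMap_residueField _

theorem universallyOpen_of_linear {A B : Type u} [CommRing A] [CommRing B] [Algebra A B] {d : ℕ}
    (b : Fin d → B) (hb : Submodule.span A (Set.range b) = ⊤)
    (h : IsOpen (PrimeSpectrum.comap (MvPolynomial.map (σ := Fin d) (algebraMap A B)) ''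
        (PrimeSpectrum.basicOpen (∑ i : Fin d, MvPolynomial.X i * MvPolynomial.C (b i)) :
          Set (PrimeSpectrum (MvPolynomial (Fin d) B))))) :
    UniversallyOpen (Spec.map (CommRingCat.ofHom (algebraMap A B))) := by
  refine universallyOpen_spec fun A' _ _ g => ?_
  obtain ⟨a, rfl⟩ : ∃ a : Fin d → A', ∑ i, a i ⊗ₜ[A] b i = g := by
    induction g using TensorProduct.induction_on with
    | zero => exact ⟨0, by simp⟩
    | tmul x y =>
      obtain ⟨c, hc⟩ := (Submodule.mem_span_range_iff_exists_fun A).1 (hb ▸ Submodule.mem_top (x := y))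
      exact ⟨fun i => c i • x, by simp [← hc, TensorProduct.tmul_sum, TensorProduct.smul_tmul]⟩
    | add x y hx hy =>
      obtain ⟨c, rfl⟩ := hx
      obtain ⟨e, rfl⟩ := hy
      exact ⟨c + e, by simp [TensorProduct.add_tmul, Finset.sum_add_distrib]⟩
  let Φ : MvPolynomial (Fin d) A →+* A' := MvPolynomial.eval₂Hom (algebraMap A A') a
  let ι : A' →+* A' ⊗[A] B := algebraMap A' (A' ⊗[A] B)
  let ψ : MvPolynomial (Fin d) B →+* A' ⊗[A] B := MvPolynomial.eval₂Hom
    Algebra.TensorProduct.includeRight.toRingHom fun i => ι (a i)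
  have hψ : ψ (∑ i : Fin d, MvPolynomial.X i * MvPolynomial.C (b i)) = ∑ i, a i ⊗ₜ[A] b i := by
    simp [ψ, ι]
  have hcomm : ψ.comp (MvPolynomial.map (algebraMap A B)) = ι.comp Φ := by
    apply MvPolynomial.ringHom_ext
    · intro r
      simp [ψ, Φ, ι]
    · intro i; simp [ψ, Φ, ι]
  suffices e : PrimeSpectrum.comap ι '' (PrimeSpectrum.basicOpen (∑ i, a i ⊗ₜ[A] b i) : Set _) =
      PrimeSpectrum.comap Φ ⁻¹' (PrimeSpectrum.comap (MvPolynomial.map (algebraMap A B)) ''
        (PrimeSpectrum.basicOpen (∑ i : Fin d, MvPolynomial.X i * MvPolynomial.C (b i)) : Set _)) by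
    show IsOpen (PrimeSpectrum.comap ι '' _)
    rw [e]
    exact h.preimage (PrimeSpectrum.continuous_comap Φ)
  apply Set.Subset.antisymm
  · rintro _ ⟨x, hx, rfl⟩
    refine ⟨PrimeSpectrum.comap ψ x, ?_, ?_⟩
    · show ψ _ ∉ x.asIdeal
      rw [hψ]; exact hx
    · rw [← PrimeSpectrum.comap_comp_apply, ← PrimeSpectrum.comap_comp_apply, hcomm]
  · rintro p' ⟨q, hq, hcomp⟩
    obtain ⟨L, _, α, c, hac, hα, hc⟩ := exists_prime_tensor Φ (MvPolynomial.map (algebraMap A B)) q p' hcomp
    letI := (α.comp (algebraMap A A')).toAlgebra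
    let γ : A' ⊗[A] B →ₐ[A] L := Algebra.TensorProduct.lift
      ⟨α, fun _ => rfl⟩
      ⟨c.comp MvPolynomial.C, fun r => by
        have := RingHom.congr_fun hac (MvPolynomial.C r)
        simpa [Φ, RingHom.algebraMap_toAlgebra] using this.symm⟩ (fun _ _ => .all _ _)
    refine ⟨⟨RingHom.ker γ.toRingHom, RingHom.ker_isPrime _⟩, ?_, ?_⟩
    · show γ (∑ i, a i ⊗ₜ[A] b i) ≠ 0
      have hne : c (∑ i : Fin d, MvPolynomial.X i * MvPolynomial.C (b i)) ≠ 0 := by
        intro h0
        exact hq (by rw [← hc]; exact h0)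
      convert hne using 1
      simp only [map_sum, map_mul, γ, Algebra.TensorProduct.lift_tmul]
      refine Finset.sum_congr rfl fun i _ => ?_
      have := RingHom.congr_fun hac (MvPolynomial.X i)
      simp [Φ] at this
      simp [← this]
    · ext x
      rw [← hα]
      simp [ι, γ, RingHom.mem_ker]

attribute [local instance] MvPolynomial.algebraMvPolynomial in
theorem iff_linear {A B : Type u} [CommRing A] [CommRing B] [Algebra A B] {d : ℕ}
    (b : Fin d → B) (hb : Submodule.span A (Set.range b) = ⊤) :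
    UniversallyOpen (Spec.map (CommRingCat.ofHom (algebraMap A B))) ↔
      IsOpen (PrimeSpectrum.comap (MvPolynomial.map (σ := Fin d) (algebraMap A B)) ''
        (PrimeSpectrum.basicOpen (∑ i : Fin d, MvPolynomial.X i * MvPolynomial.C (b i)) :
          Set (PrimeSpectrum (MvPolynomial (Fin d) B)))) := by
  refine ⟨fun h => ?_, universallyOpen_of_linear b hb⟩
  have hQ := isPullback_SpecMap_of_isPushout _ _ _ _
    (CommRingCat.isPushout_of_isPushout A (MvPolynomial (Fin d) A) B (MvPolynomial (Fin d) B))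
  have h' := MorphismProperty.of_isPullback (P := @UniversallyOpen) hQ.flip h
  exact h'.universally_isOpenMap _ _ _ IsPullback.of_id_snd _ (PrimeSpectrum.basicOpen _).2

end Groth.Agent.FlatB12.UnivOpenLinear
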