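import Groth.Agent.RGCore.FiniteAt
import Mathlib.RingTheory.EssentialFiniteness
import Mathlib.LinearAlgebra.TensorProduct.RightExactness
import Mathlib.LinearAlgebra.TensorProduct.Quotient
import Mathlib.RingTheory.Ideal.Quotient.Basic

/-!
# Injectivity and flat cokernel from injectivity on the closed fibre
-/

set_option autoImplicit false
set_option linter.style.haveILetI false

universe u

open TensorProduct IsLocalRing

namespace Groth.Agent.FlatB12

/-- The cokernel of a universally injective map into a flat module is flat. -/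
theorem flat_quotient_range_of_univInj {A N M : Type u} [CommRing A] [AddCommGroup N] [Module A N]
    [AddCommGroup M] [Module A M] [Module.Flat A M] (f : N →ₗ[A] M) (hf : FlatCA.UnivInj A f) :
    Module.Flat A (M ⧸ LinearMap.range f) := by
  rw [Module.Flat.iff_rTensor_preserves_injective_linearMap]
  intro K K' _ _ _ _ g hg
  rw [injective_iff_map_eq_zero]
  intro z hz
  let π := (LinearMap.range f).mkQ
  have hπ : Function.Exact f π := LinearMap.exact_map_mkQ_range f
  obtain ⟨y, rfl⟩ := LinearMap.lTensor_surjective K (Submodule.mkQ_surjective (LinearMap.range f)) z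
  have h1 : (π.lTensor K') ((g.rTensor M) y) = 0 := by
    rw [← hz, ← LinearMap.comp_apply, ← LinearMap.comp_apply, LinearMap.lTensor_comp_rTensor,
      LinearMap.rTensor_comp_lTensor]
  obtain ⟨w, hw⟩ := ((lTensor_exact K' hπ (Submodule.mkQ_surjective _)) _).1 h1
  let q := (LinearMap.range g).mkQ
  have hq : Function.Exact g q := LinearMap.exact_map_mkQ_range g
  have h2 : q.rTensor N w = 0 := by
    refine hf _ ?_
    rw [map_zero, ← LinearMap.comp_apply, LinearMap.lTensor_comp_rTensor, ← LinearMap.rTensor_comp_lTensor,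
      LinearMap.comp_apply, hw, ← LinearMap.rTensor_comp_apply, hq.linearMap_comp_eq_zero, LinearMap.rTensor_zero,
      LinearMap.zero_apply]
  obtain ⟨w₀, hw₀⟩ := ((rTensor_exact N hq (Submodule.mkQ_surjective _)) _).1 h2
  have h3 : g.rTensor M (f.lTensor K w₀) = g.rTensor M y := by
    rw [← hw, ← hw₀, ← LinearMap.comp_apply, ← LinearMap.comp_apply, LinearMap.rTensor_comp_lTensor,
      LinearMap.lTensor_comp_rTensor]
  rw [← Module.Flat.rTensor_preserves_injective_linearMap g hg h3, ← LinearMap.lTensor_comp_apply,
    hπ.linearMap_comp_eq_zero, LinearMap.lTensor_zero, LinearMap.zero_apply]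

set_option maxHeartbeats 800000 in
/-- Over any local base, injectivity on the closed fibre of a map of finite modules over an essentially finite
type local algebra, into a flat module, gives injectivity and flat cokernel. -/
theorem injective_and_flat_coker {A B : Type u} [CommRing A] [IsLocalRing A] [CommRing B] [IsLocalRing B]
    [Algebra A B] [IsLocalHom (algebraMap A B)] [Algebra.EssFiniteType A B]
    {N M : Type u} [AddCommGroup N] [Module B N] [Module A N] [IsScalarTower A B N] [Module.Finite B N]
    [AddCommGroup M] [Module B M] [Module A M] [IsScalarTower A B M] [Module.Flat A M] (u : N →ₗ[B] M)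
    (hu : ∀ n : N, u n ∈ (maximalIdeal A • ⊤ : Submodule A M) → n ∈ (maximalIdeal A • ⊤ : Submodule A N)) :
    Function.Injective u ∧ Module.Flat A (M ⧸ LinearMap.range u) := by
  classical
  let S := Algebra.EssFiniteType.subalgebra A B
  let q : Ideal S := (maximalIdeal B).comap (algebraMap S B)
  let p := maximalIdeal A
  haveI : q.LiesOver p := ⟨by
    rw [Ideal.under_def, Ideal.comap_comap, ← IsScalarTower.algebraMap_eq]
    exact Ideal.ext fun a => (not_congr (isUnit_map_iff (algebraMap A B) a)).symm⟩
  have hunit : ∀ s : q.primeCompl, IsUnit (algebraMap S B s) := fun s => not_not.1 fun h => s.2 h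
  obtain ⟨G, hG⟩ := (Module.Finite.fg_top : (⊤ : Submodule B N).FG)
  let N₀ : Submodule S N := Submodule.span S (G : Set N)
  haveI : Module.Finite S N₀ := Module.Finite.iff_fg.2 ⟨G, rfl⟩
  have hsurj : ∀ y : N, ∃ s : q.primeCompl, (s : S) • y ∈ N₀ := by
    intro y
    have hy : y ∈ Submodule.span B (G : Set N) := hG ▸ trivial
    induction hy using Submodule.span_induction with
    | mem v hv => exact ⟨1, by rw [OneMemClass.coe_one, one_smul]; exact Submodule.subset_span hv⟩
    | zero => exact ⟨1, by rw [smul_zero]; exact zero_mem _⟩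
    | add a b _ _ ha hb =>
      obtain ⟨s, hs⟩ := ha
      obtain ⟨t, ht⟩ := hb
      refine ⟨s * t, ?_⟩
      rw [smul_add, Submonoid.coe_mul]
      exact add_mem (by rw [mul_comm, mul_smul]; exact N₀.smul_mem _ hs) (by rw [mul_smul]; exact N₀.smul_mem _ ht)
    | smul b v _ hv =>
      obtain ⟨s, hs⟩ := hv
      obtain ⟨⟨a, t⟩, hat⟩ := IsLocalization.surj (Algebra.EssFiniteType.submonoid A B) b
      have ht : (t : S) ∈ q.primeCompl := fun h => (IsLocalRing.mem_maximalIdeal _).1 h t.2
      refine ⟨⟨t, ht⟩ * s, ?_⟩
      rw [Submonoid.coe_mul]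
      have h1 : ((t : S) * (s : S)) • b • v = a • (s : S) • v := by
        rw [← algebraMap_smul B ((t : S) * (s : S)) (b • v), ← algebraMap_smul B a ((s : S) • v),
          ← algebraMap_smul B (s : S) v, smul_smul, smul_smul, ← hat, map_mul]
        congr 1
        ring
      exact h1 ▸ N₀.smul_mem a hs
  haveI hloc : IsLocalizedModule q.primeCompl N₀.subtype :=
    { map_units := fun s => by
        rw [Module.End.isUnit_iff]
        refine ⟨fun x y h => ?_, fun x => ⟨((↑(hunit s).unit⁻¹ : B)) • x, ?_⟩⟩
        · refine (hunit s).smul_left_cancel.1 ?_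
          rwa [algebraMap_smul, algebraMap_smul]
        · show (s : S) • ((↑(hunit s).unit⁻¹ : B) • x) = x
          rw [← algebraMap_smul B (s : S) ((↑(hunit s).unit⁻¹ : B) • x), smul_smul, IsUnit.mul_val_inv, one_smul]
      surj := fun y => (hsurj y).elim fun s hs => ⟨(⟨_, hs⟩, s), rfl⟩
      exists_of_eq := fun h => ⟨1, by rw [Subtype.val_injective h]⟩ }
  let u₀ : N₀ →ₗ[S] M := u.restrictScalars S ∘ₗ N₀.subtype
  let e := fun (P : Type u) [AddCommGroup P] [Module A P] =>
    (TensorProduct.congr (AlgEquiv.ofBijective (Algebra.ofId (A ⧸ p) p.ResidueField |>.restrictScalars A)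
      p.bijective_algebraMap_quotient_residueField).symm.toLinearEquiv (LinearEquiv.refl A P)).trans
      (TensorProduct.quotTensorEquivQuotSMul P p)
  have he : ∀ (P : Type u) [AddCommGroup P] [Module A P] (x : P),
      e P ((1 : p.ResidueField) ⊗ₜ x) = Submodule.Quotient.mk x := fun P _ _ x => by
    simp only [e, LinearEquiv.trans_apply, TensorProduct.congr_tmul, LinearEquiv.refl_apply]
    rw [AlgEquiv.toLinearEquiv_apply, map_one, show (1 : A ⧸ p) = Ideal.Quotient.mk p 1 from rfl,
      TensorProduct.quotTensorEquivQuotSMul_mk_tmul, one_smul]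
  have hone : ∀ (P : Type u) [AddCommGroup P] [Module A P] (w : p.ResidueField ⊗[A] P), ∃ x, w = 1 ⊗ₜ x :=
    fun P _ _ w => by
      obtain ⟨x, hx⟩ := Submodule.Quotient.mk_surjective _ (e P w)
      exact ⟨x, (e P).injective (by rw [he, hx])⟩
  have hinj : ∀ w : p.ResidueField ⊗[A] N, (u.restrictScalars A).lTensor p.ResidueField w = 0 → w = 0 := by
    intro w hw
    obtain ⟨n, rfl⟩ := hone N w
    rw [LinearMap.lTensor_tmul, LinearMap.coe_restrictScalars] at hw
    have h1 : u n ∈ (p • ⊤ : Submodule A M) := by
      rw [← Submodule.Quotient.mk_eq_zero, ← he M, hw, map_zero]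
    exact (e N).injective (by rw [map_zero, he, Submodule.Quotient.mk_eq_zero]; exact hu n h1)
  obtain ⟨-, huniv, -, -⟩ := RGCore.finite_at (A := A) p q u₀ (fun w hw => by
    obtain ⟨t, ht, htw⟩ := RGCore.exists_smul_eq_zero_of_lTensor q.primeCompl N₀.subtype w (by
      refine hinj _ ?_
      rw [← LinearMap.lTensor_comp_apply]
      exact hw)
    exact ⟨t, ht, htw⟩)
  let lN := LocalizedModule.mkLinearMap q.primeCompl N₀
  let lM := LocalizedModule.mkLinearMap q.primeCompl M
  let eN := IsLocalizedModule.iso q.primeCompl N₀.subtype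
  have hU : FlatCA.UnivInj A (u.restrictScalars A) := by
    intro Q _ _
    rw [injective_iff_map_eq_zero]
    intro z hz
    have key : IsLocalizedModule.map q.primeCompl lN lM u₀ ∘ₗ eN.symm.toLinearMap = lM ∘ₗ u.restrictScalars S := by
      refine IsLocalizedModule.ext q.primeCompl N₀.subtype (IsLocalizedModule.map_units lM) ?_
      rw [LinearMap.comp_assoc, IsLocalizedModule.iso_symm_comp, IsLocalizedModule.map_comp, LinearMap.comp_assoc]
    have h1 : (IsLocalizedModule.map q.primeCompl lN lM u₀).restrictScalars A ∘ₗ eN.symm.toLinearMap.restrictScalars A =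
        (lM.restrictScalars A) ∘ₗ (u.restrictScalars A) :=
      LinearMap.ext fun y => LinearMap.congr_fun key y
    have h0 : (eN.symm.toLinearMap.restrictScalars A).lTensor Q z = 0 := huniv Q (by
      rw [← LinearMap.lTensor_comp_apply, h1, LinearMap.lTensor_comp_apply, hz, map_zero, map_zero])
    have h2 := congrArg ((eN.toLinearMap.restrictScalars A).lTensor Q) h0
    rw [← LinearMap.lTensor_comp_apply, map_zero,
      show eN.toLinearMap.restrictScalars A ∘ₗ eN.symm.toLinearMap.restrictScalars A = LinearMap.id from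
        LinearMap.ext eN.apply_symm_apply, LinearMap.lTensor_id] at h2
    exact h2
  refine ⟨fun a b hab => ?_, ?_⟩
  · have := hU A (a₁ := (1 : A) ⊗ₜ a) (a₂ := (1 : A) ⊗ₜ b) (by simp [hab])
    simpa using congr(TensorProduct.lid A _ $this)
  · exact flat_quotient_range_of_univInj (u.restrictScalars A) hU

end Groth.Agent.FlatB12
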