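import Groth.Agent.H9Misc.DRingTorRestrict
import Groth.Agent.WEtLib.Basic
import Groth.Agent.Hensel.HenselizationDescent
import Groth.Agent.Hensel.Colim
import Groth.Agent.S0736

/-! # Tor amplitude and weakly étale ring maps -/

set_option linter.style.haveILetI false

universe u

open CategoryTheory CategoryTheory.Category CategoryTheory.Limits

attribute [local instance] HasDerivedCategory.standard

namespace Groth.Agent.FlatB12.WEtTor

open Groth.Agent.KFlatLib Groth.Agent.H9Misc

variable {A B : Type u} [CommRing A] [CommRing B] [Algebra A B]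

/-- Tor amplitude over the base gives tor amplitude over a weakly étale algebra. -/
theorem of_restrict [Algebra.WeaklyEtale A B] (K : Dual.D B) (a b : ℤ)
    (h : DRing.HasTorAmplitudeIn A a b ((DRing.restrictD (algebraMap A B)).obj K)) :
    DRing.HasTorAmplitudeIn B a b K := by
  let φ := algebraMap A B
  obtain ⟨P, hP, -, ⟨eP⟩⟩ := DRingLTensor.exists_rep K
  obtain ⟨E, hz, -, ⟨eE⟩⟩ := id h
  have hzP : ∀ i, i < a ∨ b < i → IsZero (P.homology i) := by
    intro i hi
    have h1 : IsZero ((DerivedCategory.homologyFunctor (ModuleCat.{u} A) i).obj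
        ((DRing.restrictD φ).obj K)) :=
      (ShortComplex.isZero_homology_of_isZero_X₂ _ (hz i hi)).of_iso
        (((DerivedCategory.homologyFunctor (ModuleCat.{u} A) i).mapIso eE).symm ≪≫
          (DerivedCategory.homologyFunctorFactors (ModuleCat.{u} A) i).app E)
    have h2 : IsZero ((DerivedCategory.homologyFunctor (ModuleCat.{u} B) i).obj K) := by
      have h3 := h1.of_iso ((mapDCHomologyIso (ModuleCat.restrictScalars φ) i).app K).symm
      rw [IsZero.iff_id_eq_zero]
      apply (ModuleCat.restrictScalars φ).map_injective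
      rw [Functor.map_zero]
      exact h3.eq_of_src _ _
    exact h2.of_iso
      (((DerivedCategory.homologyFunctor (ModuleCat.{u} B) i).mapIso eP).symm ≪≫
        (DerivedCategory.homologyFunctorFactors (ModuleCat.{u} B) i).app P).symm
  obtain ⟨R, ψ, hψ, hflat, hRb⟩ := (ringCover B).exists_bounded_resolution P b
    fun m hm => hzP m (Or.inr hm)
  haveI := hψ
  haveI : IsIso (DerivedCategory.Q.map ψ) :=
    (DerivedCategory.isIso_Q_map_iff_quasiIso _ _).2 inferInstance
  let eR : DerivedCategory.Q.obj R ≅ K := asIso (DerivedCategory.Q.map ψ) ≪≫ eP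
  let X : DRing.Cx A := (DRing.restrictCx φ).obj R
  have hflatA : DRing.TermwiseFlat X := fun i => by
    letI : Module A (R.X i) := Module.compHom _ φ
    haveI : IsScalarTower A B (R.X i) := IsScalarTower.of_algebraMap_smul fun _ _ => rfl
    haveI : Module.Flat B (R.X i) := hflat i
    exact (Module.Flat.trans A B (R.X i) :)
  have hbX : DRing.VanishesAbove X b := fun i hi =>
    (ModuleCat.restrictScalars φ).map_isZero (hRb i hi)
  have hV : DRingTor.Van a b X := (DRingTor.iff_van (DRingTor.isKF_of_flat hflatA hbX)
    (((ModuleCat.restrictScalars φ).mapDerivedCategoryFactors.app R).symm ≪≫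
      (DRing.restrictD φ).mapIso eR)).1 h
  let C := (R.X a) ⧸ LinearMap.range (R.d (a - 1) a).hom
  haveI hCA := DRingTor.flat_range_quotient hflatA (a - 1 - 1) (a - 1) a (by omega) (by omega)
    fun M => hV M (a - 1) (Or.inl (by omega))
  letI : Module A (R.X a) := Module.compHom _ φ
  haveI : IsScalarTower A B (R.X a) := IsScalarTower.of_algebraMap_smul fun _ _ => rfl
  haveI : Module.Flat A C := Module.Flat.of_linearEquiv
    (M := (X.X a) ⧸ LinearMap.range (X.d (a - 1) a).hom)
    { toFun := id
      invFun := id
      map_add' := fun _ _ => rfl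
      map_smul' := fun r z => by
        induction z using Quotient.inductionOn
        rfl
      left_inv := fun _ => rfl
      right_inv := fun _ => rfl }
  haveI : Module.Flat B C := WEtLib.flat_of_flat (A := A) C
  haveI : Module.Flat B (R.opcycles a) := Module.Flat.of_linearEquiv
    (((cokernelIsCokernel (R.d (a - 1) a)).coconePointUniqueUpToIso
      (R.opcyclesIsCokernel (a - 1) a (by simp))).symm ≪≫
        ModuleCat.cokernelIsoRangeQuotient (R.d (a - 1) a)).toLinearEquiv
  let emb := ComplexShape.embeddingUpIntGE a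
  haveI : R.IsGE a := (CochainComplex.isGE_iff R a).2 fun i hi => by
    rw [HomologicalComplex.exactAt_iff_isZero_homology]
    exact (hzP i (Or.inl hi)).of_iso (asIso (HomologicalComplex.homologyMap ψ i))
  refine ⟨R.truncGE a, fun i hi => ?_, fun i => ?_,
    ⟨(asIso (DerivedCategory.Q.map (R.πTruncGE a))).symm ≪≫ eR⟩⟩
  · rcases hi with hi | hi
    · exact CochainComplex.isZero_of_isStrictlyGE _ a i hi
    · rcases lt_or_ge i a with hia | hia
      · exact CochainComplex.isZero_of_isStrictlyGE _ a i hia
      obtain ⟨n, rfl⟩ : ∃ n : ℕ, a + n = i := ⟨(i - a).toNat, by omega⟩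
      rcases Nat.eq_zero_or_pos n with rfl | hn
      · refine IsZero.of_iso ?_ (HomologicalComplex.truncGEXIsoOpcycles R emb (i := 0) rfl
          ((ComplexShape.boundaryGE_embeddingUpIntGE_iff a 0).2 rfl))
        exact IsZero.of_epi (R.pOpcycles (a + (0 : ℕ))) (hRb _ hi)
      · exact (hRb _ hi).of_iso (HomologicalComplex.truncGEXIso R emb (i := n) rfl
          (fun hb => by have := (ComplexShape.boundaryGE_embeddingUpIntGE_iff a n).1 hb; omega))
  · rcases lt_or_ge i a with hia | hia
    · haveI := ModuleCat.subsingleton_of_isZero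
        (CochainComplex.isZero_of_isStrictlyGE (R.truncGE a) a i hia)
      infer_instance
    obtain ⟨n, rfl⟩ : ∃ n : ℕ, a + n = i := ⟨(i - a).toNat, by omega⟩
    rcases Nat.eq_zero_or_pos n with rfl | hn
    · have hf : Module.Flat B (R.opcycles (a + (0 : ℕ))) := by
        rw [Nat.cast_zero, add_zero]; assumption
      exact (Module.Flat.equiv_iff (HomologicalComplex.truncGEXIsoOpcycles R emb (i := 0) rfl
        ((ComplexShape.boundaryGE_embeddingUpIntGE_iff a 0).2 rfl)).toLinearEquiv).2 hf
    · exact (Module.Flat.equiv_iff (HomologicalComplex.truncGEXIso R emb (i := n) rfl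
        (fun hb => by
          have := (ComplexShape.boundaryGE_embeddingUpIntGE_iff a n).1 hb; omega)).toLinearEquiv).2
          (hflat _)

theorem iff_restrict [Algebra.WeaklyEtale A B] (K : Dual.D B) (a b : ℤ) :
    DRing.HasTorAmplitudeIn A a b ((DRing.restrictD (algebraMap A B)).obj K) ↔
      DRing.HasTorAmplitudeIn B a b K := by
  refine ⟨of_restrict K a b, fun h => ?_⟩
  have := DRingTor.hasTorAmplitudeIn_restrictScalars (A := A) 0
    (by simpa using DRingTor.inD_of_flat (ModuleCat.of A B)) K a b h
  simpa using this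

theorem weaklyEtale_of_isHenzLike {R S : Type u} [CommRing R] [IsLocalRing R] [CommRing S]
    [Algebra R S] (h : Hensel.IsHenzLike R S) : Algebra.WeaklyEtale R S := by
  obtain ⟨L, _, _, _, _, ⟨e⟩⟩ := h
  exact S0736.result R S (Hensel.isIndEtale_of_algEquiv (Hensel.isIndEtale_henz R L) e)

end Groth.Agent.FlatB12.WEtTor
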