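import Groth.Agent.MorLib.WeightBaseChange
import Mathlib.AlgebraicGeometry.ZariskisMainTheorem

/-!
# Level sets of fibre integrals over affine schemes are quasi-compact

Test on the spectrum of a product of fields: there a quasi-finite affine morphism is finite, so the fibre
integral is locally constant.
-/

set_option autoImplicit false
set_option linter.style.haveILetI false

universe u

open AlgebraicGeometry CategoryTheory Limits TopologicalSpace

namespace Groth.Agent.FlatB12

/-- Over a ring in which all primes are maximal, quasi-finite affine schemes are finite. -/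
theorem isFinite_of_forall_isMaximal {X : Scheme.{u}} [IsAffine X] {R : Type u} [CommRing R]
    (hR : ∀ P : Ideal R, P.IsPrime → P.IsMaximal) (f : X ⟶ Spec (CommRingCat.of R)) [LocallyQuasiFinite f]
    [LocallyOfFiniteType f] : IsFinite f := by
  haveI : IsAffineHom f := isAffineHom_of_isAffine f
  haveI : IsAffine f.normalization := isAffine_of_isAffineHom f.fromNormalization
  let T := Γ(f.normalization, ⊤)
  let φ := (Scheme.ΓSpecIso (CommRingCat.of R)).inv ≫ f.fromNormalization.appTop
  letI : Algebra R T := φ.hom.toAlgebra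
  haveI : Algebra.IsIntegral R T := ⟨by
    have h1 : f.fromNormalization.appTop.hom.IsIntegral :=
      ((HasAffineProperty.iff_of_isAffine (P := @IsIntegralHom)).1 inferInstance).2
    exact RingHom.IsIntegral.trans _ _ (RingHom.IsIntegral.of_finite
      (RingHom.Finite.of_surjective _ (ConcreteCategory.bijective_of_isIso (Scheme.ΓSpecIso (CommRingCat.of R)).inv).2)) h1⟩
  have hmax : ∀ P : PrimeSpectrum T, P.asIdeal.IsMaximal := fun P =>
    Ideal.isMaximal_of_isIntegral_of_isMaximal_comap P.asIdeal (hR _ inferInstance)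
  haveI : IsClosedImmersion f.toNormalization := by
    refine IsClosedImmersion.of_isPreimmersion _ ?_
    let e := Scheme.homeoOfIso f.normalization.isoSpec
    have h1 : IsCompact (e '' Set.range f.toNormalization) :=
      (isCompact_range f.toNormalization.continuous).image e.continuous
    suffices h2 : IsClosed (e '' Set.range f.toNormalization) by simpa using h2.preimage e.continuous
    have ho : IsOpen (e '' Set.range f.toNormalization) := e.isOpenMap _ f.toNormalization.isOpenEmbedding.isOpen_range
    obtain ⟨s, hs, hU⟩ := (isCompact_open_iff_eq_finite_iUnion_of_isTopologicalBasis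
      (fun t : T => (PrimeSpectrum.basicOpen t : Set (PrimeSpectrum T))) PrimeSpectrum.isTopologicalBasis_basic_opens
      (fun t => PrimeSpectrum.isCompact_basicOpen t) _).1 ⟨h1, ho⟩
    rw [hU]
    refine hs.isClosed_biUnion fun t _ => ⟨isOpen_iff_forall_mem_open.2 fun P hP => ?_⟩
    have htP : t ∈ P.asIdeal := not_not.1 hP
    obtain ⟨n, v, hv, h0⟩ : ∃ (n : ℕ) (v : T), v ∉ P.asIdeal ∧ v * t ^ n = 0 := by
      by_contra hall
      push Not at hall
      let M : Submonoid T := P.asIdeal.primeCompl ⊔ Submonoid.powers t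
      have hM : Disjoint ((⊥ : Ideal T) : Set T) (M : Set T) := Set.disjoint_left.2 fun x hx hxM => by
        obtain ⟨v, hv, _, ⟨n, rfl⟩, he⟩ := Submonoid.mem_sup.1 hxM
        exact hall n v hv (he.trans hx)
      obtain ⟨Q, hQp, -, hQ⟩ := Ideal.exists_le_prime_disjoint ⊥ M hM
      have hQP : Q ≤ P.asIdeal := fun x hx => by
        by_contra hxP
        exact Set.disjoint_left.1 hQ hx (le_sup_left (a := P.asIdeal.primeCompl) (b := Submonoid.powers t) hxP)
      have := (hmax ⟨Q, hQp⟩).eq_of_le P.2.ne_top hQP
      exact Set.disjoint_left.1 hQ (show t ∈ Q from (SetLike.ext_iff.1 this t).2 htP)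
        (le_sup_right (a := P.asIdeal.primeCompl) (b := Submonoid.powers t) (Submonoid.mem_powers t))
    refine ⟨(PrimeSpectrum.basicOpen v : Set (PrimeSpectrum T)), fun Q hQ hQt => ?_, (PrimeSpectrum.basicOpen v).2, hv⟩
    rcases Q.2.mem_or_mem (h0 ▸ Q.asIdeal.zero_mem : v * t ^ n ∈ Q.asIdeal) with h | h
    · exact hQ h
    · exact hQt (Q.2.mem_of_pow_mem n h)
  haveI : IsIntegralHom f := by
    rw [← f.toNormalization_fromNormalization]
    infer_instance
  exact (IsFinite.iff_isIntegralHom_and_locallyOfFiniteType f).2 ⟨inferInstance, inferInstance⟩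

/-- The level sets of the fibre integral of a weighting over an affine scheme are quasi-compact. -/
theorem isCompact_fibreIntegral_eq {X Y : Scheme.{u}} [IsAffine X] [IsAffine Y] (f : X ⟶ Y) [LocallyQuasiFinite f]
    [LocallyOfFiniteType f] {w : X → ℤ} (hw : MoreMor.IsWeighting f w) (d : ℤ) :
    IsCompact {y : Y | MoreMor.fibreIntegral f w y = d} := by
  classical
  haveI : IsAffineHom f := isAffineHom_of_isAffine f
  set S := {y : Y | MoreMor.fibreIntegral f w y = d}
  let P : Y → PrimeSpectrum Γ(Y, ⊤) := fun y => Y.isoSpec.hom y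
  let R := ∀ y : S, (P y.1).asIdeal.ResidueField
  let φ : Γ(Y, ⊤) →+* R := RingHom.pi fun y => algebraMap Γ(Y, ⊤) _
  let g : Spec (CommRingCat.of R) ⟶ Y := Spec.map (CommRingCat.ofHom φ) ≫ Y.isoSpec.inv
  have hR : ∀ Q : Ideal R, Q.IsPrime → Q.IsMaximal := fun Q hQ => by
    refine Ideal.isMaximal_iff.2 ⟨fun h => hQ.ne_top ((Ideal.eq_top_iff_one _).2 h), fun J a hQJ haQ haJ => ?_⟩
    have h1 : a * (1 - a * fun y => (a y)⁻¹) = 0 := funext fun y => by
      show a y * (1 - a y * (a y)⁻¹) = 0
      by_cases h : a y = 0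
      · rw [h, zero_mul]
      · rw [mul_inv_cancel₀ h, sub_self, mul_zero]
    have h2 : 1 - a * (fun y => (a y)⁻¹) ∈ Q :=
      (hQ.mem_or_mem (h1 ▸ Q.zero_mem)).resolve_left haQ
    have h3 := J.add_mem (hQJ h2) (J.mul_mem_right (fun y => (a y)⁻¹) haJ)
    simpa using h3
  haveI : IsAffine (pullback f g) := inferInstance
  haveI : IsFinite (pullback.snd f g) := isFinite_of_forall_isMaximal hR _
  haveI : IsIso (⊤ : (pullback f g).Opens).ι := (pullback f g).topIso.isIso_hom
  let π := pullback.snd f g
  let L : Spec (CommRingCat.of R) → ℤ := fun r => MoreMor.fibreIntegral f w (g r)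
  have hL : IsLocallyConstant L := by
    haveI : IsIso (pullback.fst π (𝟙 (Spec (CommRingCat.of R)))) := inferInstance
    haveI : IsFinite (pullback.snd π (𝟙 (Spec (CommRingCat.of R)))) := inferInstance
    haveI : IsIso (⊤ : (pullback π (𝟙 (Spec (CommRingCat.of R)))).Opens).ι := (pullback π (𝟙 _)).topIso.isIso_hom
    have h := MorLib.WT.isWeighting_baseChange hw (IsPullback.of_hasPullback f g) (Spec (CommRingCat.of R)) (𝟙 _) ⊤
      inferInstance
    convert h using 1
    funext r
    show _ = MorLib.WT.fiOn (pullback.snd π (𝟙 _)) ⊤ ((w ∘ ⇑(pullback.fst f g)) ∘ ⇑(pullback.fst π (𝟙 _))) r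
    rw [MorLib.WT.fiOn_top]
    exact ((MorLib.GF.fibreIntegral_baseChange (IsPullback.of_hasPullback π (𝟙 _)) _ r
      (Scheme.Hom.finite_preimage_singleton _ _)).trans
      (MorLib.GF.fibreIntegral_baseChange (IsPullback.of_hasPullback f g) w r
        (Scheme.Hom.finite_preimage_singleton _ _))).symm
  have hrange : Set.range g = S := by
    let c : S → PrimeSpectrum R := fun y => PrimeSpectrum.comap (Pi.evalRingHom _ y) ⟨⊥, Ideal.isPrime_bot⟩
    have hc : ∀ y : S, g (c y) = y.1 := fun y => by
      have h1 : PrimeSpectrum.comap φ (c y) = P y.1 := PrimeSpectrum.ext (by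
        show Ideal.comap φ (Ideal.comap _ ⊥) = _
        rw [Ideal.comap_comap, ← RingHom.ker_eq_comap_bot]
        exact Ideal.ker_algebraMap_residueField _)
      show Y.isoSpec.inv (PrimeSpectrum.comap φ (c y)) = y.1
      rw [h1]
      show (Y.isoSpec.hom ≫ Y.isoSpec.inv) y.1 = y.1
      rw [Iso.hom_inv_id]
      rfl
    refine Set.Subset.antisymm ?_ fun y hy => ⟨c ⟨y, hy⟩, hc _⟩
    rintro _ ⟨r, rfl⟩
    have hcl : IsClosed (L ⁻¹' {d}) := (hL.isClosed_fiber d)
    have hdense : closure (Set.range c) = Set.univ := by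
      rw [← PrimeSpectrum.zeroLocus_vanishingIdeal_eq_closure, Set.eq_univ_iff_forall]
      intro q
      rw [PrimeSpectrum.mem_zeroLocus]
      intro a ha
      have : a = 0 := funext fun y => by
        have := (PrimeSpectrum.mem_vanishingIdeal _ _).1 ha (c y) ⟨y, rfl⟩
        exact this
      rw [this]
      exact q.asIdeal.zero_mem
    have hsub : closure (Set.range c) ⊆ L ⁻¹' {d} := closure_minimal (by
      rintro _ ⟨y, rfl⟩
      show MoreMor.fibreIntegral f w (g (c y)) = d
      rw [hc]
      exact y.2) hcl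
    exact hsub (hdense ▸ Set.mem_univ r)
  rw [← hrange]
  exact isCompact_range g.continuous

end Groth.Agent.FlatB12
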