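import Groth.Agent.FlatB12.AffineDescent
import Groth.Agent.FlatB12.WeightAIC
import Groth.Agent.FlatB12.WeightCompact

/-! The locus where a positive weighting of a morphism of affine schemes attains its bound is affine. -/

set_option autoImplicit false
set_option linter.style.haveILetI false

universe u

open AlgebraicGeometry CategoryTheory Limits TopologicalSpace

namespace Groth.Agent.FlatB12

/-- The locus where a positive weighting of a morphism of affine schemes attains an upper bound is affine. -/
theorem isAffineOpen_max {X Y : Scheme.{u}} [IsAffine X] [IsAffine Y] (f : X ⟶ Y) [LocallyQuasiFinite f]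
    [LocallyOfFiniteType f] {w : X → ℤ} (hw : MoreMor.IsWeighting f w) (hpos : ∀ x, 0 < w x) (d : ℤ)
    (hmax : ∀ y, MoreMor.fibreIntegral f w y ≤ d) (U : Y.Opens)
    (hU : ∀ y, y ∈ U ↔ MoreMor.fibreIntegral f w y = d) : IsAffineOpen U := by
  haveI : IsAffineHom f := isAffineHom_of_isAffine f
  have hc : IsCompact (U : Set Y) := by
    rw [show (U : Set Y) = {y | MoreMor.fibreIntegral f w y = d} from Set.ext hU]
    exact isCompact_fibreIntegral_eq f hw d
  refine isAffineOpen_of_forall_absIntClosed U hc fun B _ _ _ _ g => ?_
  haveI : IsAffine (pullback f g) := inferInstance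
  have hint : ∀ v, MoreMor.fibreIntegral (pullback.snd f g) (w ∘ ⇑(pullback.fst f g)) v =
      MoreMor.fibreIntegral f w (g v) := fun v =>
    MorLib.GF.fibreIntegral_baseChange (IsPullback.of_hasPullback f g) w v (Scheme.Hom.finite_preimage_singleton _ _)
  exact isAffineOpen_max_of_absIntClosed (pullback.snd f g)
    (MorLib.WT.isWeighting_baseChange hw (IsPullback.of_hasPullback f g)) (fun x => hpos _) d
    (fun v => (hint v).trans_le (hmax _)) _ fun v => (hU (g v)).trans (by rw [hint v])

end Groth.Agent.FlatB12
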