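import Groth.Agent.FlatB12.WeightMaxAffine
import Groth.Agent.FlatB12.AffineImage
import Groth.Agent.MorLib.WeightPositive
import Groth.Agent.MorLib.WeightBaseChange

/-!
# The strata of the fibre integral of a positive weighting are affine
-/

set_option autoImplicit false
set_option linter.style.haveILetI false

universe u

open AlgebraicGeometry CategoryTheory Limits TopologicalSpace

namespace Groth.Agent.FlatB12

/-- For a positive weighting of a morphism from an affine scheme to a separated scheme, the locus where the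
fibre integral attains its maximum is affine. -/
theorem exists_isAffineOpen_max {X Y : Scheme.{u}} [IsAffine X] [Y.IsSeparated] (f : X ⟶ Y) [Surjective f]
    [LocallyQuasiFinite f] [LocallyOfFiniteType f] [QuasiCompact f] {w : X → ℤ} (hw : MoreMor.IsWeighting f w)
    (hpos : ∀ x, 0 < w x) (d : ℤ) (hmax : ∀ y, MoreMor.fibreIntegral f w y ≤ d)
    (hatt : ∃ y, MoreMor.fibreIntegral f w y = d) :
    ∃ U : Y.Opens, IsAffineOpen U ∧ (U : Set Y) = {y | MoreMor.fibreIntegral f w y = d} := by
  haveI : IsAffineHom f :=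
    haveI : IsAffineHom (f ≫ Limits.terminal.from Y) := inferInstance
    IsAffineHom.of_comp f (Limits.terminal.from Y)
  obtain ⟨hopen, hfin⟩ := MorLib.WT.finite_over_max (fun y => f.finite_preimage_singleton y) hw hpos d hmax
  let U : Y.Opens := ⟨_, hopen⟩
  haveI : IsFinite (f ∣_ U) := hfin
  haveI : IsAffineHom U.ι := by
    refine ⟨fun V hV => ?_⟩
    haveI : IsAffine (V : Scheme.{u}) := hV
    haveI : IsAffine (f ⁻¹ᵁ V : Scheme.{u}) := hV.preimage f
    have hc := (isPullback_morphismRestrict f V).flip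
    haveI : LocallyQuasiFinite (f ∣_ V) := MorphismProperty.of_isPullback hc inferInstance
    haveI : LocallyOfFiniteType (f ∣_ V) := MorphismProperty.of_isPullback hc inferInstance
    have hint : ∀ v, MoreMor.fibreIntegral (f ∣_ V) (w ∘ ⇑(f ⁻¹ᵁ V).ι) v = MoreMor.fibreIntegral f w (V.ι v) :=
      fun v => MorLib.GF.fibreIntegral_baseChange hc w v (f.finite_preimage_singleton _)
    have h1 : IsAffineOpen (V.ι ⁻¹ᵁ U) :=
      isAffineOpen_max (f ∣_ V) (MorLib.WT.isWeighting_baseChange hw hc) (fun x => hpos _) d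
        (fun v => (hint v).trans_le (hmax _)) _
        fun v => Iff.trans (Iff.rfl : v ∈ V.ι ⁻¹ᵁ U ↔ MoreMor.fibreIntegral f w (V.ι v) = d)
          ⟨fun h => (hint v).trans h, fun h => (hint v).symm.trans h⟩
    have h2 : IsAffineOpen (U ⊓ V) := by
      have := h1.image_of_isOpenImmersion V.ι
      rwa [Scheme.Hom.image_preimage_eq_opensRange_inf, Scheme.Opens.opensRange_ι, inf_comm] at this
    rw [← U.ι.isAffineOpen_iff_of_isOpenImmersion, Scheme.Hom.image_preimage_eq_opensRange_inf, Scheme.Opens.opensRange_ι]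
    exact h2
  haveI : IsAffineHom (f ⁻¹ᵁ U).ι :=
    MorphismProperty.of_isPullback (isPullback_morphismRestrict f U) inferInstance
  haveI : IsAffine (f ⁻¹ᵁ U : Scheme.{u}) := isAffine_of_isAffineHom (f ⁻¹ᵁ U).ι
  haveI : Surjective (f ∣_ U) := MorphismProperty.of_isPullback (isPullback_morphismRestrict f U).flip inferInstance
  exact ⟨U, AffineImage.isAffine_of_surjective (f ∣_ U), rfl⟩

/-- The level sets of the fibre integral of a positive weighting are images of affine immersions. -/
theorem exists_affine_stratum {X Y : Scheme.{u}} [IsAffine X] [Y.IsSeparated] (f : X ⟶ Y) [Surjective f]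
    [LocallyQuasiFinite f] [LocallyOfFiniteType f] [QuasiCompact f] {w : X → ℤ} (hw : MoreMor.IsWeighting f w)
    (hpos : ∀ x, 0 < w x) (d : ℤ) (hatt : ∃ y, MoreMor.fibreIntegral f w y = d) :
    ∃ (Z : Scheme.{u}) (ι : Z ⟶ Y), IsImmersion ι ∧ IsAffine Z ∧ IsAffineHom ι ∧
      Set.range ι = {y | MoreMor.fibreIntegral f w y = d} := by
  haveI : IsSeparated f :=
    haveI : IsSeparated (f ≫ Limits.terminal.from Y) := inferInstance
    IsSeparated.of_comp f (Limits.terminal.from Y)
  have hlsc := MorLib.WT.lowerSemicontinuous_fibreIntegral (fun y => f.finite_preimage_singleton y) hw hpos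
  let C : Closeds Y := ⟨{y | MoreMor.fibreIntegral f w y ≤ d}, hlsc.isClosed_preimage d⟩
  let I : Y.IdealSheafData := Scheme.IdealSheafData.vanishingIdeal C
  have hr : Set.range I.subschemeι = {y | MoreMor.fibreIntegral f w y ≤ d} := by
    rw [Scheme.IdealSheafData.range_subschemeι, Scheme.IdealSheafData.coe_support_vanishingIdeal]
    rfl
  let f' : pullback f I.subschemeι ⟶ I.subscheme := pullback.snd f I.subschemeι
  let p : pullback f I.subschemeι ⟶ X := pullback.fst f I.subschemeι
  have hc : IsPullback p f' f I.subschemeι := IsPullback.of_hasPullback f I.subschemeι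
  haveI : IsAffine (pullback f I.subschemeι) := isAffine_of_isAffineHom p
  haveI : I.subscheme.IsSeparated := ⟨by
    rw [terminal.hom_ext (Limits.terminal.from I.subscheme) (I.subschemeι ≫ Limits.terminal.from Y)]
    infer_instance⟩
  haveI : Surjective f' := MorphismProperty.pullback_snd _ _ inferInstance
  haveI : LocallyQuasiFinite f' := MorphismProperty.pullback_snd _ _ inferInstance
  haveI : LocallyOfFiniteType f' := MorphismProperty.pullback_snd _ _ inferInstance
  haveI : QuasiCompact f' := MorphismProperty.pullback_snd _ _ inferInstance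
  have hint : ∀ v, MoreMor.fibreIntegral f' (w ∘ ⇑p) v = MoreMor.fibreIntegral f w (I.subschemeι v) :=
    fun v => MorLib.GF.fibreIntegral_baseChange hc w v (f.finite_preimage_singleton _)
  obtain ⟨y, hy⟩ := hatt
  obtain ⟨z, hz⟩ : y ∈ Set.range I.subschemeι := hr.ge hy.le
  obtain ⟨U, hU, hUs⟩ := exists_isAffineOpen_max f' (MorLib.WT.isWeighting_baseChange hw hc) (fun x => hpos _) d
    (fun v => (hint v).trans_le (hr.le ⟨v, rfl⟩)) ⟨z, by rw [hint, hz, hy]⟩
  haveI : IsAffine (U : Scheme.{u}) := hU
  let ι : (U : Scheme.{u}) ⟶ Y := U.ι ≫ I.subschemeι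
  haveI : IsAffineHom ι :=
    haveI : IsAffineHom (ι ≫ Limits.terminal.from Y) := inferInstance
    IsAffineHom.of_comp ι (Limits.terminal.from Y)
  refine ⟨U, ι, inferInstance, hU, inferInstance, ?_⟩
  rw [show ⇑ι = ⇑I.subschemeι ∘ ⇑U.ι from rfl, Set.range_comp, Scheme.Opens.range_ι, hUs]
  ext v
  constructor
  · rintro ⟨v', hv', rfl⟩
    exact (hint v').symm.trans hv'
  · intro hv
    obtain ⟨v', rfl⟩ : v ∈ Set.range I.subschemeι := hr.ge (le_of_eq hv)
    exact ⟨v', (hint v').trans hv, rfl⟩

end Groth.Agent.FlatB12
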